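import Mathlib
import Cfsg.Agent.Lib.McLRec.T3
import Cfsg.Agent.Lib.Transfer.Frobenius

/-!
The 3-local characterisation of the Harada–Norton group: the centraliser of a 3-central element.
-/

set_option autoImplicit false
set_option maxHeartbeats 400000
set_option linter.unusedSectionVars false

namespace CfsgLib.HN3

open Subgroup Cfsg CfsgLib.Tech CfsgLib.W2 CfsgLib.Rec3 TG CfsgLib.McLRec.Three

variable {G : Type*} [Group G]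

/-- the hypotheses on `C(z) = L` and `Q = O₃(L)` -/
structure Hy (z : G) (Q L : Subgroup G) (η : L →* S25) : Prop where
  hL : ∀ {g}, g ∈ L ↔ g ∈ Cx z
  z3 : orderOf z = 3
  ηs : ∀ a, ∃ g, Im η g a
  ηk : ∀ g, Im η g 1 ↔ g ∈ Q
  cQ : Nat.card Q = 243
  Q3 : ∀ x ∈ Q, x ^ 3 = 1
  Qc : ∀ x ∈ Q, ∀ y ∈ Q, Cj (zpowers z) x y y
  zQ : z ∈ Q
  CQ : ∀ g, (∀ x ∈ Q, g * x = x * g) → g ∈ zpowers z
  syl : ¬ 3 ∣ L.relIndex ⊤

theorem three25 : ∀ γ : S25, γ ^ 3 = 1 → ∀ δ : S25, δ ^ 3 = 1 → (γ * δ) ^ 3 = 1 →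
    γ = 1 ∨ δ = 1 ∨ δ = γ ∨ δ = γ⁻¹ := by decide +kernel

theorem cj_mem {Z : Subgroup G} {x g : G} (h1 : g ∈ normalizer (Z : Set G)) (h2 : Cj Z g x x) :
    g ∈ cjC Z {x} := ⟨h1, fun _ e => e ▸ h2.symm⟩

theorem cj_of {Z : Subgroup G} {x g : G} (h : g ∈ cjC Z {x}) : Cj Z g x x := (h.2 x rfl).symm

theorem cj_comm {Z : Subgroup G} {x g : G} (h : g ∈ Cx x) : Cj Z g x x := by
  rw [Cj, mem_Cx'.1 h, mul_inv_cancel]; exact one_mem _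

variable [Finite G]

theorem zp_cube {z c : G} (hz : z ^ 3 = 1) (hc : c ∈ zpowers z) : c ^ 3 = 1 := by
  rcases zp3_cases hz hc with rfl | rfl | rfl <;> simp [hz]

namespace Hy

variable {z : G} {Q L : Subgroup G} {η : L →* S25} (h : Hy z Q L η)
include h

theorem conj (k : G) : ∃ η' : cj k L →* S25, Hy (k * z * k⁻¹) (cj k Q) (cj k L) η' := by
  let η' : cj k L →* S25 := MonoidHom.mk' (fun g => η ⟨k⁻¹ * g * k, mem_cj.1 g.2⟩) fun a b => by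
    rw [← map_mul]; congr 1; ext; simp [mul_assoc]
  have e : ∀ g a, Im η' g a ↔ Im η (k⁻¹ * g * k) a := fun g a =>
    ⟨fun ⟨h1, h2⟩ => ⟨mem_cj.1 h1, h2⟩, fun ⟨h1, h2⟩ => ⟨mem_cj.2 h1, h2⟩⟩
  refine ⟨η', fun {g} => ?_, by rw [ord_conj, h.z3], fun a => ?_, fun g => by rw [e, h.ηk, mem_cj],
    by rw [card_cj, h.cQ], ?_, ?_, conj_mem_cj.2 h.zQ, fun g hg => ?_, ?_⟩
  · rw [← cj_Cx, mem_cj, mem_cj, h.hL]
  · obtain ⟨g, hg⟩ := h.ηs a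
    exact ⟨k * g * k⁻¹, (e _ _).2 (by simpa [mul_assoc] using hg)⟩
  · rintro _ ⟨x, hx, rfl⟩
    rw [← map_pow, h.Q3 x hx, map_one]
  · rintro _ ⟨x, hx, rfl⟩ _ ⟨y, hy, rfl⟩
    rw [← cj_zpowers, Cj, ← map_inv, ← map_inv, ← map_mul, ← map_mul, ← map_mul]
    exact mem_map_of_mem _ (h.Qc x hx y hy)
  · rw [← cj_zpowers, mem_cj]
    refine h.CQ _ fun x hx => ?_
    calc _ = k⁻¹ * (g * (k * x * k⁻¹)) * k := by group
      _ = _ := by rw [hg _ (conj_mem_cj.2 hx)]; group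
  · rw [← cj_top k, relIndex_cj]; exact h.syl

theorem inv : Hy z⁻¹ Q L η :=
  { h with
    hL := fun {g} => by rw [h.hL, Cx_comm, ← inv_mem_iff, Cx_comm]
    z3 := by rw [orderOf_inv, h.z3]
    Qc := by rw [zpowers_inv]; exact h.Qc
    zQ := inv_mem h.zQ
    CQ := by rw [zpowers_inv]; exact h.CQ }

theorem conjη (k : S25) : ∃ η' : L →* S25, Hy z Q L η' ∧
    ∀ g a, Im η' g (k * a * k⁻¹) ↔ Im η g a := by
  obtain ⟨η', e⟩ := Im.exists_conj η k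
  have e' : ∀ g a, Im η' g a ↔ Im η g (k⁻¹ * a * k⁻¹⁻¹) := fun g a => by
    rw [← e]; simp [mul_assoc]
  exact ⟨η', { h with
    ηs := fun a => (h.ηs _).imp fun g hg => (e' g a).2 hg
    ηk := fun g => by rw [e', ← h.ηk]; simp }, e⟩

theorem zz : z ^ 3 = 1 := h.z3 ▸ pow_orderOf_eq_one z

theorem z1 : z ≠ 1 := fun e => by simpa [e] using h.z3

theorem cZ : Nat.card (zpowers z) = 3 := by rw [Nat.card_zpowers, h.z3]

theorem QL : Q ≤ L := fun g hg => ((h.ηk g).2 hg).mem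

theorem Qz : Q ≤ Cx z := fun _ hg => h.hL.1 (h.QL hg)

theorem pQ : IsPGroup 3 Q := isPGroup_iff_mem.2 fun x hx => ⟨1, h.Q3 x hx⟩

theorem ZQ : zpowers z ≤ Q := zpowers_le.2 h.zQ

theorem im {g : G} (hg : g ∈ Cx z) : ∃ a, Im η g a := Im.of_mem η (h.hL.2 hg)

theorem imz {g : G} {a : S25} (hg : Im η g a) : g ∈ Cx z := h.hL.1 hg.mem

omit h in
theorem cen {g c : G} (hg : g ∈ Cx z) (hc : c ∈ zpowers z) : g * c = c * g :=
  (mem_Cx.1 ((zpowers_le.2 (Cx_comm.1 hg) : _ ≤ Cx g) hc)).symm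

theorem zQN {g : G} (hg : g ∈ Cx z) : g ∈ normalizer (Q : Set G) :=
  mem_normalizer_of_forall fun x hx => by
    obtain ⟨a, ha⟩ := h.im hg
    exact (h.ηk _).1 ((ha.conj ((h.ηk x).2 hx)).of_eq (by simp))

theorem uniq {Q' L' : Subgroup G} {η' : L' →* S25} (h' : Hy z Q' L' η') : Q' = Q :=
  eq_of_le_of_card_ge (fun x hx => by
    obtain ⟨a, ha⟩ := h.im (h'.Qz hx)
    rcases (by decide +kernel : ∀ γ : S25, γ ^ 3 = 1 → γ = 1 ∨ ∃ k : S25,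
      (γ * (k * γ * k⁻¹)) ^ 3 ≠ 1) a ((ha.pow 3).eq_one (h'.Q3 x hx)) with rfl | ⟨k, e⟩
    · exact (h.ηk x).1 ha
    · obtain ⟨g, hg⟩ := h.ηs k
      exact absurd (((ha.mul (hg.conj ha)).pow 3).eq_one (h'.Q3 _ (mul_mem hx
        (conj_mem_of_mem_normalizer (h'.zQN (h.imz hg)) hx)))) e) (by rw [h.cQ, h'.cQ])

theorem cj_eq {y g : G} {Q' L' : Subgroup G} {η' : L' →* S25} (h' : Hy y Q' L' η')
    (e : g * z * g⁻¹ = y ∨ g * z * g⁻¹ = y⁻¹) : cj g Q = Q' := by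
  obtain ⟨η₁, h1⟩ := h.conj g
  rcases e with e | e <;> rw [e] at h1
  exacts [h'.uniq h1, h'.inv.uniq h1]

theorem NQ {g : G} (e : g * z * g⁻¹ = z ∨ g * z * g⁻¹ = z⁻¹) : g ∈ normalizer (Q : Set G) :=
  mem_normalizer_iff_cj.2 (h.cj_eq h e)

theorem idx3 {A : Subgroup G} (hA : A ≤ Q) {x : G} (hx : x ∈ Q) :
    Nat.card A ≤ 3 * Nat.card (A ⊓ Cx x : Subgroup G) := by
  let χ : A →* G := MonoidHom.mk' (fun a => x * a * x⁻¹ * (a : G)⁻¹) fun a b => by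
    have := cen (h.Qz (hA a.2)) (h.Qc x hx b (hA b.2))
    calc _ = x * a * x⁻¹ * (a : G)⁻¹ * (a * (x * b * x⁻¹ * (b : G)⁻¹) * (a : G)⁻¹) := by
          rw [Subgroup.coe_mul]; group
      _ = _ := by rw [this]; group
  have h5 := card_le_of_le (show χ.range ≤ zpowers z by
    rintro _ ⟨a, rfl⟩; exact h.Qc x hx a (hA a.2))
  have h6 := card_le_of_le (show χ.ker.map A.subtype ≤ A ⊓ Cx x by
    rintro _ ⟨a, ha, rfl⟩
    exact ⟨a.2, Cx_comm.1 (mem_Cx'.2 (mul_inv_eq_one.1 ha))⟩)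
  rw [card_map_of_injective A.subtype_injective] at h6
  rw [← χ.ker.card_mul_index, index_ker, mul_comm]
  exact Nat.mul_le_mul (h.cZ ▸ h5) h6

theorem not81 {A : Subgroup G} (hA : A ≤ Q) (hc : ∀ a ∈ A, ∀ b ∈ A, a * b = b * a)
    (h81 : 81 ≤ Nat.card A) : False := by
  by_cases hQ : Q ≤ A
  · have := card_le_of_le (show Q ≤ zpowers z from fun g hg => h.CQ g fun x hx =>
      hc g (hQ hg) x (hQ hx))
    rw [h.cQ, h.cZ] at this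
    omega
  obtain ⟨x, hx, hxA⟩ := SetLike.not_le_iff_exists.1 hQ
  have h1 := card_mul_relIndex' hA
  have h2 : A.relIndex Q ≠ 1 := fun e => hQ (relIndex_eq_one.1 e)
  have h3 : Nat.card A = 81 := by
    rw [h.cQ] at h1
    generalize A.relIndex Q = k at h1 h2
    have : k < 4 := by nlinarith
    interval_cases k <;> omega
  have h4 := h.idx3 hA hx
  have h6 := card_le_of_le (show A ⊓ Cx x ≤ zpowers z from fun a ha =>
    h.CQ _ fun y hy => (mem_Cx.1 ((eq_of_three (C := Q ⊓ Cx a) (le_inf hA fun b hb =>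
      mem_Cx.2 (hc b hb a ha.1)) inf_le_left (by rw [h.cQ, h3]) ⟨hx, Cx_comm.1 ha.2⟩ hxA).ge hy).2).symm)
  rw [h.cZ] at h6
  omega

theorem mem_of_cent {A : Subgroup G} (hA : A ≤ Q) (hc : ∀ a ∈ A, ∀ b ∈ A, a * b = b * a)
    (h27 : 27 ≤ Nat.card A) {x : G} (hx : x ∈ Q) (hx' : ∀ a ∈ A, x * a = a * x) : x ∈ A := by
  by_contra hn
  have hB : A ⊔ zpowers x ≤ Q := sup_le hA (zpowers_le.2 hx)
  refine h.not81 hB (comm_sup hc hx') ?_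
  have h1 := card_mul_relIndex' (le_sup_left : A ≤ A ⊔ zpowers x)
  have h2 : A.relIndex (A ⊔ zpowers x) ≠ 1 := fun e =>
    hn (relIndex_eq_one.1 e (mem_sup_right (mem_zpowers x)))
  have h3 := (Dvd.intro_left _ h1).trans (card_dvd_of_le hB)
  rw [h.cQ] at h3
  rw [← h1]
  generalize A.relIndex (A ⊔ zpowers x) = k at *
  have : 3 ≤ k := by
    by_contra h4
    have : k < 3 := by omega
    interval_cases k <;> simp at *
  nlinarith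

theorem five' {w : G} (h1 : w ∈ Cx z) (h2 : w ^ 5 = 1) (h3 : w ∉ Q) {D : Subgroup G}
    (h4 : zpowers z ≤ D) (h5 : D < Q ∨ D = Q ⊓ Cx w) (h6 : w ∈ normalizer (D : Set G)) :
    D ≤ zpowers z := by
  have : Fact (Nat.Prime 5) := ⟨by norm_num⟩
  have k : ∀ D, zpowers z ≤ D → D < Q → Nat.card D ≡ 3 [MOD 5] → D ≤ zpowers z := fun D a b c => by
    obtain ⟨i, a1, a2⟩ := (Nat.dvd_prime_pow Nat.prime_three (m := 5)).1 (h.cQ ▸ card_dvd_of_le b.le :)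
    have a3 : Nat.card D ≠ 243 := fun e => b.ne (eq_of_le_of_card_ge b.le (by rw [e, h.cQ]))
    refine (eq_of_le_of_card_ge a ?_).ge
    rw [h.cZ]
    rw [a2] at a3 c ⊢
    revert a3 c
    interval_cases i <;> decide
  have a1 : Q ⊓ Cx w ≤ zpowers z := k _ (le_inf h.ZQ (zpowers_le.2 (Cx_comm.1 h1)))
    (inf_le_left.lt_of_ne fun e => h3 (h.ZQ (h.CQ w fun x hx => (mem_Cx.1 (e.ge hx).2).symm)))
    (by have := (Transfer.card_modEq_card_inf_centralizer (q := 5) (h.zQN h1) ⟨1, h2⟩).symm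
        rw [h.cQ] at this
        exact this.trans (by decide))
  rcases h5 with h5 | rfl
  · refine k D h4 h5 ?_
    have := Transfer.card_modEq_card_inf_centralizer (q := 5) h6 ⟨1, h2⟩
    rwa [le_antisymm ((inf_le_inf_right _ h5.le).trans a1) (le_inf h4 (zpowers_le.2 (Cx_comm.1 h1))),
      h.cZ] at this
  · exact a1

theorem five {g v : G} {γ : S25} (h1 : Im η g γ) (h2 : γ ^ 5 = 1) (h3 : γ ≠ 1) (hv : v ∈ Q)
    (e : Cj (zpowers z) g v v) : v ∈ zpowers z := by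
  have a1 := h.Q3 _ ((h.ηk _).1 ((h1.pow 5).of_eq h2))
  have a2 : (g ^ 6) ^ 5 = 1 := by
    rw [← pow_mul] at a1 ⊢
    rw [show 6 * 5 = 5 * 3 * 2 from rfl, pow_mul, a1, one_pow]
  have a3 := (h1.pow 6).of_eq (show _ = γ by rw [pow_succ, h2, one_mul])
  have a4 := cj_of (pow_mem (cj_mem (Cx_le_norm z (h.imz h1)) e) 6)
  generalize g ^ 6 = w at a2 a3 a4
  have a5 : ∀ n : ℕ, w ^ n * v * (w ^ n)⁻¹ = (w * v * w⁻¹ * v⁻¹) ^ n * v := fun n => by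
    induction n with
    | zero => simp
    | succ n ih =>
      calc _ = w * (w ^ n * v * (w ^ n)⁻¹) * w⁻¹ := by rw [pow_succ']; group
        _ = _ := by rw [ih, ← mul_assoc, cen (h.imz a3) (pow_mem a4 n), pow_succ]; group
  have a6 := a5 5
  rw [a2, one_mul, inv_one, mul_one, right_eq_mul] at a6
  have a7 := pow_gcd_eq_one.2 ⟨a6, zp_cube h.zz a4⟩
  exact h.five' (h.imz a3) a2 (fun a => h3 (a3.uniq ((h.ηk w).2 a)))
    (le_inf h.ZQ (zpowers_le.2 (Cx_comm.1 (h.imz a3)))) (Or.inr rfl)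
    (mem_normalizer_of_forall fun x hx => by rwa [mem_Cx'.1 (Cx_comm.1 hx.2)])
    ⟨hv, Cx_comm.1 (mem_Cx'.2 (mul_inv_eq_one.1 (by simpa using a7)))⟩

theorem inv_m1 {r x : G} (hr : Im η r m1) (hx : x ∈ Q) : Cj (zpowers z) r x x⁻¹ := by
  obtain ⟨g, a1⟩ := h.ηs (w0 * m1)
  have a2 := h.Q3 _ ((h.ηk _).1 ((a1.pow 10).of_eq (by decide +kernel)))
  have a3 : (g ^ 105) ^ 2 = 1 := by
    rw [← pow_mul] at a2 ⊢
    rw [show 105 * 2 = 10 * 3 * 7 from rfl, pow_mul, a2, one_pow]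
  have a4 : (g ^ 6) ^ 5 = 1 := by rwa [← pow_mul] at a2 ⊢
  have a5 : Im η (g ^ 105) m1 := (a1.pow 105).of_eq (by decide +kernel)
  have a6 := (a1.pow 6).of_eq (by decide +kernel : _ = w0)
  have a7 : g ^ 6 ∈ Cx (g ^ 105) := mem_Cx.2 (pow_mul_comm g 6 105)
  generalize g ^ 105 = s at a3 a5 a7
  have a8 := h.five' (h.imz a6) a4 (fun a => absurd (a6.uniq ((h.ηk _).2 a)) (by decide +kernel))
    (D := Q ⊓ Cx s) (le_inf h.ZQ (zpowers_le.2 (Cx_comm.1 (h.imz a5))))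
    (Or.inl (inf_le_left.lt_of_ne fun e => absurd (a5.uniq ((h.ηk _).2 (h.ZQ (h.CQ s fun x hx =>
      (mem_Cx.1 (e.ge hx).2).symm)))) (by decide +kernel)))
    (mem_normalizer_of_forall fun x hx => ⟨conj_mem_of_mem_normalizer (h.zQN (h.imz a6)) hx.1,
      mem_Cx'.1 a7 ▸ conj_mem_Cx.2 hx.2⟩)
  have b1 := conj_mem_of_mem_normalizer (h.zQN (h.imz a5)) hx
  have b2 := h.Qc _ hx _ b1
  have b3 : ∀ y, s * (s * y * s⁻¹) * s⁻¹ = y := fun y => by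
    calc _ = s ^ 2 * y * (s ^ 2)⁻¹ := by rw [pow_two]; group
      _ = y := by rw [a3]; simp
  have b4 := cen (h.imz a5) b2
  have b5 := zp_cube h.zz b2
  have b6 : s * (s * x * s⁻¹ * x) * s⁻¹ = x * (s * x * s⁻¹) := by rw [← conj_mul, b3]
  have b7 : s * x * s⁻¹ * x ∈ zpowers z := by
    have b8 := b3 (s * x * s⁻¹ * x)
    generalize hc : x * (s * x * s⁻¹) * x⁻¹ * (s * x * s⁻¹)⁻¹ = c at b4 b5
    have b9 : x * (s * x * s⁻¹) = c * (s * x * s⁻¹ * x) := by rw [← hc]; group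
    rw [b9] at b6
    rw [b6, ← mul_assoc s, b4, mul_assoc c, mul_assoc c, b6, ← mul_assoc, mul_eq_right] at b8
    rw [eq_one_of_sq b5 b8, one_mul] at b6
    exact a8 ⟨mul_mem b1 hx, Cx_comm.1 (mem_Cx'.2 b6)⟩
  have c1 := (h.ηk _).1 ((hr.mul a5.inv).of_eq (mul_inv_cancel _))
  have := mul_mem (h.Qc _ c1 _ b1) b7
  rwa [show r * s⁻¹ * (s * x * s⁻¹) * (r * s⁻¹)⁻¹ * (s * x * s⁻¹)⁻¹ * (s * x * s⁻¹ * x) =
    r * x * r⁻¹ * x⁻¹⁻¹ by group] at this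

theorem ti {g v : G} {γ : S25} (h1 : Im η g γ) (hv : v ∈ Q) (hz : v ∉ zpowers z)
    (e : Cj (zpowers z) g v v) : γ ^ 3 = 1 := by
  rcases (by decide +kernel : ∀ γ : S25, γ ^ 3 = 1 ∨ (γ ^ 5 = 1 ∧ γ ≠ 1) ∨
    ∃ k ∈ [1, 2, 3, 5], γ ^ k = m1) γ with a | a | ⟨k, -, a⟩
  · exact a
  · exact absurd (h.five h1 a.1 a.2 hv e) hz
  · have := mul_mem (inv_mem (cj_of (pow_mem (cj_mem (Cx_le_norm z (h.imz h1)) e) k)))
      (h.inv_m1 ((h1.pow k).of_eq a) hv)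
    exact absurd (mem_of_sq (h.Q3 v hv) (by simpa [mul_assoc] using this)) hz

theorem ti2 {g g' v : G} {γ δ : S25} (h1 : Im η g γ) (h2 : Im η g' δ) (hv : v ∈ Q)
    (hz : v ∉ zpowers z) (e : Cj (zpowers z) g v v) (e' : Cj (zpowers z) g' v v) :
    γ = 1 ∨ δ = 1 ∨ δ = γ ∨ δ = γ⁻¹ :=
  three25 γ (h.ti h1 hv hz e) δ (h.ti h2 hv hz e') (h.ti (h1.mul h2) hv hz (cj_of (mul_mem
    (cj_mem (Cx_le_norm z (h.imz h1)) e) (cj_mem (Cx_le_norm z (h.imz h2)) e'))))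

theorem exists_q {y c : G} (hy : y ∈ Q) (hz : y ∉ zpowers z) (hc : c ∈ zpowers z) :
    ∃ q ∈ Q, q * y * q⁻¹ = c * y := by
  obtain ⟨q, a1, a2⟩ : ∃ q ∈ Q, y * q ≠ q * y := by
    by_contra! a
    exact hz (h.CQ y a)
  have a3 := h.Qc q a1 y hy
  have k : ∀ c, q * y * q⁻¹ = c * y → c ∈ zpowers z → q⁻¹ * y * q⁻¹⁻¹ = c⁻¹ * y := fun c a b => by
    calc _ = c⁻¹ * q⁻¹ * (c * y) * q := by
          rw [← cen (h.Qz (inv_mem a1)) (inv_mem b)]; group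
      _ = _ := by rw [← a]; group
  have b1 := fun c (e : q * y * q⁻¹ * y⁻¹ = c) => mul_inv_eq_iff_eq_mul.1 e
  rcases zp3_cases h.zz a3 with e | e | e
  · exact absurd (mul_inv_eq_iff_eq_mul.1 (mul_inv_eq_one.1 e)).symm a2
  all_goals rcases zp3_cases h.zz hc with rfl | rfl | rfl
  exacts [⟨1, one_mem _, by simp⟩, ⟨q, a1, b1 _ e⟩, ⟨_, inv_mem a1, k _ (b1 _ e) (mem_zpowers z)⟩,
    ⟨1, one_mem _, by simp⟩, ⟨_, inv_mem a1, by simpa using k _ (b1 _ e) (inv_mem hc)⟩, ⟨q, a1, b1 _ e⟩]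

variable {y : G} {Q' L' : Subgroup G} {η' : L' →* S25} (h' : Hy y Q' L' η')
include h'

theorem rel {D : Subgroup G} (hD : D ≤ Cx y) (h3 : ∀ x ∈ D, x ^ 3 = 1) :
    (∀ a ∈ D, ∀ b ∈ D, a * b * a⁻¹ * b⁻¹ ∈ Q') ∧ Nat.card D ≤ 3 * Nat.card (D ⊓ Q' : Subgroup G) := by
  have k : ∀ a ∈ D, ∀ b ∈ D, ∀ α β, Im η' a α → Im η' b β → α = 1 ∨ β = 1 ∨ β = α ∨ β = α⁻¹ :=
    fun a ha b hb α β a1 a2 => three25 α ((a1.pow 3).eq_one (h3 a ha)) β ((a2.pow 3).eq_one (h3 b hb))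
      (((a1.mul a2).pow 3).eq_one (h3 _ (mul_mem ha hb)))
  refine ⟨fun a ha b hb => ?_, ?_⟩
  · obtain ⟨α, a1⟩ := h'.im (hD ha)
    obtain ⟨β, a2⟩ := h'.im (hD hb)
    refine (h'.ηk _).1 (((a1.conj a2).mul a2.inv).of_eq ?_)
    rcases k a ha b hb α β a1 a2 with rfl | rfl | rfl | rfl <;> simp
  rw [← card_mul_relIndex' (inf_le_left : D ⊓ Q' ≤ D), mul_comm, inf_relIndex_left,
    ← card_im (f := η') (fun x => ⟨fun a => (h'.ηk _).1 ⟨x.2, a⟩, fun a => ((h'.ηk _).2 a).2⟩)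
      fun x hx => h'.hL.2 (hD hx)]
  refine Nat.mul_le_mul_right _ ?_
  by_cases e : qim η' D = ⊥
  · simp [e]
  obtain ⟨⟨α, a1⟩, a2⟩ := ne_bot_iff_exists_ne_one.1 e
  obtain ⟨a, a3, rfl⟩ := exists_of_mem_im a1
  refine (card_le_of_le (show _ ≤ zpowers (η' a) from fun β hb => ?_)).trans ?_
  · obtain ⟨b, b1, rfl⟩ := exists_of_mem_im hb
    rcases k a a3 b b1 _ _ ⟨a.2, rfl⟩ ⟨b.2, rfl⟩ with e | e | e | e
    · exact absurd (Subtype.ext e) a2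
    all_goals simp [show η' b = _ from e]
  · rw [Nat.card_zpowers]
    exact Nat.le_of_dvd (by norm_num) (orderOf_dvd_of_pow_eq_one
      ((Im.pow ⟨a.2, rfl⟩ 3).eq_one (h3 a a3)))

theorem pair0 (hy : y ∈ Q) : z ∈ Q' := by
  have a1 := h.idx3 le_rfl hy
  rw [h.cQ] at a1
  obtain ⟨a, ha, b, hb, e⟩ : ∃ a ∈ Q ⊓ Cx y, ∃ b ∈ Q ⊓ Cx y, a * b ≠ b * a := by
    by_contra! a
    exact h.not81 inf_le_left a (by omega)
  have a2 := (h.rel h' inf_le_right fun x hx => h.Q3 x hx.1).1 a ha b hb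
  rcases zp3_cases h.zz (h.Qc a ha.1 b hb.1) with c | c | c
  · exact absurd (mul_inv_eq_iff_eq_mul.1 (mul_inv_eq_one.1 c)) e
  · exact c ▸ a2
  · exact inv_mem_iff.1 (c ▸ a2)

theorem pair1 (hy : y ∈ Q) (hz : y ∉ zpowers z) :
    (∀ a ∈ Q ⊓ Q', ∀ b ∈ Q ⊓ Q', a * b = b * a) ∧ 27 ≤ Nat.card (Q ⊓ Q' : Subgroup G) := by
  refine ⟨fun a ha b hb => ?_, ?_⟩
  · have a1 := h.Qc a ha.1 b hb.1
    rcases zp3_cases h'.zz (h'.Qc a ha.2 b hb.2) with c | c | c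
    · exact mul_inv_eq_iff_eq_mul.1 (mul_inv_eq_one.1 c)
    · exact absurd (c ▸ a1) hz
    · exact absurd (inv_mem_iff.1 (c ▸ a1)) hz
  · have a1 := h.idx3 le_rfl hy
    have a2 := (h.rel h' (D := Q ⊓ Cx y) inf_le_right fun x hx => h.Q3 x hx.1).2
    have a3 := card_le_of_le (inf_le_inf_right Q' (inf_le_left : Q ⊓ Cx y ≤ Q))
    rw [h.cQ] at a1
    omega

theorem pair2 (hy : y ∈ Q) (hz : y ∉ zpowers z) : ∃ s ∈ Q', s ∈ Cx z ∧ s ∉ Q := by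
  by_contra! a
  have a1 := h'.idx3 le_rfl (h.pair0 h' hy)
  have a2 := card_le_of_le (show Q' ⊓ Cx z ≤ Q ⊓ Q' from fun s hs => ⟨a s hs.1 hs.2, hs.1⟩)
  rw [h'.cQ] at a1
  exact h.not81 inf_le_left (h.pair1 h' hy hz).1 (by omega)

theorem pair3 (hy : y ∈ Q) (hz : y ∉ zpowers z) {s : G} (hs : s ∈ Q') (hs' : s ∉ Q) :
    ∃ u ∈ Q ⊓ Q', s * u * s⁻¹ = y * u := by
  obtain ⟨a1, a2⟩ := h.pair1 h' hy hz
  obtain ⟨u, hu, e⟩ : ∃ u ∈ Q ⊓ Q', s * u ≠ u * s := by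
    by_contra! a
    exact hs' (h'.mem_of_cent inf_le_right a1 a2 hs a).1
  rcases zp3_cases h'.zz (h'.Qc s hs u hu.2) with c | c | c
  · exact absurd (mul_inv_eq_iff_eq_mul.1 (mul_inv_eq_one.1 c)) e
  · exact ⟨u, hu, mul_inv_eq_iff_eq_mul.1 c⟩
  · refine ⟨u⁻¹, inv_mem hu, ?_⟩
    rw [← conj_inv, mul_inv_eq_iff_eq_mul.1 c, mul_inv_rev, inv_inv, mem_Cx.1 (h'.Qz (inv_mem hu.2))]

end Hy

end CfsgLib.HN3
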