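import Mathlib
import Cfsg.Agent.Lib.HN3.A1

/-!
The 3-local characterisation of the Harada–Norton group: coordinates on the elementary abelian
subgroup `J` of order 81.
-/

set_option autoImplicit false
set_option maxHeartbeats 400000
set_option linter.unusedSectionVars false
set_option synthInstance.maxSize 4096

namespace CfsgLib.HN3

open Subgroup Cfsg CfsgLib.Tech CfsgLib.W2 CfsgLib.Rec3 TG CfsgLib.McLRec.Three

noncomputable section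

def aU : V → V := lin (o 1) (o 3) (o 10) (o 33)
def aE : V → V := lin (o 1) (o 9) (o 6) (o 54)
def aV : V → V := lin (o 1) (o 5) (o 9) (o 36)
def aQ : V → V := lin (o 4) (o 3) (o 63) (o 27)

/-- the action of the elements of `Q` -/
def aW (i j : ℕ) (v : V) : V := aU^[i] (aV^[j] v)

/-- a word in maps -/
def wf (l : List (V → V)) (w : List ℕ) (v : V) : V := List.rec v (fun i _ ih => l.getD i id ih) w

end

/-- `v` is a multiple of `x` -/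
abbrev InL (x v : V) : Prop := v = 1 ∨ v = x ∨ v = x⁻¹

variable {G : Type*} [Group G]

theorem act_wf {φ : V →* G} {l : List G} {T : List (V → V)} (H : List.Forall₂ (Act φ) l T) :
    ∀ w, Act φ (wg l w) (wf T w) := by
  have k : ∀ i, Act φ (l.getD i 1) (T.getD i id) := by
    induction H with
    | nil => exact fun i v => by simp
    | cons a _ ih =>
      intro i
      cases i
      exacts [a, ih _]
  intro w
  induction w with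
  | nil => exact fun v => by simp [wg, wf]
  | cons i w ih => exact (k i).mul ih

theorem Vc (φ : V →* G) (u v : V) : φ u * φ v = φ v * φ u := by
  rw [← map_mul, ← map_mul, (by decide +kernel : ∀ u v : V, u * v = v * u) u v]

theorem V3 (φ : V →* G) (v : V) : φ v ^ 3 = 1 := by
  rw [← map_pow, (by decide +kernel : ∀ v : V, v ^ 3 = 1) v, map_one]

theorem Jc (φ : V →* G) : ∀ x ∈ φ.range, ∀ y ∈ φ.range, x * y = y * x := by
  rintro _ ⟨u, rfl⟩ _ ⟨v, rfl⟩; exact Vc φ u v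

theorem J3 (φ : V →* G) : ∀ x ∈ φ.range, x ^ 3 = 1 := by
  rintro _ ⟨u, rfl⟩; exact V3 φ u

theorem JC (φ : V →* G) (v : V) : φ.range ≤ Cx (φ v) := fun _ hx => mem_Cx.2 (Jc φ _ hx _ ⟨v, rfl⟩)

theorem actJ {φ : V →* G} {x : G} (hx : x ∈ φ.range) : Act φ x fun v => v := by
  obtain ⟨v, rfl⟩ := hx
  exact Act.self φ v

theorem zp {φ : V →* G} (hφ : Function.Injective φ) {x v : V} : φ v ∈ zpowers (φ x) ↔ InL x v := by
  refine ⟨fun a => ?_, ?_⟩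
  · simpa only [← map_inv, ← map_one φ, hφ.eq_iff] using zp3_cases (V3 φ x) a
  · rintro (rfl | rfl | rfl) <;> simp

theorem cF {φ : V →* G} {g : G} (h1 : g ∈ Cx (φ (o 1))) (h2 : g ∈ Cx (φ (o 3)))
    (h3 : g ∈ Cx (φ (o 9))) {v : V} (hv : dg 27 v = 0) : g ∈ Cx (φ v) :=
  Cx_comm.1 (map_mem_of_sp φ (S := Cx g) (gs := [o 1, o 3, o 9]) (D := 3) (by
    simp only [List.forall_mem_cons]
    exact ⟨Cx_comm.1 h1, Cx_comm.1 h2, Cx_comm.1 h3, by simp⟩)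
    ((by decide +kernel : ∀ v : V, dg 27 v = 0 → bit (sp [(o 1 : V), o 3, o 9] 3) v.v = true) v hv))

open scoped IsMulCommutative in
theorem exists_phi4 {a b c d : G} (ha : a ^ 3 = 1) (hb : b ^ 3 = 1) (hc : c ^ 3 = 1) (hd : d ^ 3 = 1)
    (h1 : a * b = b * a) (h2 : a * c = c * a) (h3 : a * d = d * a) (h4 : b * c = c * b)
    (h5 : b * d = d * b) (h6 : c * d = d * c) :
    ∃ φ : V →* G, φ (o 1) = a ∧ φ (o 3) = b ∧ φ (o 9) = c ∧ φ (o 27) = d := by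
  have : IsMulCommutative (closure {a, b, c, d}) := isMulCommutative_closure (by
    simp [h1, h2, h3, h4, h5, h6])
  obtain ⟨φ, a1, a2, a3, a4⟩ := exists_phi (A := closure {a, b, c, d})
    (a := ⟨a, subset_closure (by simp)⟩) (b := ⟨b, subset_closure (by simp)⟩)
    (c := ⟨c, subset_closure (by simp)⟩) (d := ⟨d, subset_closure (by simp)⟩)
    (Subtype.ext ha) (Subtype.ext hb) (Subtype.ext hc) (Subtype.ext hd)
  exact ⟨(Subgroup.subtype _).comp φ, congrArg Subtype.val a1,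
    congrArg Subtype.val a2, congrArg Subtype.val a3, congrArg Subtype.val a4⟩

/-- the Sylow 3-subgroup -/
noncomputable def Sy {L : Subgroup G} (η : L →* S25) : Subgroup G := qpre η (zpowers x0)

theorem mem_Sy [Finite G] {L : Subgroup G} {η : L →* S25} {g : G} {γ : S25} (h : Im η g γ) :
    g ∈ Sy η ↔ γ = 1 ∨ γ = x0 ∨ γ = x0⁻¹ := by
  rw [Sy, mem_pre (x := ⟨g, h.1⟩), h.2]
  refine ⟨zp3_cases (by decide +kernel), ?_⟩
  rintro (rfl | rfl | rfl) <;> simp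

/-- coordinates `z, y, y', σ` -/
structure Dat0 (φ : V →* G) (e : G) (Q L : Subgroup G) (η : L →* S25) (Q' L' : Subgroup G)
    (η' : L' →* S25) : Prop where
  hz : Hy (φ (o 1)) Q L η
  hy : Hy (φ (o 3)) Q' L' η'
  yQ : φ (o 3) ∈ Q
  ηs : Im η (φ (o 27)) x0
  ηe : Im η e e0
  ae : Act φ e aE
  sQ' : φ (o 27) ∈ Q'

structure Dat (φ : V →* G) (u e : G) (Q L : Subgroup G) (η : L →* S25) (Q' L' : Subgroup G)
    (η' : L' →* S25) : Prop extends Dat0 φ e Q L η Q' L' η' where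
  au : Act φ u aU
  uQ : u ∈ Q
  uQ' : u ∈ Q'

variable [Finite G]

theorem act_norm {φ : V →* G} {g : G} {α : V → V} (h : Act φ g α) :
    g ∈ normalizer (φ.range : Set G) := mem_normalizer_of_forall (by
  rintro _ ⟨v, rfl⟩; exact ⟨_, (h v).symm⟩)

variable {φ : V →* G} {u e : G} {Q L Q' L' : Subgroup G} {η : L →* S25} {η' : L' →* S25}

namespace Dat0

variable (d : Dat0 φ e Q L η Q' L' η')
include d

theorem imv (v : V) : Im η (φ v) (x0 ^ dg 27 v) := by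
  have a1 := (d.hz.ηk _).2 d.hz.zQ
  have a2 := (d.hz.ηk _).2 d.yQ
  have a3 := d.ηe.conj a2
  rw [d.ae, (by decide +kernel : aE (o 3) = o 9)] at a3
  have := ((a1.pow (dg 1 v)).mul (a2.pow (dg 3 v))).mul ((a3.pow (dg 9 v)).mul (d.ηs.pow (dg 27 v)))
  simp only [← map_pow, ← map_mul] at this
  rw [← (by decide +kernel : ∀ v : V,
    v = o 1 ^ dg 1 v * o 3 ^ dg 3 v * (o 9 ^ dg 9 v * o 27 ^ dg 27 v)) v] at this
  simpa using this

theorem inQ {v : V} : φ v ∈ Q ↔ dg 27 v = 0 := by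
  rw [← d.hz.ηk, ← (by decide +kernel : ∀ v : V, x0 ^ dg 27 v = 1 ↔ dg 27 v = 0) v]
  exact ⟨(d.imv v).uniq, (d.imv v).of_eq⟩

theorem inj : Function.Injective φ := (injective_iff_map_eq_one φ).2 fun v hv => by
  have c0 : ∀ {x}, φ x = 1 → φ (aE x) = 1 := fun b => by rw [← d.ae, b]; simp
  rcases (by decide +kernel : ∀ v : V, dg 27 v = 0 → v = 1 ∨ ∃ i ∈ [0, 1, 2], ∃ j ∈ [0, 1, 2],
    ∃ k ∈ [0, 1, 2], v ^ i * aE v ^ j * aE (aE v) ^ k ∈ [o 1, o 3]) v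
    (d.inQ.1 (hv ▸ one_mem Q)) with c | ⟨i, -, j, -, k, -, c⟩
  · exact c
  have : φ (v ^ i * aE v ^ j * aE (aE v) ^ k) = 1 := by simp [hv, c0 hv, c0 (c0 hv)]
  simp only [List.mem_cons, List.not_mem_nil, or_false] at c
  rcases c with c | c <;> rw [c] at this
  exacts [absurd this d.hz.z1, absurd this d.hy.z1]

theorem cJ : Nat.card φ.range = 81 := by
  rw [← Nat.card_congr (MonoidHom.ofInjective d.inj).toEquiv, card_eq]

theorem pJ : IsPGroup 3 φ.range := isPGroup_iff_mem.2 fun x hx => ⟨1, J3 φ x hx⟩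

theorem cJ1 : Nat.card (φ.range ⊓ Q : Subgroup G) = 27 := by
  have : φ.range ⊓ Q = (sub (fun v : V => dg 27 v = 0) (by decide +kernel)).map φ := le_antisymm
    (by rintro _ ⟨⟨v, rfl⟩, a⟩; exact ⟨v, d.inQ.1 a, rfl⟩)
    (by rintro _ ⟨v, a, rfl⟩; exact ⟨⟨v, rfl⟩, d.inQ.2 a⟩)
  rw [this, card_map_of_injective d.inj, card_sub]
  decide +kernel

theorem memF {x : G} (hx : x ∈ Q) (h2 : x ∈ Cx (φ (o 3))) (h3 : x ∈ Cx (φ (o 9))) : x ∈ φ.range :=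
  (d.hz.mem_of_cent inf_le_right (fun a ha b hb => Jc φ a ha.1 b hb.1) d.cJ1.ge hx (by
    rintro _ ⟨⟨v, rfl⟩, a⟩
    exact mem_Cx.1 (cF (d.hz.Qz hx) h2 h3 (d.inQ.1 a)))).1

theorem QS : Q ≤ Sy η := fun g hg => (mem_Sy ((d.hz.ηk g).2 hg)).2 (Or.inl rfl)

theorem Sz : Sy η ≤ Cx (φ (o 1)) := fun _ hg => d.hz.hL.1 (pre_le _ hg)

theorem JS : φ.range ≤ Sy η := by
  rintro _ ⟨v, rfl⟩
  exact (mem_Sy (d.imv v)).2 ((by decide +kernel : ∀ v : V, x0 ^ dg 27 v = 1 ∨ x0 ^ dg 27 v = x0 ∨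
    x0 ^ dg 27 v = x0⁻¹) v)

theorem decS {g : G} (hg : g ∈ Sy η) : ∃ v, g * φ v ∈ Q := by
  obtain ⟨γ, a⟩ := d.hz.im (d.Sz hg)
  obtain ⟨v, b⟩ := (by decide +kernel : ∀ γ : S25, γ = 1 ∨ γ = x0 ∨ γ = x0⁻¹ →
    ∃ v : V, γ * x0 ^ dg 27 v = 1) γ ((mem_Sy a).1 hg)
  exact ⟨v, (d.hz.ηk _).1 ((a.mul (d.imv v)).of_eq b)⟩

theorem cS : Nat.card (Sy η) = 729 := by
  rw [← card_mul_relIndex' d.QS, ← card_im (f := η) (fun x => ⟨fun a => (d.hz.ηk _).1 ⟨x.2, a⟩,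
    fun a => ((d.hz.ηk _).2 a).2⟩) (show Sy η ≤ L from pre_le _), d.hz.cQ, Sy, qim, qpre, subgroupOf,
    comap_map_eq_self_of_injective L.subtype_injective, map_comap_eq_self_of_surjective
    (fun a => let ⟨_, h1, h2⟩ := d.hz.ηs a; ⟨_, h2⟩), Nat.card_zpowers,
    orderOf_eq_prime (p := 3) (by decide +kernel) (by decide +kernel)]

theorem syl : IsSylowIn 3 (Sy η) ⊤ := by
  have h1 : η.ker = Q.subgroupOf L := Subgroup.ext fun x =>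
    (Iff.trans ⟨fun e => ⟨x.2, e⟩, fun e => e.2⟩ (d.hz.ηk x))
  have h2 := η.ker.card_mul_index
  rw [index_ker, MonoidHom.range_eq_top.2 (fun a => let ⟨_, h1, h2⟩ := d.hz.ηs a; ⟨_, h2⟩), card_top,
    card_eq, h1, Nat.card_congr (subgroupOfEquivOfLe d.hz.QL).toEquiv, d.hz.cQ,
    ← card_mul_relIndex' (show Sy η ≤ L from pre_le _), d.cS] at h2
  exact IsSylowIn.trans (T := Sy η) (H := L) ⟨pre_le _, IsPGroup.of_card (n := 6) d.cS, by omega⟩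
    le_top d.hz.syl

theorem eqS {C : Subgroup G} (h1 : Q ≤ C) (h2 : C ≤ Sy η) {x : G} (hx : x ∈ C) (hx' : x ∉ Q) :
    C = Sy η := eq_of_three h1 h2 (by rw [d.cS, d.hz.cQ]) hx hx'

theorem cz {g : G} {v : V} (hg : g ∈ Cx (φ (o 1))) (h1 : dg 27 v = 0) (h2 : ¬ InL (o 1) v)
    (h3 : Cj (zpowers (φ (o 1))) g (φ v) (φ v)) : g ∈ Sy η := by
  obtain ⟨γ, a⟩ := d.hz.im hg
  exact (mem_Sy a).2 ((d.hz.ti2 d.ηs a (d.inQ.2 h1) (mt (zp d.inj).1 h2)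
    (cj_comm (JC φ v ⟨_, rfl⟩)) h3).resolve_left (by decide +kernel))

theorem CJ1 {g : G} (h1 : g ∈ Cx (φ (o 1))) (h2 : g ∈ Cx (φ (o 3))) (h3 : g ∈ Cx (φ (o 9))) :
    g ∈ φ.range := by
  obtain ⟨v, a⟩ := d.decS (d.cz h1 (by decide +kernel) (by decide +kernel) (cj_comm h2))
  exact (mul_mem_cancel_right (show φ v ∈ φ.range from ⟨v, rfl⟩)).1 (d.memF a (mul_mem h2 (JC φ _ ⟨v, rfl⟩))
    (mul_mem h3 (JC φ _ ⟨v, rfl⟩)))

theorem triv {g : G} {α : V → V} (h : Act φ g α)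
    (e : α (o 1) = o 1 ∧ α (o 3) = o 3 ∧ α (o 9) = o 9) : g ∈ φ.range :=
  d.CJ1 (h.mem_Cx e.1) (h.mem_Cx e.2.1) (h.mem_Cx e.2.2)

end Dat0

namespace Hy

variable {z y : G} (h : Hy z Q L η) (h' : Hy y Q' L' η')
include h h'

theorem mk0 {s : G} (yQ : y ∈ Q) (ηs : Im η s x0) (ηe : Im η e e0) (sQ' : s ∈ Q')
    (ey : e * (e * y * e⁻¹) * e⁻¹ = y⁻¹) (es : e * s * e⁻¹ = s⁻¹)
    (yy : y * (e * y * e⁻¹) = e * y * e⁻¹ * y) (sy : e * y * e⁻¹ * s = s * (e * y * e⁻¹)) :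
    ∃ φ, Dat0 φ e Q L η Q' L' η' ∧ φ (o 1) = z ∧ φ (o 3) = y ∧ φ (o 9) = e * y * e⁻¹ ∧
      φ (o 27) = s := by
  have a1 := conj_mem_of_mem_normalizer (h.zQN (h.imz ηe)) yQ
  obtain ⟨φ, e1, e2, e3, e4⟩ := exists_phi4 h.zz h'.zz (h.Q3 _ a1) (h'.Q3 _ sQ')
    (mem_Cx.1 (h.Qz yQ)).symm (mem_Cx.1 (h.Qz a1)).symm (mem_Cx.1 (h.imz ηs)).symm yy
    (mem_Cx.1 (h'.Qz sQ')).symm sy
  refine ⟨φ, ⟨e1 ▸ h, e2 ▸ h', e2 ▸ yQ, e4 ▸ ηs, ηe, Act.of_cols ?_ ?_ ?_ ?_, e4 ▸ sQ'⟩, e1, e2, e3, e4⟩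
  · rw [e1, mem_Cx'.1 (h.imz ηe)]
  · rw [e2, e3]
  · rw [e3, ey, ← e2, ← map_inv]; exact congrArg φ (by decide +kernel)
  · rw [e4, es, ← e4, ← map_inv]; exact congrArg φ (by decide +kernel)

theorem exists_es (yQ : y ∈ Q) (yZ : y ∉ zpowers z) : ∃ (η : L →* S25) (e s : G), Hy z Q L η ∧
    Im η s x0 ∧ Im η e e0 ∧ s ∈ Q' ∧ e * (e * y * e⁻¹) * e⁻¹ = y⁻¹ ∧ e * s * e⁻¹ = s⁻¹ := by
  obtain ⟨s, a1, a2, a3⟩ := h.pair2 h' yQ yZ
  obtain ⟨γ, a4⟩ := h.im a2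
  obtain ⟨k, a5⟩ := ((by decide +kernel : ∀ γ : S25, γ ^ 3 = 1 → γ = 1 ∨ ∃ k : S25, k * γ * k⁻¹ = x0)
    γ ((a4.pow 3).eq_one (h'.Q3 s a1))).resolve_left fun e => a3 ((h.ηk s).1 (e ▸ a4))
  obtain ⟨η, h, a6⟩ := h.conjη k
  replace a4 := ((a6 _ _).2 a4).of_eq a5
  obtain ⟨g, b1⟩ := h.ηs e0
  have b2 : Im η (g ^ 9) e0 := (b1.pow 9).of_eq (by decide +kernel)
  have b3 : g ^ 9 * g ^ 9 * (g ^ 9 * g ^ 9) = 1 := by
    have := h.Q3 _ ((h.ηk _).1 ((b1.pow 4).of_eq (by decide +kernel)))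
    rw [← pow_mul] at this
    rw [← pow_add, ← pow_add, show 9 + 9 + (9 + 9) = 4 * 3 * 3 from rfl, pow_mul, this, one_pow]
  generalize g ^ 9 = f at b2 b3
  have m2 : ∀ {f}, Im η f e0 → Im η (f * f) m1 := fun a => (a.mul a).of_eq (by decide +kernel)
  have b4 := h.inv_m1 (m2 b2) yQ
  obtain ⟨q, b5, b6⟩ := h.exists_q yQ yZ b4
  have b7 : Im η (q⁻¹ * f * q) e0 := ((((h.ηk q).2 b5).inv.mul b2).mul ((h.ηk q).2 b5)).of_eq (by simp)
  have b8 : q⁻¹ * f * q * (q⁻¹ * f * q) * y * (q⁻¹ * f * q * (q⁻¹ * f * q))⁻¹ = y⁻¹ := by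
    have c1 := cen (h.imz (m2 b2)) b4
    have c2 := cen (h.Qz yQ) b4
    have c3 := zp_cube h.zz b4
    generalize hc : f * f * y * (f * f)⁻¹ * y⁻¹⁻¹ = c at b6 c1 c2 c3
    calc _ = q⁻¹ * (f * f * (q * y * q⁻¹) * (f * f)⁻¹) * q := by group
      _ = q⁻¹ * (c * (f * f * y * (f * f)⁻¹ * y⁻¹⁻¹) * c * (y * c)⁻¹ * (c * y * c⁻¹ * y⁻¹)⁻¹ *
          (c * y * c⁻¹ * y⁻¹)) * q := by rw [b6, ← mul_assoc (f * f), c1]; group
      _ = q⁻¹ * (q * y * q⁻¹)⁻¹ * q := by rw [hc, ← pow_three', c3, c2, b6]; group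
      _ = _ := by group
  have b9 : q⁻¹ * f * q * (q⁻¹ * f * q) * (q⁻¹ * f * q * (q⁻¹ * f * q)) = 1 := by
    calc _ = q⁻¹ * (f * f * (f * f)) * q := by group
      _ = 1 := by rw [b3]; group
  generalize q⁻¹ * f * q = e at b7 b8 b9
  obtain ⟨c, c1, c2⟩ := exists_cent (N := Q ⊓ Q') (fun x hx => h.Q3 x hx.1) b9 (g := s)
    ⟨(h.ηk _).1 (((a4.conj (m2 b7)).mul (m2 b7)).of_eq (by decide +kernel)), by
      have := mul_mem a1 (conj_mem_of_mem_normalizer (h'.NQ (Or.inr b8)) (inv_mem a1))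
      rwa [inv_eq_of_mul_eq_one_right b9, ← mul_assoc s, ← mul_assoc s] at this⟩
  have c3 : Im η (c * s) x0 := (((h.ηk c).2 c1.1).mul a4).of_eq (one_mul _)
  have c4 := mul_mem c1.2 a1
  generalize c * s = t at c2 c3 c4
  have c5 := (h.ηk _).1 (((b7.conj c3).mul c3).of_eq (by decide +kernel))
  have c6 := h.inv_m1 (m2 b7) c5
  have c7 : e ∈ Cx (e * e) := mem_Cx.2 (mul_assoc _ _ _).symm
  rw [Cj, mem_Cx'.1 (Cx_comm.1 (mul_mem (mul_mem (mul_mem c7 c2) (inv_mem c7)) c2)), inv_inv] at c6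
  have c8 := mem_of_sq (h.Q3 _ c5) c6
  refine ⟨η, e, e * t * e⁻¹ * t * t, h, (((h.ηk _).2 c5).mul c3).of_eq (one_mul _), b7,
    mul_mem (zpowers_le.2 (h.pair0 h' yQ) c8) c4, by rw [← b8]; group, ?_⟩
  have d1 := cen (h.imz b7) c8
  have d2 := cen (h.imz c3) c8
  have d3 := zp_cube h.zz c8
  generalize hw : e * t * e⁻¹ * t = w at d1 d2 d3
  calc _ = w * (e * t * e⁻¹ * t) * w * (t * w)⁻¹ := by rw [← mul_assoc e, d1]; group
    _ = _ := by rw [hw, ← pow_three', d3, d2, one_mul]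

theorem exists_dat (yQ : y ∈ Q) (yZ : y ∉ zpowers z) :
    ∃ (φ : V →* G) (u e : G) (η : L →* S25), Dat φ u e Q L η Q' L' η' := by
  obtain ⟨η, e, s, h, ηs, ηe, sQ', ey, es⟩ := h.exists_es h' yQ yZ
  obtain ⟨u, hu, su⟩ := h.pair3 h' yQ yZ sQ' fun a => absurd (ηs.uniq ((h.ηk s).2 a)) (by decide +kernel)
  have a1 := conj_mem_of_mem_normalizer (h.zQN (h.imz ηe)) yQ
  have sy : s ∈ Cx (e * y * e⁻¹) := inv_mem_iff.1 (es ▸ conj_mem_Cx.2 (h'.Qz sQ'))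
  have a2 := h.Qc _ a1 u hu.1
  have yy : y * (e * y * e⁻¹) = e * y * e⁻¹ * y := by
    have b1 := mem_Cx'.1 sy
    generalize e * y * e⁻¹ = f at *
    have b2 := cen (h.imz ηs) a2
    have b3 := cen (h.Qz yQ) a2
    rw [← mul_inv_eq_iff_eq_mul, show s * (f * u * f⁻¹ * u⁻¹) * s⁻¹ = s * f * s⁻¹ * (s * u * s⁻¹) *
      (s * f * s⁻¹)⁻¹ * (s * u * s⁻¹)⁻¹ by group, b1, su] at b2
    calc y * f = y * (f * u * f⁻¹ * u⁻¹) * y⁻¹ * y * (f * u * f⁻¹ * u⁻¹)⁻¹ * f := by group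
      _ = f * u * f⁻¹ * u⁻¹ * y * (f * u * f⁻¹ * u⁻¹)⁻¹ * f := by rw [b3]; group
      _ = _ := by nth_rw 1 [← b2]; group
  have key : ∀ z, Hy z Q L η → u * (e * y * e⁻¹) * u⁻¹ * (e * y * e⁻¹)⁻¹ = z →
      ∃ (φ : V →* G) (u e : G) (η : L →* S25), Dat φ u e Q L η Q' L' η' := fun z h c => by
    obtain ⟨φ, d, e1, e2, e3, e4⟩ := h.mk0 h' yQ ηs ηe sQ' ey es yy (mem_Cx.1 sy).symm
    refine ⟨φ, u, e, η, d, Act.of_cols ?_ ?_ ?_ ?_, hu.1, hu.2⟩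
    · rw [e1, mem_Cx'.1 (h.Qz hu.1)]
    · rw [e2, mem_Cx'.1 (h'.Qz hu.2)]
    · rw [(by decide +kernel : (o 10 : V) = o 1 * o 9), map_mul, e1, e3, ← c]; group
    · rw [(by decide +kernel : (o 33 : V) = (o 3)⁻¹ * o 27), map_mul, map_inv, e2, e4]
      calc _ = y⁻¹ * (y * u) * s * u⁻¹ := by group
        _ = _ := by rw [← su]; group
  rcases zp3_cases h.zz (h.Qc u hu.1 _ a1) with c | c | c
  · obtain ⟨φ, d, e1, e2, e3, e4⟩ := h.mk0 h' yQ ηs ηe sQ' ey es yy (mem_Cx.1 sy).symm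
    have := JC φ (o 27) (d.memF hu.1 (e2 ▸ h'.Qz hu.2) (e3 ▸ mem_Cx'.2 (mul_inv_eq_one.1 c)))
    rw [e4, Cx_comm, mem_Cx', su, mul_eq_right] at this
    exact absurd this h'.z1
  exacts [key z h c, key _ h.inv c]

end Hy

end CfsgLib.HN3
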