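import Mathlib
import Cfsg.Agent.Lib.HN3.A2
import Cfsg.Agent.Lib.Coprime.Generation

/-!
The 3-local characterisation of the Harada–Norton group: the normaliser of `J`, and simplicity.
-/

set_option autoImplicit false
set_option maxHeartbeats 400000
set_option linter.unusedSectionVars false
set_option synthInstance.maxSize 4096

namespace CfsgLib.HN3

open Subgroup Cfsg CfsgLib.Tech CfsgLib.W2 CfsgLib.Rec3 TG CfsgLib.McLRec.Three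

noncomputable def fs : List (V → V) := [aU, aE, aQ]

/-- the elements of `J ∩ Q` which are not conjugate to `z` -/
abbrev Bad (v : V) : Prop := dg 27 v = 0 ∧ dg 3 v ≠ 0 ∧ dg 9 v ≠ 0

variable {G : Type*} [Group G]

structure Dat2 (φ : V →* G) (u e q : G) (Q L : Subgroup G) (η : L →* S25) (Q' L' : Subgroup G)
    (η' : L' →* S25) : Prop extends Dat φ u e Q L η Q' L' η' where
  aq : Act φ q aQ
  qQ' : q ∈ Q'

theorem φJ (φ : V →* G) (v : V) : φ v ∈ φ.range := ⟨v, rfl⟩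

theorem ZJ (φ : V →* G) (v : V) : zpowers (φ v) ≤ φ.range := zpowers_le.2 (φJ φ v)

theorem same_C {p q x w : G} (h1 : p * x * p⁻¹ = w) (h2 : q * x * q⁻¹ = w) : p⁻¹ * q ∈ Cx x :=
  mem_Cx'.2 (by
    calc _ = p⁻¹ * (q * x * q⁻¹) * p := by group
      _ = x := by rw [h2, ← h1]; group)

theorem exz {φ : V →* G} {w v : V} {g : G} (h : Cj (zpowers (φ w)) g (φ v) (φ v)) :
    ∃ a, InL w a ∧ g * φ v * g⁻¹ = φ (a * v) := by
  rcases zp3_cases (V3 φ w) h with c | c | c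
  exacts [⟨1, Or.inl rfl, by simpa using mul_inv_eq_one.1 c⟩,
    ⟨w, Or.inr (Or.inl rfl), by rw [map_mul, ← c]; simp⟩,
    ⟨w⁻¹, Or.inr (Or.inr rfl), by rw [map_mul, map_inv, ← c]; simp⟩]

theorem three_x0 : ∀ γ : S25, γ ^ 3 = 1 → γ = 1 ∨ ∃ k : S25, k * γ * k⁻¹ = x0 := by decide +kernel

variable [Finite G] {φ : V →* G} {u e q : G} {Q L Q' L' : Subgroup G} {η : L →* S25} {η' : L' →* S25}

namespace Dat

variable (d : Dat φ u e Q L η Q' L' η')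
include d

theorem av : Act φ (e * u * e⁻¹) aV := ((d.ae.mul d.au).mul (d.ae.inv (β := fun v => aE (aE (aE v)))
  (by decide +kernel))).congr (by decide +kernel)

theorem vQ : e * u * e⁻¹ ∈ Q := conj_mem_of_mem_normalizer (d.hz.zQN (d.hz.imz d.ηe)) d.uQ

theorem actQ {x : G} (hx : x ∈ Q) : ∃ i ∈ [0, 1, 2], ∃ j ∈ [0, 1, 2], Act φ x (aW i j) := by
  obtain ⟨a, a1, a2⟩ := exz (d.hz.Qc x hx _ d.yQ)
  obtain ⟨b, b1, b2⟩ := exz (d.hz.Qc x hx _ (d.inQ.2 (by decide +kernel : dg 27 (o 9) = 0)))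
  obtain ⟨i, hi, j, hj, c1, c2⟩ := (by decide +kernel : ∀ a, InL (o 1) a → ∀ b, InL (o 1) b →
    ∃ i ∈ [0, 1, 2], ∃ j ∈ [0, 1, 2], aW i j (o 3) = a * o 3 ∧ aW i j (o 9) = b * o 9) a a1 b b1
  have hp : Act φ _ (aW i j) := (d.au.pow i).mul (d.av.pow j)
  exact ⟨i, hi, j, hj, mul_inv_cancel_left _ x ▸ hp.mul (actJ (d.memF (mul_mem (inv_mem (mul_mem
    (pow_mem d.uQ i) (pow_mem d.vQ j))) hx) (same_C (hp _) (c1 ▸ a2)) (same_C (hp _) (c2 ▸ b2))))⟩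

theorem actS {x : G} (hx : x ∈ Sy η) : ∃ i ∈ [0, 1, 2], ∃ j ∈ [0, 1, 2], Act φ x (aW i j) := by
  obtain ⟨v, a⟩ := d.decS hx
  obtain ⟨i, hi, j, hj, b⟩ := d.actQ a
  exact ⟨i, hi, j, hj, by simpa using b.mul (actJ (inv_mem ⟨v, rfl⟩))⟩

theorem SN : Sy η ≤ normalizer (φ.range : Set G) := fun _ hx =>
  let ⟨_, _, _, _, a⟩ := d.actS hx
  act_norm a

theorem cV {x s : G} (hx : x ∈ Q) (hs : s ∈ Sy η) (hs' : s ∉ Q)
    (h : Cj (zpowers (φ (o 1))) s x x) : x ∈ φ.range := by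
  have a1 := (cj_of ((d.eqS (C := Sy η ⊓ cjC (zpowers (φ (o 1))) {x}) (le_inf d.QS fun a ha =>
    cj_mem (Cx_le_norm _ (d.hz.Qz ha)) (d.hz.Qc a ha x hx)) inf_le_left
    ⟨hs, cj_mem (Cx_le_norm _ (d.Sz hs)) h⟩ hs').ge (d.JS ⟨o 27, rfl⟩)).2).symm
  obtain ⟨i, hi, j, hj, b⟩ := d.actQ hx
  rw [Cj, b, ← map_inv, ← map_mul, zp d.inj] at a1
  exact d.triv b ((by decide +kernel : ∀ i ∈ [0, 1, 2], ∀ j ∈ [0, 1, 2],
    InL (o 1) (aW i j (o 27) * (o 27)⁻¹) → aW i j (o 1) = o 1 ∧ aW i j (o 3) = o 3 ∧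
      aW i j (o 9) = o 9) i hi j hj a1)

theorem wc {k : G} (hk : cj k φ.range ≤ Sy η) : cj k φ.range = φ.range := by
  have hc : ∀ a ∈ cj k φ.range, ∀ b ∈ cj k φ.range, a * b = b * a := by
    rintro _ ⟨a, ha, rfl⟩ _ ⟨b, hb, rfl⟩
    rw [← map_mul, Jc φ a ha b hb, map_mul]
  have c81 := (card_cj k _).trans d.cJ
  generalize cj k φ.range = A at *
  obtain ⟨x, hx, hx'⟩ := SetLike.not_le_iff_exists.1 fun e => d.hz.not81 e hc c81.ge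
  have h1 := card_mul_relIndex' (inf_le_left : A ⊓ Q ≤ A)
  have h2 := card_mul_relIndex' d.QS
  have h4 := relIndex_le_of_le_right (H := Q) hk (index_ne_zero_of_finite (H := Q.subgroupOf _))
  rw [d.hz.cQ, d.cS] at h2
  rw [inf_relIndex_left, c81] at h1
  have h3 : A ⊓ Q = φ.range ⊓ Q := eq_of_le_of_card_ge (fun a ha => ⟨d.cV ha.2 (hk hx) hx'
    (cj_comm (mem_Cx.2 (hc x hx a ha.1))), ha.2⟩) (by rw [d.cJ1]; nlinarith)
  have h5 : ∀ a ∈ A, ∀ v, dg 27 v = 0 → a ∈ Cx (φ v) := fun a ha v hv =>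
    mem_Cx.2 (hc a ha _ (h3.ge ⟨⟨v, rfl⟩, d.inQ.2 hv⟩).1)
  exact eq_of_le_of_card_ge (fun a ha => d.CJ1 (h5 a ha _ (by decide +kernel))
    (h5 a ha _ (by decide +kernel)) (h5 a ha _ (by decide +kernel))) (by rw [c81, d.cJ])

theorem wcN {k : G} (hk : cj k φ.range ≤ normalizer (φ.range : Set G)) :
    k ∈ normalizer (φ.range : Set G) := by
  obtain ⟨m, b1, b2⟩ := (d.syl.of_le d.SN le_top).exists_cj_le (isPGroup_cj k d.pJ) hk
  rw [← cj_mul] at b2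
  exact (mul_mem_cancel_left b1).1 (mem_normalizer_iff_cj.2 (d.wc b2))

theorem wcW {k : G} (h1 : k⁻¹ * φ (o 1) * k ∈ φ.range) (h2 : k⁻¹ * φ (o 3) * k ∈ φ.range) :
    k ∈ normalizer (φ.range : Set G) := by
  have a : ∀ x ∈ φ.range, ∀ y, k⁻¹ * y * k ∈ φ.range → k * x * k⁻¹ ∈ Cx y := fun x hx y hy => by
    simpa [mul_assoc] using (conj_mem_Cx (g := k)).2 (mem_Cx.2 (Jc φ x hx _ hy))
  exact mem_normalizer_iff_cj.2 (d.wc (cj_le_iff.2 fun x hx => d.cz (a x hx _ h1)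
    (by decide +kernel) (by decide +kernel) (cj_comm (a x hx _ h2))))

theorem nB {v : V} (hv : Bad v) : ¬ IsConj (φ (o 1)) (φ v) := fun hc => by
  obtain ⟨k, hk⟩ := isConj_iff.1 hc
  obtain ⟨η₁, h1⟩ := d.hz.conj k
  rw [hk] at h1
  have a0 := (by decide +kernel : ∀ v, Bad v → ¬ InL (o 1) v) v hv
  have a1 := d.inQ.2 hv.1
  have a2 := mt (zp d.inj).1 a0
  obtain ⟨s, s1, s2, s3⟩ := d.hz.pair2 h1 a1 a2
  obtain ⟨w, hw, e⟩ := d.hz.pair3 h1 a1 a2 s1 s3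
  obtain ⟨x, b1⟩ := d.decS (d.cz s2 hv.1 a0 (cj_comm (h1.Qz s1)))
  obtain ⟨i, hi, j, hj, b2⟩ := d.actQ hw.1
  have b3 := d.hz.Qc _ b1 _ (conj_mem_of_mem_normalizer' (d.hz.zQN (JC φ _ ⟨x, rfl⟩)) hw.1)
  refine (by decide +kernel : ∀ i ∈ [0, 1, 2], ∀ j ∈ [0, 1, 2], ∀ v, Bad v → aW i j v = v →
    ∀ x, ¬ InL (o 1) (v * (x⁻¹ * aW i j x)⁻¹)) i hi j hj v hv (b2.fix d.inj (h1.Qz hw.2)) x
    ((zp d.inj).1 ?_)
  rwa [map_mul, map_inv, map_mul, map_inv, ← b2, show φ v = s * w * s⁻¹ * w⁻¹ by rw [e]; group,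
    show s * w * s⁻¹ * w⁻¹ * ((φ x)⁻¹ * (w * φ x * w⁻¹))⁻¹ = s * φ x * ((φ x)⁻¹ * w * φ x) *
      (s * φ x)⁻¹ * ((φ x)⁻¹ * w * φ x)⁻¹ by group]

theorem zQ' : φ (o 1) ∈ Q' := d.hz.pair0 d.hy d.yQ

theorem exists_q : ∃ q, Dat2 φ u e q Q L η Q' L' η' := by
  obtain ⟨q, a1, a2⟩ := d.hy.exists_q d.zQ' (mt (zp d.inj).1 (by decide +kernel)) (mem_zpowers _)
  have a3 : ∀ v, φ v ∈ Q' → q⁻¹ * φ v * q ∈ φ.range := fun v hv => by
    obtain ⟨a, -, b⟩ := exz (d.hy.Qc _ (inv_mem a1) _ hv)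
    exact ⟨_, inv_inv q ▸ b.symm⟩
  obtain ⟨c, a4⟩ := conj_mem_of_mem_normalizer (d.wcW (a3 _ d.zQ') (a3 _ d.hy.zQ)) (x := φ (o 9))
    ⟨_, rfl⟩
  obtain ⟨a, a5, a6⟩ := exz (d.hy.Qc _ a1 _ d.sQ')
  have aq := Act.of_cols (a := o 4) (b := o 3) (by
    rw [a2, ← map_mul]; exact congrArg φ (by decide +kernel)) (mem_Cx'.1 (d.hy.Qz a1)) a4.symm a6
  have a7 := (actJ (ZJ φ _ (d.hy.Qc _ a1 _ d.uQ'))).mul (d.au.mul aq)
  rw [show q * u * q⁻¹ * u⁻¹ * (u * q) = q * u by group] at a7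
  rcases (by decide +kernel : ∀ a, InL (o 3) a → ∀ c,
    aU (lin (o 4) (o 3) c (a * o 27) (o 9)) = lin (o 4) (o 3) c (a * o 27) (aU (o 9)) → ∃ i ∈ [0, 1, 2],
      (∀ v, lin (o 4) (o 3) c (a * o 27) (aU^[i] v) = aQ v) ∨
      ∃ w ∈ [[2, 1, 1, 2, 1, 2], [2, 1, 2, 1, 2], [2, 1, 0, 2, 1, 2], [2, 2, 1, 2, 1, 2]],
        Bad (wf [aU, aE, fun v => lin (o 4) (o 3) c (a * o 27) (aU^[i] v)] w (o 1))) a a5 c
    (a7.ext d.inj (aq.mul d.au) _) with ⟨i, -, b | ⟨w, -, b⟩⟩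
  · exact ⟨_, d, (aq.mul (d.au.pow i)).congr b, mul_mem a1 (pow_mem d.uQ' i)⟩
  · exact absurd (isConj_iff.2 ⟨_, act_wf (l := [u, e, q * u ^ i])
      (.cons d.au (.cons d.ae (.cons (aq.mul (d.au.pow i)) .nil))) w _⟩) (d.nB b)

theorem cover {x : G} (hx : x ∈ Q) : ∃ l ∈ Cx (φ (o 1)), l * x * l⁻¹ ∈ φ.range := by
  by_cases hz : x ∈ zpowers (φ (o 1))
  · exact ⟨1, one_mem _, by simpa only [one_mul, inv_one, mul_one] using ZJ φ _ hz⟩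
  choose l hl using d.hz.ηs
  have lz := fun a => d.hz.imz (hl a)
  have lQ := fun a => conj_mem_of_mem_normalizer (d.hz.zQN (lz a)) hx
  let Ψ : S25 × zpowers (φ (o 1)) → Q := fun p =>
    ⟨p.2 * (l p.1 * x * (l p.1)⁻¹), mul_mem (d.hz.ZQ p.2.2) (lQ _)⟩
  obtain ⟨⟨γ, a⟩, ⟨δ, b⟩, e1, e2⟩ := Function.not_injective_iff.1 fun hi : Function.Injective Ψ => by
    have := Nat.card_le_card_of_injective Ψ hi
    rw [Nat.card_prod, card_eq, d.hz.cZ, d.hz.cQ] at this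
    omega
  replace e1 : a * (l γ * x * (l γ)⁻¹) = b * (l δ * x * (l δ)⁻¹) := congrArg Subtype.val e1
  have a1 := (hl δ).inv.mul (hl γ)
  have a2 : Cj (zpowers (φ (o 1))) ((l δ)⁻¹ * l γ) x x := by
    have := conj_mem_of_mem_normalizer' (Cx_le_norm _ (lz δ)) (mul_mem (inv_mem a.2) b.2)
    rwa [eq_mul_inv_iff_mul_eq.2 e1.symm, show (l δ)⁻¹ * ((a : G)⁻¹ * (a * (l γ * x * (l γ)⁻¹) *
      (l δ * x * (l δ)⁻¹)⁻¹)) * l δ = (l δ)⁻¹ * l γ * x * ((l δ)⁻¹ * l γ)⁻¹ * x⁻¹ by group] at this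
  obtain ⟨k, a3⟩ := (three_x0 _ (d.hz.ti a1 hx hz a2)).resolve_left fun c => e2 (by
    obtain rfl := inv_mul_eq_one.1 c
    rw [Subtype.ext (mul_right_cancel e1)])
  have a4 := ((hl k).conj a1).of_eq a3
  refine ⟨l k, lz k, d.cV (lQ k) ((mem_Sy a4).2 (by simp))
    (fun c => absurd (a4.uniq ((d.hz.ηk _).2 c)) (by decide +kernel)) ?_⟩
  simpa [Cj, mul_assoc] using conj_mem_of_mem_normalizer (Cx_le_norm _ (lz k)) a2

end Dat

namespace Dat2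

variable (d : Dat2 φ u e q Q L η Q' L' η')
include d

theorem aw (w : List ℕ) : Act φ (wg [u, e, q] w) (wf fs w) :=
  act_wf (.cons d.au (.cons d.ae (.cons d.aq .nil))) w

open scoped IsMulCommutative in
theorem sig {R : Subgroup G} (hR : (Nat.card R).Coprime 3)
    (hJ : φ.range ≤ normalizer (R : Set G)) : R ≤ ⊥ := by
  have : IsMulCommutative φ.range := ⟨⟨fun x y => Subtype.ext (Jc φ x x.2 y y.2)⟩⟩
  refine Coprime.le_of_forall_cyclic_quotient hJ (by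
    rw [d.cJ]; exact (hR.pow_right 4).symm) fun B hB ⟨a, ha, he⟩ r hr => ?_
  obtain ⟨H, _, _, π, -, hπ⟩ := exists_quo (K := φ.range) (Z := B) fun x hx =>
    mem_normalizer_of_forall fun b hb => by rwa [Jc φ x hx b (hB hb), mul_inv_cancel_right]
  have a3 : π ⟨a, ha⟩ ^ 3 = 1 := by
    rw [← map_pow, show (⟨a, ha⟩ : φ.range) ^ 3 = 1 from Subtype.ext (J3 φ a ha), map_one]
  let χ : V →* H := π.comp φ.rangeRestrict
  have k : ∀ v, ∃ i ∈ [0, 1, 2], χ v = π ⟨a, ha⟩ ^ i := fun v => by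
    rcases zp3_cases a3 ((mem_pre (x := ⟨_, φJ φ v⟩)).1 ((sup_le (le_pre hπ hB _) (zpowers_le.2
      ((mem_pre (x := ⟨a, ha⟩)).2 (mem_zpowers _))) : _ ≤ qpre π (zpowers _)) (he.ge (φJ φ v)))) with
      b | b | b
    exacts [⟨0, by simp, b.trans (pow_zero _).symm⟩, ⟨1, by simp, b.trans (pow_one _).symm⟩,
      ⟨2, by simp, b.trans (eq_inv_of_mul_eq_one_left (by rw [← pow_succ, a3])).symm⟩]
  obtain ⟨i1, b1, c1⟩ := k (o 1)
  obtain ⟨i2, b2, c2⟩ := k (o 3)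
  obtain ⟨w, -, e1, e2⟩ := (by decide +kernel : ∀ i1 ∈ [0, 1, 2], ∀ i2 ∈ [0, 1, 2],
    ∃ w ∈ [[], [2], [2, 2], [1, 0, 0, 1, 2]], (i1 * dg 1 (wf fs w (o 1)) + i2 * dg 3 (wf fs w (o 1))) % 3 = 0 ∧
      wf fs w (o 1) = o 1 ^ dg 1 (wf fs w (o 1)) * o 3 ^ dg 3 (wf fs w (o 1))) i1 b1 i2 b2
  have vB : φ (wf fs w (o 1)) ∈ B := (hπ ⟨_, _, rfl⟩).1 (show χ _ = 1 by
    rw [e2]
    simp only [map_mul, map_pow, c1, c2, ← pow_mul, ← pow_add]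
    rw [pow_eq_pow_mod _ a3, e1, pow_zero])
  have d1 := act_norm (d.aw w)
  have d2 := d.aw w (o 1)
  generalize wg [u, e, q] w = m at d1 d2
  have d3 : m⁻¹ * r * m ∈ Cx (φ (o 1)) := by
    rw [← conj_mem_Cx (g := m), d2]
    simpa [mul_assoc] using mem_Cx.2 (hr.2 _ vB).symm
  have d5 : ∀ v, dg 27 v = 0 → m⁻¹ * r * m ∈ Cx (φ v) := fun v hv => mem_Cx.2 (by
    have f0 := d.inQ.2 hv
    have f1 := d.hz.Q3 _ (mul_mem (conj_mem_of_mem_normalizer (d.hz.zQN d3) f0) (inv_mem f0))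
    have f2 := mul_mem hr.1 (conj_mem_of_mem_normalizer
      (hJ (conj_mem_of_mem_normalizer d1 ⟨v, rfl⟩)) (inv_mem hr.1))
    generalize φ v = x at *
    have f3 := eq_one_of_coprime hR f2 (k := 1) (by
      rw [← conj_eq_one_iff (a := m⁻¹), ← conj_pow, ← f1]; congr 1; group)
    calc _ = m⁻¹ * (r * (m * x * m⁻¹ * r⁻¹ * (m * x * m⁻¹)⁻¹)) * m * x * (m⁻¹ * r * m) := by group
      _ = _ := by rw [f3]; group)
  have d4 := J3 φ _ (d.CJ1 d3 (d5 _ (by decide +kernel)) (d5 _ (by decide +kernel)))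
  exact mem_bot.2 (eq_one_of_coprime hR hr.1 (k := 1) (by
    rw [← conj_eq_one_iff (a := m⁻¹), ← conj_pow, ← d4]; simp))

theorem eqQ' : cj (wg [u, e, q] [1, 0, 1, 2, 2]) Q = Q' :=
  d.hz.cj_eq d.hy (Or.inl ((d.aw _ _).trans (congrArg φ (by decide +kernel))))

theorem at' : Act φ (wg [u, e, q] [0, 0, 1, 2, 2, 1, 0, 1, 2, 1]) fun v => v⁻¹ :=
  (d.aw _).congr (by decide +kernel)

theorem simple : IsSimpleGroup G := by
  have : Nontrivial G := ⟨⟨_, _, d.hz.z1⟩⟩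
  refine ⟨fun N hN => or_iff_not_imp_left.2 fun h0 => ?_⟩
  have nN : ∀ K : Subgroup G, K ≤ normalizer (N : Set G) := fun K => by
    rw [normalizer_eq_top]; exact le_top
  have s1 := d.syl.inf_of_le_normalizer (nN ⊤)
  have ZS : ∀ c, (∀ x ∈ Sy η, x * c = c * x) → c ∈ zpowers (φ (o 1)) := fun c hc =>
    d.hz.CQ c fun x hx => (hc x (d.QS hx)).symm
  obtain ⟨c, c1, c2, c3⟩ := exists_mem_center_of_normalized d.syl.pgroup (N := Sy η ⊓ N) inf_le_left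
    (Coprime.le_normalizer_inf le_normalizer (nN _)) fun a => h0 (le_bot_iff.1 (d.sig (by
      have := s1.not_dvd
      rw [a, top_inf_eq, relIndex_bot_left] at this
      exact (Nat.prime_three.coprime_iff_not_dvd.2 this).symm) (nN _)))
  have zN : φ (o 1) ∈ N := by
    rcases zp3_cases d.hz.zz (ZS c c3) with rfl | rfl | rfl
    exacts [by simp at c2, c1.2, inv_mem_iff.1 c1.2]
  have k : ∀ w, φ (wf fs w (o 1)) ∈ N := fun w => d.aw w _ ▸ hN.conj_mem _ zN _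
  have JN : ∀ v, φ v ∈ N := fun v => map_mem_of_sp φ (gs := [[], [2], [1, 2], [2, 1, 2]].map
    fun w => wf fs w (o 1)) (D := 8) (fun g hg => by
      obtain ⟨w, -, rfl⟩ := List.mem_map.1 hg
      exact k w) ((by decide +kernel : ∀ v : V, bit (sp ([[], [2], [1, 2], [2, 1, 2]].map
        fun w => wf fs w (o 1)) 8) v.v = true) v)
  have QN : Q ≤ N := fun x hx => by
    obtain ⟨l, -, v, a⟩ := d.cover hx
    exact (hN.mem_comm_iff.1 (a ▸ JN v) :) |> fun b => by simpa using b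
  have LN : L ≤ N := fun g hg => by
    obtain ⟨m, hm⟩ := d.hz.ηs w0
    obtain ⟨x, a1, a2⟩ := exists_of_mem_im ((eq_top_of_genB (S := qim η N) (gs := [x0, w0 * x0 * w0⁻¹])
      (D := 12) (by decide +kernel) (by
        simp only [List.forall_mem_cons]
        exact ⟨d.ηs.2 ▸ mem_im (JN _), (hm.conj d.ηs).2 ▸ mem_im (hN.conj_mem _ (JN _) _), by simp⟩)).ge
      (mem_top (η ⟨g, hg⟩)))
    exact (mul_mem_cancel_left (inv_mem a1)).1 (QN ((d.hz.ηk _).1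
      (((Im.inv ⟨x.2, a2⟩).mul ⟨hg, rfl⟩).of_eq (inv_mul_cancel _))))
  have qN : q ∈ N := (d.eqQ' ▸ cj_le_iff.2 fun x hx => hN.conj_mem _ (QN hx) _ : Q' ≤ N) d.qQ'
  have tN := wg_mem (M := N) (l := [u, e, q]) (by simp [QN d.uQ, LN d.ηe.mem, qN])
    [0, 0, 1, 2, 2, 1, 0, 1, 2, 1]
  refine eq_top_iff.2 fun g _ => ?_
  obtain ⟨n, a1, a2⟩ := (d.syl.of_le ((pre_le _).trans LN) le_top).frattini (nN ⊤ (mem_top g))
  refine (mul_mem_cancel_left a1).1 ?_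
  generalize n * g = m at a2
  rcases zp3_cases d.hz.zz (ZS (m * φ (o 1) * m⁻¹) fun x hx => by
    simpa [mul_assoc] using mem_Cx.1 ((conj_mem_Cx (g := m)).2
      (d.Sz (conj_mem_of_mem_normalizer' a2 hx)))) with b | b | b
  · exact absurd (conj_eq_one_iff.1 b) d.hz.z1
  · exact LN (d.hz.hL.2 (mem_Cx'.2 b))
  · exact (mul_mem_cancel_left (inv_mem tN)).1 (LN (d.hz.hL.2 (same_C (d.at' _) (by rw [b, map_inv]))))

end Dat2

end CfsgLib.HN3
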