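import Mathlib
import Cfsg.Agent.Lib.HN3.A3

/-!
The 3-local characterisation of the Harada–Norton group: the centraliser of `a` does not normalise `J`.
-/

set_option autoImplicit false
set_option maxHeartbeats 400000
set_option linter.unusedSectionVars false
set_option synthInstance.maxSize 4096

namespace CfsgLib.HN3

open Subgroup Cfsg CfsgLib.Tech CfsgLib.W2 CfsgLib.Rec3 TG CfsgLib.McLRec.Three

variable {G : Type*} [Group G] [Finite G] {φ : V →* G} {u e q : G} {Q L Q' L' : Subgroup G}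
  {η : L →* S25} {η' : L' →* S25}

namespace Dat2

variable (d : Dat2 φ u e q Q L η Q' L' η')
include d

theorem exists_t : ∃ t, t * t = 1 ∧ (∀ x ∈ φ.range, t * x * t⁻¹ = x⁻¹) ∧
    ∀ g ∈ normalizer (φ.range : Set G), g * t * g⁻¹ * t ∈ φ.range := by
  have a1 := d.at'
  generalize wg [u, e, q] _ = t at a1
  have a2 : ∀ x ∈ φ.range, t * x * t⁻¹ = x⁻¹ := by
    rintro _ ⟨v, rfl⟩; rw [a1, map_inv]
  have a3 : ∀ g ∈ normalizer (φ.range : Set G), g * t * g⁻¹ * t ∈ φ.range := fun g hg => by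
    have k : ∀ v, g * t * g⁻¹ * t ∈ Cx (φ v) := fun v => mem_Cx'.2 (by
      calc _ = g * (t * (g⁻¹ * (t * φ v * t⁻¹) * g) * t⁻¹) * g⁻¹ := by group
        _ = _ := by
          rw [a2 _ (φJ φ v), a2 _ (conj_mem_of_mem_normalizer' hg (inv_mem (φJ φ v)))]; group)
    exact d.CJ1 (k _) (k _) (k _)
  refine ⟨t, ?_, a2, a3⟩
  have a4 : t * t ∈ φ.range := by simpa using a3 1 (one_mem _)
  refine eq_one_of_sq (J3 φ _ a4) (mul_eq_one_iff_eq_inv.2 ?_)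
  rw [← a2 _ a4]; group

theorem key1 {l : G} (hl : l ∈ Cx (φ (o 1))) {w : V} (h1 : dg 27 w = 0) (h2 : ¬ InL (o 1) w)
    (h3 : l * φ w * l⁻¹ ∈ φ.range) : l ∈ normalizer (φ.range : Set G) :=
  inv_mem_iff.1 (mem_normalizer_iff_cj.2 (d.wc (cj_le_iff.2 fun x hx => d.cz
    (mul_mem (mul_mem (inv_mem hl) (JC φ _ hx)) (inv_mem (inv_mem hl))) h1 h2 (cj_comm (by
      simpa [mul_assoc] using (conj_mem_Cx (g := l⁻¹)).2 (mem_Cx.2 (Jc φ x hx _ h3)))))))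

theorem bad (hC : Cx (φ (o 12)) ≤ normalizer (φ.range : Set G)) {x l : G} {v : V} (hx : x ∈ Q')
    (hl : l ∈ Cx (φ (o 1))) (h : φ v = l * x * l⁻¹) (hv : Bad v) :
    l ∈ normalizer (φ.range : Set G) := by
  obtain ⟨w, -, a1⟩ := (by decide +kernel : ∀ v, Bad v → ∃ w ∈ [[], [0], [1], [0, 0], [0, 1], [1, 1],
    [0, 0, 1], [0, 1, 1], [1, 0, 1], [1, 1, 1], [0, 1, 1, 1], [1, 1, 0, 1]], wf fs w (o 12) = v) v hv
  have a2 := d.aw w (o 12)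
  have a3 := act_norm (d.aw w)
  rw [a1, h] at a2
  generalize wg [u, e, q] w = n at a2 a3
  have a4 := d.aw [1, 0, 1, 2, 2] (o 1)
  rw [(by decide +kernel : wf fs [1, 0, 1, 2, 2] (o 1) = o 3)] at a4
  rw [← d.eqQ'] at hx
  generalize wg [u, e, q] _ = g at a4 hx
  obtain ⟨m, b1, b2⟩ := d.cover (mem_cj.1 hx)
  have b3 := d.wcN (k := n⁻¹ * l * g * m⁻¹) (cj_le_iff.2 fun y hy => hC (by
    rw [show φ (o 12) = n⁻¹ * l * g * m⁻¹ * (m * (g⁻¹ * x * g) * m⁻¹) * (n⁻¹ * l * g * m⁻¹)⁻¹ by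
      rw [← mul_inv_cancel_right (φ (o 12)) n⁻¹, ← inv_mul_cancel_left n (φ (o 12) * n⁻¹),
        ← mul_assoc n, a2]; group, conj_mem_Cx]
    exact mem_Cx.2 (Jc φ y hy _ b2)))
  refine d.key1 hl (w := o 3) (by decide +kernel) (by decide +kernel) ?_
  have := conj_mem_of_mem_normalizer (mul_mem a3 b3) (φJ φ (o 1))
  rwa [← mem_Cx'.1 b1, show n * (n⁻¹ * l * g * m⁻¹) * (m * φ (o 1) * m⁻¹) * (n * (n⁻¹ * l * g * m⁻¹))⁻¹ =
    l * (g * φ (o 1) * g⁻¹) * l⁻¹ by group, a4] at this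

theorem twelve {x l : G} {v : V} (hx : x ∈ Q ⊓ Q') (ax : Act φ x aU) (hl : l ∈ Cx (φ (o 1)))
    (h : φ v = l * x * l⁻¹) (h1 : dg 27 v = 0) (h2 : ¬ InL (o 1) v) (hv : ¬ Bad v) :
    Cj (zpowers (φ (o 1))) ((φ (o 27) * (l⁻¹ * φ (o 27) * l)) ^ 12) (φ (o 3)) (φ (o 3)) := by
  obtain ⟨i, hi, j, hj, a1⟩ := d.actQ (conj_mem_of_mem_normalizer (d.hz.zQN hl) d.yQ)
  have xz := mem_Cx.1 (d.hz.Qz hx.1)
  have xy := mem_Cx.1 (d.hy.Qz hx.2)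
  obtain ⟨a, ha, b, hb, a2⟩ := (by decide +kernel : ∀ i ∈ [0, 1, 2], ∀ j ∈ [0, 1, 2], ∀ v, dg 27 v = 0 →
    ¬ InL (o 1) v → ¬ Bad v → aW i j v = v → ∃ a ∈ [0, 1, 2], ∃ b ∈ [0, 1, 2],
      o 27 * (aW i j (o 27))⁻¹ = o 1 ^ a * v ^ b) i hi j hj v h1 h2 hv
    (a1.fix d.inj (h ▸ conj_mem_Cx.2 (mem_Cx.2 xy.symm)))
  obtain ⟨ψ, e1, e2, e3, e4⟩ := exists_phi4 (d := 1) (V3 φ (o 1)) (V3 φ (o 3)) (d.hz.Q3 x hx.1)
    (one_pow 3) (Vc φ _ _) xz.symm (by simp) xy.symm (by simp) (by simp)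
  have b1 : Act ψ (φ (o 27)) (lin (o 1) (o 3) (o 3 * o 9) (o 27)) := Act.of_cols
    (by rw [e1, Vc φ, mul_inv_cancel_right]) (by rw [e2, Vc φ, mul_inv_cancel_right]) (by
      have := ax (o 27)
      rw [(by decide +kernel : aU (o 27) = (o 3)⁻¹ * o 27), map_mul, map_inv] at this
      rw [map_mul, e2, e3]
      calc _ = φ (o 3) * ((φ (o 3))⁻¹ * φ (o 27)) * x * (φ (o 27))⁻¹ := by group
        _ = _ := by rw [← this]; group) (by simp [e4])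
  have b2 : Act ψ (l⁻¹ * φ (o 27) * l) (lin (o 1) (o 1 ^ a * o 9 ^ b * o 3) (o 9) (o 27)) := Act.of_cols
    (e1 ▸ mem_Cx'.1 (mul_mem (mul_mem (inv_mem hl) (JC φ _ (φJ φ _))) hl)) (by
      have := congrArg φ a2
      rw [map_mul, map_inv, ← a1, map_mul, map_pow, map_pow, h, ← mem_Cx'.1 hl, conj_pow, conj_pow] at this
      rw [map_mul, map_mul, map_pow, map_pow, e1, e2, e3]
      calc _ = l⁻¹ * (φ (o 27) * (l * φ (o 3) * l⁻¹ * φ (o 27) * (l * φ (o 3) * l⁻¹)⁻¹)⁻¹) * l *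
            φ (o 3) := by group
        _ = _ := by rw [this]; group)
    (by rw [e3]
        calc _ = l⁻¹ * (φ (o 27) * (l * x * l⁻¹) * (φ (o 27))⁻¹) * l := by group
          _ = x := by rw [← h, Vc φ, h]; group) (by simp [e4])
  rw [Cj, ← e2, (b1.mul b2).pow 12, ← map_inv, ← map_mul, ← e1]
  rcases (by decide +kernel : ∀ a ∈ [0, 1, 2], ∀ b ∈ [0, 1, 2], InL (o 1) ((fun v =>
    lin (o 1) (o 3) (o 3 * o 9) (o 27) (lin (o 1) (o 1 ^ a * o 9 ^ b * o 3) (o 9) (o 27) v))^[12] (o 3) *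
      (o 3)⁻¹)) a ha b hb with c | c | c <;> rw [c] <;> simp

theorem nn (hC : Cx (φ (o 12)) ≤ normalizer (φ.range : Set G)) : False := by
  obtain ⟨t, tt, tJ, tN⟩ := d.exists_t
  have ti := inv_eq_of_mul_eq_one_right tt
  have tQ := d.hz.NQ (Or.inr (tJ _ (φJ φ _)))
  have tQ' := d.hy.NQ (Or.inr (tJ _ (φJ φ _)))
  have k0 : ∀ {P x}, t ∈ normalizer ((P : Subgroup G) : Set G) → x ∈ P → x * t * x⁻¹ * t ∈ P :=
    fun a b => by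
      have := mul_mem b (conj_mem_of_mem_normalizer a (inv_mem b))
      rwa [ti, ← mul_assoc, ← mul_assoc] at this
  obtain ⟨c, c1, xt⟩ := exists_cent (N := Q ⊓ Q' ⊓ φ.range) (fun x hx => J3 φ x hx.2) tt
    ⟨⟨k0 tQ d.uQ, k0 tQ' d.uQ'⟩, tN u (act_norm d.au)⟩
  have hx : c * u ∈ Q ⊓ Q' := mul_mem c1.1 ⟨d.uQ, d.uQ'⟩
  have ax : Act φ (c * u) aU := (actJ c1.2).mul d.au
  generalize c * u = x at xt hx ax
  have xJ : x ∉ φ.range := fun a => absurd (ax.ext d.inj (actJ a) (o 9)) (by decide +kernel)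
  obtain ⟨l, hl, v, h⟩ := d.cover hx.1
  have lJ : l ∉ normalizer (φ.range : Set G) := fun a => xJ ((mem_normalizer_iff.1 a x).2 ⟨v, h⟩)
  have lQ := d.hz.zQN hl
  have h1 := d.inQ.1 (h ▸ conj_mem_of_mem_normalizer lQ hx.1)
  have h2 : ¬ InL (o 1) v := fun a => xJ (ZJ φ _ ((mem_normalizer_iff.1 (Cx_le_norm _ hl) x).2
    (h ▸ (zp d.inj).2 a)))
  have h3 := d.twelve hx ax hl h h1 h2 fun a => lJ (d.bad hC hx.2 hl h a)
  have a1 : l * t * l⁻¹ ∈ normalizer (φ.range : Set G) := mem_normalizer_iff_cj.2 (d.wc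
    (cj_le_iff.2 fun y hy => d.cz (by
      have := (conj_mem_Cx (g := l * t * l⁻¹)).2 (JC φ (o 1)⁻¹ hy)
      rwa [map_inv, ← mem_Cx'.1 hl, show l * t * l⁻¹ * (l * φ (o 1) * l⁻¹)⁻¹ * (l * t * l⁻¹)⁻¹ =
        l * (t * φ (o 1) * t⁻¹)⁻¹ * l⁻¹ by group, tJ _ (φJ φ _), inv_inv, mem_Cx'.1 hl] at this)
      h1 h2 (cj_comm (by
        rw [← mem_Cx'.1 (Cx_comm.1 (h ▸ conj_mem_Cx.2 xt) : l * t * l⁻¹ ∈ Cx (φ v)), conj_mem_Cx]
        exact JC φ v hy))))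
  have a2 : cj l⁻¹ (φ.range ⊓ Q) = Q ⊓ cjC (zpowers (φ (o 1))) {t} := eq_of_le_of_card_ge
    (cj_le_iff.2 fun y hy => by
      have b1 := conj_mem_of_mem_normalizer (inv_mem lQ) hy.2
      refine ⟨b1, Cx_le_norm _ (d.hz.Qz b1), fun _ b => b ▸ Cj.symm ?_⟩
      obtain ⟨w, b2⟩ := tN _ (d.SN (d.QS b1))
      rw [Cj, ti, ← b2, zp d.inj]
      by_contra b3
      refine lJ (d.key1 hl (d.inQ.1 (b2 ▸ k0 tQ b1)) b3 ?_)
      rw [b2]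
      nth_rw 2 [← ti]
      rw [show l * (l⁻¹ * y * l⁻¹⁻¹ * t * (l⁻¹ * y * l⁻¹⁻¹)⁻¹ * t⁻¹) * l⁻¹ =
        y * (l * t * l⁻¹ * y⁻¹ * (l * t * l⁻¹)⁻¹) by group]
      exact mul_mem hy.1 (conj_mem_of_mem_normalizer a1 (inv_mem hy.1))) (by
      have b1 := card_mul_relIndex' (inf_le_right : φ.range ⊓ Q ≤ Q)
      have b2 := card_mul_relIndex' (inf_le_right : φ.range ⊓ (Q ⊓ cjC (zpowers (φ (o 1))) {t}) ≤ _)
      have b3 := relIndex_le_of_le_right (H := φ.range) (inf_le_left : Q ⊓ cjC (zpowers (φ (o 1))) {t} ≤ Q)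
        (index_ne_zero_of_finite (H := φ.range.subgroupOf _))
      have b4 := card_le_of_le (show φ.range ⊓ (Q ⊓ cjC (zpowers (φ (o 1))) {t}) ≤ zpowers (φ (o 1)) from
        fun y hy => by
          have := hy.2.2.2 t rfl
          rw [Cj, tJ y hy.1] at this
          exact inv_mem_iff.1 (mem_of_sq (J3 φ _ (inv_mem hy.1)) this))
      rw [inf_relIndex_right] at b1 b2
      rw [d.cJ1, d.hz.cQ] at b1
      rw [d.hz.cZ] at b4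
      rw [card_cj, d.cJ1, ← b2]
      exact Nat.mul_le_mul b4 (by omega : _ ≤ 9))
  obtain ⟨c, c2, et⟩ := exists_cent (J3 φ) tt (tN e (act_norm d.ae))
  obtain ⟨γ, c3⟩ := d.hz.im (JC φ _ c2)
  have c4 := c3.mul d.ηe
  generalize c * e = f at et c4
  have c5 := conj_mem_of_mem_normalizer (d.hz.zQN (d.hz.imz c4)) hx.1
  have c6 := mem_cj.1 (a2.ge ⟨c5, Cx_le_norm _ (d.hz.Qz c5), fun _ b => b ▸ cj_comm
    (Cx_comm.1 (mul_mem (mul_mem et xt) (inv_mem et)))⟩)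
  rw [inv_inv] at c6
  obtain ⟨κ, c7⟩ := d.hz.im hl
  have c8 := (c7.inv.mul d.ηs).mul c7
  have k1 : ∀ y, l * y * l⁻¹ ∈ φ.range → l⁻¹ * φ (o 27) * l ∈ Cx y := fun y a => by
    simpa [mul_assoc] using (conj_mem_Cx (g := l⁻¹)).2 (mem_Cx.2 (Jc φ _ (φJ φ (o 27)) _ a))
  have c9 : ∀ a : S25, a = κ⁻¹ * x0 * κ → a ^ 3 = 1 ∧ a ≠ 1 := fun a b => by
    rw [b, ← inv_inv κ, inv_inv κ⁻¹, conj_pow, Ne, conj_eq_one_iff, conj_eq_one_iff]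
    decide +kernel
  refine xJ (d.cV hx.1 ((mem_Sy c8).2 ?_) (fun a => (c9 _ rfl).2 (c8.uniq ((d.hz.ηk _).2 a)))
    (cj_comm (k1 x ⟨v, h⟩)))
  exact (by decide +kernel : ∀ c : S25, c = 1 ∨ c = x0 ∨ c = x0⁻¹ → ∀ γ : S25, γ ^ 3 = 1 →
    (c * e0 * γ * (c * e0)⁻¹ * γ) ^ 3 = 1 → ((x0 * γ) ^ 12) ^ 3 = 1 → γ = 1 ∨ γ = x0 ∨ γ = x0⁻¹)
    γ ((mem_Sy c3).1 (d.JS c2)) _ (c9 _ rfl).1 (d.hz.ti ((c4.conj c8).mul c8) c5
      (fun a => xJ (ZJ φ _ ((mem_normalizer_iff.1 (Cx_le_norm _ (d.hz.imz c4)) x).2 a)))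
      (cj_comm (mul_mem (conj_mem_Cx.2 (k1 x ⟨v, h⟩)) (k1 _ c6.1))))
    (d.hz.ti ((d.ηs.mul c8).pow 12) d.yQ (mt (zp d.inj).1 (by decide +kernel)) h3)

end Dat2

end CfsgLib.HN3
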