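import Cfsg.Agent.Lib.HN3.Defs
import Cfsg.Agent.Lib.Rec3.S8c

/-! The 3-local characterisation of the Harada–Norton group (plans/HN3.md), package B1. -/

set_option autoImplicit false
set_option linter.unusedSectionVars false
set_option synthInstance.maxSize 100000

namespace CfsgLib.HN3

open Subgroup Cfsg CfsgLib.Tech CfsgLib.W2 CfsgLib.Rec3 PG

attribute [local irreducible] PG.pl

noncomputable section

/-- `(1 3)(2 4)` -/
def T9 : PG 9 := pl [0, 3, 4, 1, 2, 5, 6, 7, 8]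
/-- `(0 3)(1 4)(2 5)(6 7)` -/
def w9 : PG 9 := pl [3, 4, 5, 0, 1, 2, 7, 6, 8]
/-- `(0 1)` -/
def d9 : PG 9 := pl [1, 0, 2, 3, 4, 5, 6, 7, 8]

/-- `S₅` on the points `6, 7, 8, 4, 5`, embedded into `A₉` -/
def upF (x : PG 5) : PG 9 :=
  let f := fun i => Mathieu.nth [6, 7, 8, 4, 5] (Mathieu.app x.1 i)
  Bool.rec (pl [0, 1, 2, 3, f 3, f 4, f 0, f 1, f 2]) (pl [1, 0, 2, 3, f 3, f 4, f 0, f 1, f 2])
    (oddB 5 x.1)

/-- the action on the points `6, 7, 8, 4, 5` -/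
def dn (p : PG 9) : PG 5 :=
  let f := fun i => Mathieu.nth [0, 0, 0, 0, 3, 4, 0, 1, 2] (Mathieu.app p.1 i)
  pl [f 6, f 7, f 8, f 4, f 5]

end

theorem hom_of_adj {X : Type*} [Group X] (n : ℕ) (_ : Fact (n + 1 ≤ 32)) (f : PG (n + 1) → X)
    (h1 : f 1 = 1) (h : ∀ i : Fin n, ∀ x, f (E (n + 1) (Equiv.swap i.castSucc i.succ) * x) =
      f (E (n + 1) (Equiv.swap i.castSucc i.succ)) * f x) (s : PG (n + 1)) :
    ∀ x, f (s * x) = f s * f x :=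
  S8.top_of_adj n _ (S := ⟨⟨⟨{s | ∀ x, f (s * x) = f s * f x}, fun {a b} ha hb x => by
    rw [mul_assoc, ha, hb, ha b, mul_assoc]⟩, fun x => by rw [one_mul, h1, one_mul]⟩,
    fun {a} ha x => mul_left_cancel (a := f a) (by
      rw [← ha, ← mul_assoc (f a), ← ha, mul_inv_cancel_left, mul_inv_cancel, h1, one_mul])⟩) h s

/-- a search after relabelling the points -/
theorem pg_cj {n : ℕ} [Fact (n ≤ 32)] (σ : PG n) (b : Bool) (L : List (PG n × PG n)) {P : PG n → Prop}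
    [DecidablePred P] (h : srch n b (L.map fun xy => (σ * xy.1 * σ⁻¹, σ * xy.2 * σ⁻¹))
      (fun a => decide (P (σ⁻¹ * pe a * σ))) = true) {g : PG n}
    (hg : ∀ xy ∈ L, g * xy.1 = xy.2 * g) (hb : b = true → g * g = 1) : P g := by
  simpa [pe_val, mul_assoc] using of_srch h (g := σ * g * σ⁻¹) (fun xy hxy => by
    obtain ⟨xy, h1, rfl⟩ := List.mem_map.1 hxy
    rw [conj_mul, conj_mul, hg xy h1]) fun e => by rw [conj_mul, hb e]; simp

/-- `upF` as a homomorphism -/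
noncomputable def up : PG 5 →* PG 9 :=
  MonoidHom.mk' upF (hom_of_adj 4 _ upF (by decide +kernel) (by decide +kernel))

theorem mul_mem_alt {n : ℕ} [Fact (n ≤ 32)] {p q : PG n} (hp : p ∉ alt n) (hq : q ∉ alt n) :
    p * q ∈ alt n := by
  obtain ⟨σ, rfl⟩ := (E n).surjective p
  obtain ⟨τ, rfl⟩ := (E n).surjective q
  rw [← map_mul]
  simp only [E_mem_alt, Equiv.Perm.mem_alternatingGroup] at hp hq ⊢
  rw [map_mul, (Int.units_eq_one_or _).resolve_left hp, (Int.units_eq_one_or _).resolve_left hq]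
  simp

variable {G : Type*} [Group G] [Finite G] {a m k : G} {Φ : PG 9 →* G}

theorem exists_fix3 {D : Subgroup G} (h3 : 3 ∣ Nat.card D) {x : G} {n : ℕ}
    (hx : x ∈ normalizer (D : Set G)) (e : x ^ 3 ^ n = 1) : ∃ d ∈ D, d ≠ 1 ∧ x * d * x⁻¹ = d := by
  classical
  have := Fintype.ofFinite D
  have := Fact.mk Nat.prime_three
  obtain ⟨d, h1, h2⟩ := Equiv.Perm.exists_fixed_point_of_prime' (p := 3) (n := n) (α := D)
    (by rwa [← Nat.card_eq_fintype_card]) (σ := MulAut.toPerm D (D.normalizerMonoidHom ⟨x, hx⟩))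
    (by rw [← map_pow, ← map_pow, show (⟨x, hx⟩ : normalizer (D : Set G)) ^ 3 ^ n = 1 from
      Subtype.ext e, map_one, map_one]) (a := 1) (map_one (D.normalizerMonoidHom ⟨x, hx⟩))
  exact ⟨d, d.2, fun e => h2 (Subtype.ext e), congrArg Subtype.val h1⟩

/-- `m` and `k` are normalised so that their action on `A₆ = ⟨j1, j2, t9⟩` is explicit -/
structure Nine2 (a m k : G) (Φ : PG 9 →* G) : Prop extends Nine a m k Φ where
  mt : m * Φ t9 * m⁻¹ = Φ t9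
  kt : k * Φ t9 * k⁻¹ = Φ T9

theorem Fr.inj (h : Fr a Φ) : Function.Injective Φ :=
  (injective_iff_map_eq_one Φ).2 fun p e => h.ker p (e ▸ one_mem _)

theorem Fr.aaa (h : Fr a Φ) : a ^ 3 = 1 := h.a3 ▸ pow_orderOf_eq_one a

theorem Fr.a1 (h : Fr a Φ) : a ≠ 1 := fun e => absurd (e ▸ h.a3) (by simp)

theorem Fr.cm (h : Fr a Φ) {p : PG 9} (hp : p ∈ alt 9 := by decide +kernel) : Commute a (Φ p) :=
  (mul_inv_eq_iff_eq_mul.1 (h.ev p hp)).symm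

/-- uniqueness of the normal form -/
theorem Fr.uniq (h : Fr a Φ) {i j : ℕ} {p q : PG 9} (e : a ^ i * Φ p = a ^ j * Φ q) :
    p = q ∧ a ^ i = a ^ j := by
  obtain rfl : p = q := mul_inv_eq_one.1 (h.ker _ (by
    rw [map_mul, map_inv, show Φ p = (a ^ i)⁻¹ * (a ^ j * Φ q) by rw [← e]; group, ← mul_assoc,
      mul_inv_cancel_right]
    exact mul_mem (inv_mem (pow_mem (mem_zpowers a) i)) (pow_mem (mem_zpowers a) j)))
  exact ⟨rfl, mul_right_cancel e⟩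

/-- the centraliser of `a` -/
theorem Fr.cen (h : Fr a Φ) {g : G} (hg : g * a = a * g) :
    ∃ p ∈ alt 9, ∃ i < 3, g = a ^ i * Φ p := by
  obtain ⟨p, i, hi, rfl⟩ := h.nrm g (.inl (mul_inv_eq_of_eq_mul hg))
  refine ⟨p, by_contra fun hp => h.a1 ?_, i, hi, rfl⟩
  have e : Φ p * a * (Φ p)⁻¹ = a := by
    rw [mul_assoc, ← mul_assoc a, ← pow_succ', pow_succ, mul_assoc, mul_right_inj] at hg
    rw [hg, mul_inv_cancel_right]
  rw [h.od p hp, inv_eq_iff_mul_eq_one] at e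
  simpa [pow_three', e] using h.aaa

theorem Fr.npow (h : Fr a Φ) (i n : ℕ) {p : PG 9} (hp : p ∈ alt 9) :
    (a ^ i * Φ p) ^ n = a ^ (i * n) * Φ (p ^ n) := by
  rw [((h.cm hp).pow_left i).mul_pow, pow_mul, map_pow]

theorem Fr.of_pow (h : Fr a Φ) {i n : ℕ} {p : PG 9} (hp : p ∈ alt 9) (e : (a ^ i * Φ p) ^ n = 1) :
    p ^ n = 1 ∧ a ^ (i * n) = 1 := by
  simpa using h.uniq (j := 0) (q := 1) (by rw [← h.npow i n hp, e]; simp)

/-- involutions centralising `a` -/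
theorem Fr.cen2 (h : Fr a Φ) {g : G} (hg : g * a = a * g) (h2 : g * g = 1) :
    ∃ p ∈ alt 9, p * p = 1 ∧ g = Φ p := by
  obtain ⟨p, hp, i, -, rfl⟩ := h.cen hg
  obtain ⟨e1, e2⟩ := h.of_pow hp (n := 2) (by rw [sq, h2])
  refine ⟨p, hp, by rw [← sq, e1], ?_⟩
  rw [show a ^ i = 1 by
    calc _ = a ^ i * (a ^ 3) ^ i := by rw [h.aaa]; simp
      _ = (a ^ (i * 2)) ^ 2 := by group
      _ = 1 := by rw [e2, one_pow], one_mul]

/-- conjugation of `Φ p` by an element in normal form -/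
theorem Fr.cj (h : Fr a Φ) (i : ℕ) (r : PG 9) {p : PG 9} (hp : p ∈ alt 9) :
    a ^ i * Φ r * Φ p * (a ^ i * Φ r)⁻¹ = Φ (r * p * r⁻¹) := by
  calc _ = a ^ i * Φ (r * p * r⁻¹) * (a ^ i)⁻¹ := by simp only [map_mul, map_inv]; group
    _ = _ := by
      rw [((h.cm (Normal.conj_mem inferInstance p hp r)).pow_left i).eq, mul_inv_cancel_right]

/-- relations between an element in normal form and even permutations -/
theorem Fr.rel (h : Fr a Φ) {i : ℕ} {r p q : PG 9} (e : Cm Φ (a ^ i * Φ r) p q)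
    (hp : p ∈ alt 9 := by decide +kernel) : r * p = q * r :=
  mul_inv_eq_iff_eq_mul.1 (h.inj ((h.cj i r hp).symm.trans (Eq.symm e)))

theorem Cm.of_comm {T : Type*} [Group T] {φ : T →* G} {g : G} {p : T} (e : Commute g (φ p)) :
    Cm φ g p p := cm_fix.2 (mem_Cx.2 e)

theorem Cm.comm' {T : Type*} [Group T] {φ : T →* G} {g : G} {p : T} (e : Cm φ g p p) :
    Commute g (φ p) := mem_Cx.1 (cm_fix.1 e)

theorem Fr.map_comm (p q : PG 9) (e : p * q = q * p := by decide +kernel) : Commute (Φ p) (Φ q) :=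
  mem_Cx.1 (map_mem_Cx e)

theorem conj_comm9 {x y : G} (n : G) (e : Commute x y) : Commute (n * x * n⁻¹) (n * y * n⁻¹) :=
  S8.comm_conj n e

theorem Fr.aux (h : Fr a Φ) {n : G} {A B : PG 9} (h1 : Commute (n * Φ t9 * n⁻¹) a)
    (h2 : Commute (n * Φ t9 * n⁻¹) (Φ j3)) (h3 : n * Φ j1 * n⁻¹ = Φ A) (h4 : n * Φ j2 * n⁻¹ = Φ B) :
    ∃ p, Φ p = n * Φ t9 * n⁻¹ ∧ p * j3 = j3 * p ∧ p * p = 1 ∧ p ∈ alt 9 ∧ (A * p) ^ 3 = 1 ∧
      (B * p) ^ 4 = 1 := by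
  obtain ⟨p, hp, e1, e2⟩ := h.cen2 h1 (by
    rw [conj_mul, ← map_mul, show t9 * t9 = 1 by decide +kernel]; simp)
  refine ⟨p, e2.symm, h.inj (by rw [map_mul, map_mul, ← e2, h2.eq]), e1, hp, h.inj ?_, h.inj ?_⟩
  · rw [map_pow, map_mul, ← h3, ← e2, conj_mul, conj_pow, ← map_mul, ← map_pow,
      show (j1 * t9) ^ 3 = 1 by decide +kernel]; simp
  · rw [map_pow, map_mul, ← h4, ← e2, conj_mul, conj_pow, ← map_mul, ← map_pow,
      show (j2 * t9) ^ 4 = 1 by decide +kernel]; simp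

theorem conj_fix9 {u n x y : G} (e : Commute u y) (h : n * x * n⁻¹ = y) : u * n * x * (u * n)⁻¹ = y := by
  calc _ = u * (n * x * n⁻¹) * u⁻¹ := by group
    _ = y := by rw [h, e.eq, mul_inv_cancel_right]

theorem Nine.exists_nine2 (h : Nine a m k Φ) : ∃ m k, Nine2 a m k Φ := by
  have ab : Commute a (Φ j3) := h.cm
  have ta : Commute (Φ t9) a := h.cm.symm
  have tb : Commute (Φ t9) (Φ j3) := Fr.map_comm _ _
  obtain ⟨p, e1, e2, e3, e4⟩ := h.aux (h.m3 ▸ conj_comm9 m tb)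
    (Commute.inv_right_iff.1 (h.m4 ▸ conj_comm9 m ta)) h.m1 h.m2
  have c1 := h.k3 ▸ conj_comm9 k tb
  have c2 := h.k4 ▸ conj_comm9 k ta
  have c3 : Commute (k * Φ t9 * k⁻¹) a := by
    have := c1.mul_right c2
    rwa [mul_assoc _ a⁻¹, ← mul_assoc a⁻¹, ab.inv_left.eq, mul_assoc (Φ j3), inv_mul_cancel_left,
      ← mul_inv_rev, inv_eq_of_mul_eq_one_right (a := a * a) (b := a) (by rw [← h.aaa, pow_three'])]
      at this
  obtain ⟨q, f1, f2, f3, f4⟩ := h.aux c3 (by simpa using c2.mul_right c3) h.k1 h.k2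
  obtain ⟨i, -, j, -, e5⟩ := pg_cj (pl [6, 7, 8, 3, 4, 5, 0, 1, 2]) true [(j3, j3)]
    (P := fun p => p ∈ alt 9 ∧ (j1 * p) ^ 3 = 1 ∧ (j2 * p) ^ 4 = 1 → ∃ i < 3, ∃ j < 3,
      j1 ^ i * j2 ^ j * p * (j1 ^ i * j2 ^ j)⁻¹ = t9) (by decide +kernel) (by simpa using e2)
    (fun _ => e3) e4
  obtain ⟨i', -, j', -, f5⟩ := pg_cj (pl [6, 7, 8, 3, 4, 5, 0, 1, 2]) true [(j3, j3)]
    (P := fun p => p ∈ alt 9 ∧ (j1 * j2 * p) ^ 3 = 1 ∧ (j1 * j2⁻¹ * p) ^ 4 = 1 → ∃ i < 3, ∃ j < 3,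
      j1 ^ i * j2 ^ j * p * (j1 ^ i * j2 ^ j)⁻¹ = T9) (by decide +kernel) (by simpa using f2)
    (fun _ => f3) f4
  have c : ∀ (i j : ℕ) {x}, Commute (Φ j1) x → Commute (Φ j2) x → Commute (Φ (j1 ^ i * j2 ^ j)) x :=
    fun i j x a1 a2 => by
      rw [map_mul, map_pow, map_pow]; exact (a1.pow_left i).mul_left (a2.pow_left j)
  have c0 := fun i j => c i j h.cm.symm h.cm.symm
  have c' : ∀ i j p, j1 * p = p * j1 ∧ j2 * p = p * j2 → Commute (Φ (j1 ^ i * j2 ^ j)) (Φ p) :=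
    fun i j p e => c i j (Fr.map_comm _ _ e.1) (Fr.map_comm _ _ e.2)
  have c3 := fun i j => c' i j j3 (by decide +kernel)
  have k0 : ∀ {n r p q}, Φ p = n * Φ t9 * n⁻¹ → r * p * r⁻¹ = q → Φ r * n * Φ t9 * (Φ r * n)⁻¹ = Φ q :=
    fun e e' => by rw [← e', map_mul, map_mul, map_inv, e]; group
  exact ⟨_, _, ⟨h.toFr, conj_fix9 (c' _ _ _ (by decide +kernel)) h.m1,
    conj_fix9 (c' _ _ _ (by decide +kernel)) h.m2, conj_fix9 (c0 _ _) h.m3,
    conj_fix9 (c3 _ _).inv_right h.m4, conj_fix9 (c' _ _ _ (by decide +kernel)) h.k1,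
    conj_fix9 (c' _ _ _ (by decide +kernel)) h.k2,
    conj_fix9 ((c3 _ _).inv_right.mul_right (c0 _ _).inv_right) h.k3,
    conj_fix9 ((c3 _ _).mul_right (c0 _ _).inv_right) h.k4, h.nB⟩, k0 e1 e5, k0 f1 f5⟩

/-- the subgroup `S₃ × S₅` of `N(⟨a⟩)` -/
structure Chi (a : G) (Φ : PG 9 →* G) (χ : S8.H0 →* G) : Prop where
  z : χ S8.z = a
  ρ : χ S8.ρ = Φ d9
  r : ∀ x, χ (1, x) = Φ (up x)

theorem Fr.exists_chi (h : Fr a Φ) : ∃ χ, Chi a Φ χ := by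
  have dd : Φ d9 * Φ d9 = 1 := by rw [← map_mul, show d9 * d9 = 1 by decide +kernel, map_one]
  have da : a * Φ d9 = Φ d9 * a⁻¹ := by
    rw [← h.od d9 (by decide +kernel), ← mul_assoc, ← mul_assoc, dd, one_mul,
      inv_eq_of_mul_eq_one_left dd]
  have a2 : a * a = a⁻¹ := eq_inv_of_mul_eq_one_left (by rw [← h.aaa, pow_three'])
  obtain ⟨f, e⟩ := ThreeTrans.exists_hom_of_coxeter (n := 2)
    (f := fun i => [Φ d9, Φ d9 * a].getD i 1)
    (fun i hi => by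
      interval_cases i
      exacts [dd, show Φ d9 * a * (Φ d9 * a) = 1 by
        rw [mul_assoc, ← mul_assoc a, da, ← mul_assoc, ← mul_assoc, dd]; simp])
    (fun i hi => by
      obtain rfl : i = 0 := by omega
      show Φ d9 * (Φ d9 * a) * Φ d9 = Φ d9 * a * Φ d9 * (Φ d9 * a)
      rw [← mul_assoc, dd, one_mul, mul_assoc _ (Φ d9), ← mul_assoc (Φ d9) (Φ d9), dd, one_mul,
        mul_assoc, a2, da])
    fun i j hi hj => by omega
  have e0 : f ((E 3).symm (pl [1, 0, 2])) = Φ d9 := by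
    rw [show pl [1, 0, 2] = E 3 (Equiv.swap 0 1) by decide +kernel, MulEquiv.symm_apply_apply]
    exact e 0 1
  have e1 : f ((E 3).symm (pl [0, 2, 1])) = Φ d9 * a := by
    rw [show pl [0, 2, 1] = E 3 (Equiv.swap 1 2) by decide +kernel, MulEquiv.symm_apply_apply]
    exact e 1 2
  refine ⟨(f.comp (E 3).symm.toMonoidHom).noncommCoprod (Φ.comp up) fun σ x => ?_, ?_, ?_, fun x => ?_⟩
  · obtain ⟨c1, c2⟩ := (by decide +kernel : ∀ x, d9 * upF x = upF x * d9 ∧ upF x ∈ alt 9) x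
    refine mem_Cx.1 (S8.top_of_adj 2 _ (S := (Cx (Φ (up x))).comap (f.comp (E 3).symm.toMonoidHom))
      (fun i => ?_) σ)
    have c3 : Commute (Φ d9) (Φ (up x)) := Fr.map_comm _ _ c1
    fin_cases i
    exacts [mem_Cx.2 ((show f ((E 3).symm (E 3 _)) = Φ d9 by
        rw [MulEquiv.symm_apply_apply]; exact e 0 1) ▸ c3),
      mem_Cx.2 ((show f ((E 3).symm (E 3 _)) = Φ d9 * a by
        rw [MulEquiv.symm_apply_apply]; exact e 1 2) ▸ c3.mul_left (h.cm c2))]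
  · show f ((E 3).symm (pl [1, 2, 0])) * Φ (up 1) = a
    rw [show (pl [1, 2, 0] : PG 3) = pl [1, 0, 2] * pl [0, 2, 1] by decide +kernel, map_mul, map_mul,
      e0, e1, ← mul_assoc, dd]; simp
  · show f ((E 3).symm (pl [1, 0, 2])) * Φ (up 1) = _
    rw [e0]; simp
  · show f ((E 3).symm 1) * Φ (up x) = _
    simp

namespace Chi

variable {χ : S8.H0 →* G} (c : Chi a Φ χ)
include c

theorem a5 (l : List ℕ) {p : PG 9} (e : upF (pl l) = p := by decide +kernel) : χ (S8.a5 l) = Φ p :=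
  e ▸ c.r _

theorem z' : χ S8.z' = Φ j3 := c.a5 _

theorem mz (h : Nine a m k Φ) : Cm χ m S8.z S8.z'⁻¹ := by rw [Cm, map_inv, c.z, c.z', h.m4]
theorem mz' (h : Nine a m k Φ) : Cm χ m S8.z' S8.z := by rw [Cm, c.z, c.z', h.m3]
theorem kz (h : Nine a m k Φ) : Cm χ k S8.z (S8.z' * S8.z⁻¹) := by
  rw [Cm, map_mul, map_inv, c.z, c.z', h.k4]
theorem kz' (h : Nine a m k Φ) : Cm χ k S8.z' (S8.z'⁻¹ * S8.z⁻¹) := by
  rw [Cm, map_mul, map_inv, map_inv, c.z, c.z', h.k3]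
theorem ky (h : Nine a m k Φ) : Cm χ k S8.y S8.z :=
  (by decide +kernel : S8.z' * S8.z⁻¹ * (S8.z'⁻¹ * S8.z⁻¹) = S8.z) ▸ (c.kz h).mul (c.kz' h)

theorem mN (h : Nine a m k Φ) : m ∈ normalizer (S8.D0.map χ : Set G) :=
  S8.mem_nD ⟨_, by decide +kernel, c.mz h⟩ ⟨_, S8.z_D, c.mz' h⟩

theorem kN (h : Nine a m k Φ) : k ∈ normalizer (S8.D0.map χ : Set G) :=
  S8.mem_nD ⟨_, by decide +kernel, c.kz h⟩ ⟨_, by decide +kernel, c.kz' h⟩

theorem form (i j : ℕ) : χ (S8.z ^ i * S8.z' ^ j) = a ^ i * Φ (j3 ^ j) := by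
  rw [map_mul, map_pow, map_pow, map_pow, c.z, c.z']

/-- the elements of `⟨a, Φ j3⟩` are conjugate to `a` -/
theorem fuse (h : Nine a m k Φ) {d : S8.H0} (hd : S8.InD d) (h1 : d ≠ 1) :
    ∃ n ∈ normalizer (S8.D0.map χ : Set G), Cm χ n d S8.z := by
  obtain ⟨x, -, e1, e⟩ := (by decide +kernel : ∀ d, S8.InD d → d ≠ 1 → ∃ x ∈ [1, S8.ρ, S8.ρ', S8.ρ * S8.ρ'],
    (S8.InD (x * S8.z * x⁻¹) ∧ S8.InD (x * S8.z' * x⁻¹)) ∧
      (x * d * x⁻¹ = S8.z ∨ x * d * x⁻¹ = S8.z' ∨ x * d * x⁻¹ = S8.y)) d hd h1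
  rcases e with e | e | e
  exacts [⟨_, S8.map_nD e1, Cm.of_eq e⟩,
    ⟨_, mul_mem (c.mN h) (S8.map_nD e1), (Cm.of_eq e).trans (c.mz' h)⟩,
    ⟨_, mul_mem (c.kN h) (S8.map_nD e1), (Cm.of_eq e).trans (c.ky h)⟩]

theorem cb (h : Fr a Φ) {x : G} {n : ℕ} (h1 : x * a = a * x)
    (h2 : x ∈ normalizer (S8.D0.map χ : Set G)) (h3 : x ^ 3 ^ n = 1) : x * Φ j3 = Φ j3 * x := by
  obtain ⟨d, hd, e⟩ := gimg h2 S8.z'_D
  obtain ⟨i, -, j, hj, rfl⟩ := S8.D_form d hd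
  obtain ⟨p, -, l, -, rfl⟩ := h.cen h1
  rw [Cm, c.form, c.z', h.cj l p (by decide +kernel)] at e
  have e1 := (h.uniq (j := 0) (q := p * j3 * p⁻¹) (e.trans (by simp))).1
  refine comm_of_odd (Odd.pow (by decide)) h3 ?_
  rw [h.cj l p (by decide +kernel), ← e1, ← map_inv]
  interval_cases j
  · exact absurd (by simpa using e1.symm) (by decide +kernel : j3 ≠ 1)
  exacts [.inl (by simp), .inr (congrArg Φ (by decide +kernel))]

theorem syl (h : Nine a m k Φ) : IsSylowIn 3 (S8.D0.map χ) (Cx (Φ t9)) := by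
  have := Fact.mk Nat.prime_three
  have hz : a ∈ S8.D0.map χ := ⟨_, S8.z_D, c.z⟩
  refine sylow_of S8.three_D (gmap_le fun d hd => ?_) fun x h1 h2 ⟨n, h3⟩ => ?_
  · obtain ⟨i, -, j, -, rfl⟩ := S8.D_form d hd
    rw [c.form, map_pow]
    exact mul_mem (pow_mem (mem_Cx.2 h.cm) i) (pow_mem (map_mem_Cx (by decide +kernel)) j)
  obtain ⟨_, ⟨d, hd, rfl⟩, d1, e⟩ := exists_fix3 (h.a3.symm.dvd.trans (orderOf_dvd_natCard _ hz)) h2 h3
  obtain ⟨u, hu, e1⟩ := c.fuse h hd fun e => d1 (e ▸ map_one χ)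
  have e2 : Commute (u * x * u⁻¹) a := by
    rw [← c.z, e1]; exact conj_comm9 u (mul_inv_eq_iff_eq_mul.1 e)
  have e3 := c.cb h.toFr (n := n) e2 (mul_mem (mul_mem hu h2) (inv_mem hu)) (by rw [conj_pow, h3]; simp)
  obtain ⟨d', hd', e4⟩ := gimg hu S8.z_D
  have e5 : x * a = a * x := by
    have := S8.mem_cD.2 ⟨Cm.of_comm (c.z ▸ e2), Cm.of_comm (c.z' ▸ e3)⟩ _ ⟨d', hd', rfl⟩
    rw [e4, c.z, conj_mul, conj_mul, mul_left_inj, mul_right_inj] at this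
    exact this.symm
  have e6 := c.cb h.toFr e5 h2 h3
  obtain ⟨p, hp, i, -, rfl⟩ := h.cen e5
  obtain ⟨j, -, e7⟩ := pg_conj [(t9, t9), (j3, j3)] (P := fun p => ∃ j < 3, p ^ 4 = j3 ^ j)
    (by decide +kernel) (g := p) (by
      simpa using ⟨h.rel (cm_fix.2 h1), h.rel (Cm.of_comm e6)⟩)
  refine mem_of_coprime_pow (a := 4) (Nat.Coprime.pow_right n (by norm_num)) ?_ (h3 ▸ one_mem _)
  rw [h.npow i 4 hp, e7, ← c.form]
  exact mem_map_of_mem χ (mul_mem (pow_mem S8.z_D _) (pow_mem S8.z'_D _))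

end Chi

/-- the two classes of involutions of `A₉` are not fused -/
theorem Nine.nc4 (h : Nine a m k Φ) : ¬ IsConj (Φ t9) (Φ w9) := fun e => by
  have := Fact.mk Nat.prime_three
  obtain ⟨χ, c⟩ := h.exists_chi
  have e1 : m * Φ (j1 * j2 * j3) * m⁻¹ = a ^ 1 * Φ (j1 * j2) := by
    rw [map_mul, map_mul, ← conj_mul, ← conj_mul, h.m1, h.m2, h.m3, ← map_mul, pow_one, h.cm.eq]
  obtain ⟨g, d, hd, e2⟩ := conj_into (c.syl h) e (x := a ^ 1 * Φ (j1 * j2)) (k := 1)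
    (mul_mem (pow_mem (mem_Cx.2 h.cm) 1) (map_mem_Cx (by decide +kernel))) (by
      rw [← e1, conj_pow, ← map_pow, show (j1 * j2 * j3) ^ 3 ^ 1 = 1 by decide +kernel]; simp)
  obtain ⟨n, -, e3⟩ := c.fuse h hd (by
    rintro rfl
    rw [map_one, eq_comm, conj_eq_one_iff, ← e1, conj_eq_one_iff, map_eq_one_iff _ h.inj] at e2
    exact absurd e2 (by decide +kernel))
  exact h.nB (((c.z ▸ e3.isConj.symm).trans (e2 ▸ (isConj_iff.2 ⟨g, rfl⟩).symm)).trans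
    (isConj_iff.2 ⟨m, e1⟩).symm)

end CfsgLib.HN3
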