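import Mathlib
import Cfsg.Agent.Lib.HN3.A1
import Cfsg.Agent.Lib.HN3.B1

/-!
An extension of a group of order three by `S₉` with non-trivial action splits.
-/

set_option autoImplicit false
set_option maxHeartbeats 400000
set_option linter.unusedSectionVars false

namespace CfsgLib.HN3

open Subgroup Cfsg CfsgLib.Tech CfsgLib.W2 CfsgLib.Rec3 CfsgLib.McLRec.Three PG Equiv

/-- the Coxeter generators -/
noncomputable def tr (i : ℕ) : PG 9 := E 9 (swap (Fin.ofNat 9 i) (Fin.ofNat 9 (i + 1)))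

variable {G : Type*} [Group G] [Finite G]

theorem split9 {a : G} (a3 : orderOf a = 3) {N : Subgroup G} {θ : N →* PG 9}
    (hN : ∀ g, g ∈ N ↔ g * a * g⁻¹ = a ∨ g * a * g⁻¹ = a⁻¹) (hs : ∀ p, ∃ g, Im θ g p)
    (hk : ∀ g, Im θ g 1 ↔ g ∈ zpowers a) {r : G} (hr : r * a * r⁻¹ = a⁻¹) :
    ∃ Φ, Fr a Φ ∧ ∀ x p ρ, Im θ x p → x ∈ Cx a → ρ ∈ Cx x → ρ * a * ρ⁻¹ = a⁻¹ → Φ p = x := by
  have aa : a ^ 3 = 1 := a3 ▸ pow_orderOf_eq_one a
  have a1 : a⁻¹ ≠ a := fun e => by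
    simp [eq_one_of_sq aa (inv_eq_iff_mul_eq_one.1 e)] at a3
  have ZC : zpowers a ≤ Cx a := zpowers_le.2 (mem_Cx.2 rfl)
  have ev : ∀ {g p}, Im θ g p → p ∈ alt 9 → g * a * g⁻¹ = a := fun {g p} h hp => by
    obtain ⟨x, b1, b2⟩ := exists_of_mem_im (alt_le (S := qim θ (Cx a)) (a := 0) (b := 1) (by decide)
      (fun j j0 j1 => by
        obtain ⟨x, hx⟩ := hs (E 9 (Pres.cyc j 0 1))
        exact hx.2 ▸ mem_im (mem_Cx.2 (comm_of_odd (n := 3 * 3) (by decide) (by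
          rw [pow_mul]
          exact zp_cube aa ((hk _).1 ((hx.pow 3).of_eq ((by decide +kernel :
            ∀ j : Fin 9, j ≠ 0 → j ≠ 1 → E 9 (Pres.cyc j 0 1) ^ 3 = 1) j j0 j1)))) ((hN x).1 hx.mem)))) hp)
    exact mem_Cx'.1 ((mul_mem_cancel_left (inv_mem b1)).1 (ZC ((hk _).1
      (((Im.inv ⟨x.2, b2⟩).mul h).of_eq (inv_mul_cancel _)))))
  have od : ∀ {g p}, Im θ g p → p ∉ alt 9 → g * a * g⁻¹ = a⁻¹ := fun {g p} h hp => by
    obtain ⟨q, hq⟩ := Im.of_mem θ ((hN r).2 (Or.inr hr))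
    refine ((hN g).1 h.mem).resolve_left fun e => a1 ?_
    have := ev (hq.mul h) (mul_mem_alt (fun b => a1 (hr ▸ ev hq b)) hp)
    rwa [show r * g * a * (r * g)⁻¹ = r * (g * a * g⁻¹) * r⁻¹ by group, e, hr] at this
  have K : ∀ {s x y p}, s * a * s⁻¹ = a⁻¹ → Im θ x p → Im θ y p → x ∈ Cx s → y ∈ Cx s → x = y :=
    fun {s x y p} h1 h2 h3 h4 h5 => by
      have b := mem_Cx'.1 (Cx_comm.1 (mul_mem h4 (inv_mem h5)))
      rcases zp3_cases aa ((hk _).1 ((h2.mul h3.inv).of_eq (mul_inv_cancel _))) with e | e | e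
      · exact mul_inv_eq_one.1 e
      · exact absurd (by rwa [e, h1] at b) a1
      · exact absurd (by rwa [e, ← conj_inv, h1, inv_inv, eq_comm] at b) a1
  have od' : ∀ {g}, ∀ i < 8, Im θ g (tr i) → g * a * g⁻¹ = a⁻¹ := fun i hi h =>
    od h ((by decide +kernel : ∀ i < 8, tr i ∉ alt 9) i hi)
  have sq : ∀ {g}, ∀ i < 8, Im θ g (tr i) → g * g = 1 := fun i hi h =>
    K (od' i hi h) (h.mul h) (Im.one.of_eq ((by decide +kernel : ∀ i < 8, 1 = tr i * tr i) i hi))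
      (mem_Cx.2 (mul_assoc _ _ _)) (one_mem _)
  have tc : ∀ i < 8, ∀ j < 8, i + 1 < j → tr i * tr j = tr j * tr i := by decide +kernel
  have lf : ∀ {s}, ∀ i < 8, Im θ s (tr i) → ∀ p, ∃ g, Im θ g p ∧ (p * tr i = tr i * p → g ∈ Cx s) :=
    fun {s} i hi h p => by
      obtain ⟨g, hg⟩ := hs p
      by_cases e : p * tr i = tr i * p
      · obtain ⟨c, c1, c2⟩ := exists_cent (N := zpowers a) (fun _ => zp_cube aa) (sq i hi h) ((hk _).1
          (((hg.conj h).mul h).of_eq (by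
            rw [e, mul_inv_cancel_right]; exact (h.mul h).eq_one (sq i hi h))))
        exact ⟨_, (((hk c).2 c1).mul hg).of_eq (one_mul _), fun _ => c2⟩
      · exact ⟨g, hg, fun b => absurd b e⟩
  obtain ⟨f0, h0⟩ := hs (tr 0)
  choose F hF cF using fun j => lf 0 (by norm_num) h0 (tr j)
  obtain ⟨f1, h1, c13⟩ := lf 3 (by norm_num) (hF 3) (tr 1)
  obtain ⟨f, hf, c0, c13⟩ : ∃ f : ℕ → G, (∀ i, Im θ (f i) (tr i)) ∧
      (∀ j < 8, 1 < j → f j ∈ Cx (f 0)) ∧ f 1 ∈ Cx (f 3) :=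
    ⟨fun i => match i with | 0 => f0 | 1 => f1 | i + 2 => F (i + 2),
      fun i => match i with | 0 => h0 | 1 => h1 | i + 2 => hF (i + 2),
      fun j hj b => match j, hj, b with
        | j + 2, hj, b => cF _ (tc 0 (by norm_num) _ hj b).symm, c13 (by decide +kernel)⟩
  have cm : ∀ k < 8, ∀ i j, j < 8 → i + 1 < j → f i ∈ Cx (f k) → f j ∈ Cx (f k) → f i ∈ Cx (f j) :=
    fun k hk i j hj e b c => mem_Cx.2 (K (od' k hk (hf k)) ((hf i).mul (hf j))
      (((hf j).mul (hf i)).of_eq (tc i (by omega) j hj e).symm) (mul_mem b c) (mul_mem c b))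
  have c2 : ∀ i j, 1 < i → i + 1 < j → j < 8 → f i ∈ Cx (f j) := fun i j b c e =>
    cm 0 (by norm_num) i j e c (c0 i (by omega) b) (c0 j e (by omega))
  have c5 : ∀ j, 4 < j → j < 8 → f 1 ∈ Cx (f j) := fun j b c =>
    cm 3 (by norm_num) 1 j c (by omega) c13 (Cx_comm.1 (c2 3 j (by omega) b c))
  have cc : ∀ i j, i + 1 < j → j < 8 → f i ∈ Cx (f j) := fun i j b c => match i with
    | 0 => Cx_comm.1 (c0 j c b)
    | 1 => by
      rcases (by omega : j = 3 ∨ j = 4 ∨ 4 < j) with rfl | rfl | e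
      exacts [c13, cm 6 (by norm_num) 1 4 c b (c5 6 (by omega) (by omega))
        (c2 4 6 (by omega) (by omega) (by omega)), c5 j e c]
    | i + 2 => c2 _ j (by omega) b c
  obtain ⟨Φ₀, hΦ⟩ := ThreeTrans.exists_hom_of_coxeter (f := f) (n := 8) (fun i hi => sq i hi (hf i))
    (fun i hi => by
      obtain ⟨k, hk, b, c⟩ : ∃ k < 8, f i ∈ Cx (f k) ∧ f (i + 1) ∈ Cx (f k) := by
        by_cases e : i < 2
        · exact ⟨5, by omega, cc _ _ (by omega) (by omega), cc _ _ (by omega) (by omega)⟩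
        · exact ⟨0, by omega, c0 _ (by omega) (by omega), c0 _ hi (by omega)⟩
      exact K (od' k hk (hf k)) (((hf i).mul (hf (i + 1))).mul (hf i))
        ((((hf (i + 1)).mul (hf i)).mul (hf (i + 1))).of_eq ((by decide +kernel : ∀ i < 7,
          tr (i + 1) * tr i * tr (i + 1) = tr i * tr (i + 1) * tr i) i (by omega)))
        (mul_mem (mul_mem b c) b) (mul_mem (mul_mem c b) c))
    fun i j b c => mem_Cx.1 (cc i j b c)
  let Φ : PG 9 →* G := Φ₀.comp (E 9).symm.toMonoidHom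
  have hi : ∀ p, Im θ (Φ p) p := S8.top_of_adj 8 ⟨by norm_num⟩
    (S := ⟨⟨⟨{p | Im θ (Φ p) p}, fun a b => by simpa using Im.mul a b⟩, by simpa using Im.one⟩,
      fun a => by simpa using Im.inv a⟩) fun i => by
    show Im θ (Φ₀ ((E 9).symm (E 9 _))) _
    rw [MulEquiv.symm_apply_apply, hΦ, Fin.val_succ, Fin.val_castSucc, ThreeTrans.coxSwap_add f i 0]
    exact (hf i).of_eq ((by decide +kernel : ∀ i : Fin 8, tr i = E 9 (swap i.castSucc i.succ)) i)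
  have kk : ∀ {g p}, Im θ g p → g * (Φ p)⁻¹ ∈ zpowers a := fun h =>
    (hk _).1 ((h.mul (hi _).inv).of_eq (mul_inv_cancel _))
  refine ⟨Φ, ⟨a3, fun p h => (hi p).uniq ((hk _).2 h), fun p => ev (hi p), fun p => od (hi p),
    fun g hg => ?_⟩, fun x p ρ b1 b2 b3 b4 => ?_⟩
  · obtain ⟨p, hp⟩ := Im.of_mem θ ((hN g).2 hg)
    rcases zp3_cases aa (kk hp) with e | e | e
    exacts [⟨p, 0, by omega, by rw [pow_zero, ← e]; simp⟩, ⟨p, 1, by omega, by rw [pow_one, ← e]; simp⟩,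
      ⟨p, 2, by omega, by
        rw [eq_inv_of_mul_eq_one_left (show a ^ 2 * a = 1 by rw [← pow_succ, aa]), ← e]; simp⟩]
  · obtain ⟨s, h2⟩ := Im.of_mem θ ((hN ρ).2 (Or.inr b4))
    refine K b4 (hi p) b1 (Cx_comm.1 ?_) (Cx_comm.1 b3)
    have c1 : Φ s ∈ Cx (Φ p) := mem_Cx'.2 (by
      rw [← map_inv, ← map_mul, ← map_mul, (h2.conj b1).uniq ((mem_Cx'.1 b3).symm ▸ b1)])
    have c2 : a ∈ Cx (Φ p) := Cx_comm.1 (by simpa using mul_mem (inv_mem (ZC (kk b1))) b2)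
    simpa using mul_mem (zpowers_le.2 c2 (kk h2)) c1

end CfsgLib.HN3
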