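import Mathlib
import Cfsg.Agent.Lib.HN3.A4
import Cfsg.Agent.Lib.HN3.A5
import Cfsg.Agent.Lib.Rec3.JSet4
import Cfsg.Agent.Lib.Rec3.JSetP
import Cfsg.Agent.Lib.Rec3.S9End

/-!
The 3-local characterisation of the Harada–Norton group: the normaliser of `⟨a⟩` is `3 : S₉`.
-/

set_option autoImplicit false
set_option maxHeartbeats 400000
set_option linter.unusedSectionVars false
set_option synthInstance.maxSize 4096

namespace CfsgLib.HN3

open Subgroup Cfsg CfsgLib.Tech CfsgLib.W2 CfsgLib.Rec3 TG CfsgLib.McLRec.Three Equiv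

theorem relab {ψ : V →* Perm (Fin 9)} (h27 : Nat.card ψ.range = 27) {c s : Perm (Fin 9)} {α β : V → V}
    (hc : Act ψ c α) (hs : Act ψ s β) {x : V} (h1 : ψ x ≠ 1) (h2 : α (α (α x)) = x) (h3 : β x = x⁻¹)
    (h4 : β (α x) = α x) (h5 : β (α (α x)) = α (α x)) : ∃ k, PG.E 9 (k * ψ x * k⁻¹) = j1 ∧
      PG.E 9 (k * ψ (α x) * k⁻¹) = j2 ∧ PG.E 9 (k * ψ (α (α x)) * k⁻¹) = j3 := by
  have E : Emb B3 Jx.θ9 := ⟨fun _ _ => map_mul _ _ _, fun _ _ e => Jx.θ9_inj e⟩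
  have syl : IsSylowIn 3 (img Jx.θ9 S0) ⊤ := ⟨le_top, E.im_pgroup S0_le.2.2.2.2.2 Jx.S0_pgroup, by
    have := card_mul_relIndex' (le_top : img Jx.θ9 S0 ≤ ⊤)
    rw [E.card_im S0_le.2.2.2.2.2, cards.2.1, card_top, Nat.card_perm, Nat.card_fin,
      show Nat.factorial 9 = 362880 from rfl] at this
    omega⟩
  obtain ⟨g, -, hg⟩ := syl.exists_cj_le (Q := ψ.range)
    (isPGroup_iff_mem.2 fun x hx => ⟨1, J3 ψ x hx⟩) le_top
  have a1 := Jx.emb_eq_J E (hg.trans (im_mono S0_le.2.2.2.2.2)) (Jx.cj_elem g (Jc ψ) (J3 ψ)).1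
    (Jx.cj_elem g (Jc ψ) (J3 ψ)).2 ((card_cj g _).trans h27)
  have a2 : img Jx.θ9 J0 = J0.map Jx.θ9 := Subgroup.ext fun _ => E.mem_im fun a _ => mem_B3 a
  have a3 : ∀ {c α}, Act ψ c α → ∃ s, ∀ x v, g * ψ x * g⁻¹ = Jx.θ9 (vec v) →
      g * ψ (α x) * g⁻¹ = Jx.θ9 (vec (act s v)) := fun {c α} h => by
    obtain ⟨b, hb⟩ := Jx.norm9 (p := g * c * g⁻¹) (by
      rw [← a2, a1, ← cj_normalizer, conj_mem_cj]; exact act_norm h)
    exact ⟨pr b, fun x v e => by rw [← conj_vec, map_mul, map_mul, map_inv, hb, ← e, ← h]; group⟩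
  obtain ⟨a, b1, b2⟩ := (a2 ▸ a1).ge (conj_mem_cj.2 (φJ ψ x))
  rw [eq_vec a b1, eq_comm] at b2
  generalize vp a = v at b2
  obtain ⟨c, c1⟩ := a3 hc
  obtain ⟨s, c2⟩ := a3 hs
  have i : ∀ {v w}, Jx.θ9 (vec v) = Jx.θ9 (vec w) → v = w := fun e => vec_inj (Jx.θ9_inj e)
  have b3 := c1 _ _ b2
  have b4 := c1 _ _ b3
  obtain ⟨k, d1, d2, d3⟩ := (by decide +kernel : ∀ c : W48, ∀ v : V27, v ≠ 1 →
    act c (act c (act c v)) = v → ∀ s : W48, act s v = v⁻¹ → act s (act c v) = act c v →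
    act s (act c (act c v)) = act c (act c v) → ∃ k : W48, toP (vec (act k v)) = j1 ∧
      toP (vec (act k (act c v))) = j2 ∧ toP (vec (act k (act c (act c v)))) = j3) c v
    (fun e => h1 (by simpa [e] using b2)) (i ((c1 _ _ b4).symm.trans (h2.symm ▸ b2)))
    s (i ((c2 _ _ b2).symm.trans (by rw [h3, map_inv, map_inv, map_inv, ← b2]; group)))
    (i ((c2 _ _ b3).symm.trans (h4.symm ▸ b3))) (i ((c2 _ _ b4).symm.trans (h5.symm ▸ b4)))
  have k1 : ∀ {y v}, g * y * g⁻¹ = Jx.θ9 (vec v) → PG.E 9 (Jx.θ9 (Rec3.lin k) * g * y *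
      (Jx.θ9 (Rec3.lin k) * g)⁻¹) = toP (vec (act k v)) := fun {y v} e => by
    rw [← Jx.E_θ9, ← lin_vec, map_mul Jx.θ9, map_mul Jx.θ9, map_inv Jx.θ9, ← e]
    exact congrArg _ (by group)
  exact ⟨_, (k1 b2).trans d1, (k1 b3).trans d2, (k1 b4).trans d3⟩

universe w

variable {G : Type w} [Group G] [Finite G] {φ : V →* G} {u e q : G} {Q L Q' L' : Subgroup G}
  {η : L →* S25} {η' : L' →* S25}

namespace Dat2

variable (d : Dat2 φ u e q Q L η Q' L' η')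
include d

theorem a3 : orderOf (φ (o 12)) = 3 :=
  orderOf_eq_prime (V3 φ _) (mt (map_eq_one_iff φ d.inj).1 (by decide +kernel))

theorem ra : e * e * φ (o 12) * (e * e)⁻¹ = (φ (o 12))⁻¹ := by
  rw [d.ae.mul d.ae, ← map_inv]; exact congrArg φ (by decide +kernel)

theorem cenz {g : G} (h1 : g ∈ normalizer (zpowers (φ (o 12)) : Set G))
    (h2 : Cj (zpowers (φ (o 12))) g (φ (o 1)) (φ (o 1))) : g ∈ Cx (φ (o 1)) ∧
    ∃ i ∈ [0, 1, 2], ∃ j ∈ [0, 1, 2], Act φ g (aW i j) ∨ Act φ g fun v => aE (aE (aW i j v)) := by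
  obtain ⟨c, a1, a2⟩ := exz h2
  have a3 : g ∈ Cx (φ (o 1)) := by
    rcases (by decide +kernel : ∀ c, InL (o 12) c → c * o 1 = o 1 ∨ Bad (c * o 1)) c a1 with b | b
    exacts [mem_Cx'.2 (a2.trans (congrArg φ b)), absurd (isConj_iff.2 ⟨g, a2⟩) (d.nB b)]
  have k : ∀ {g}, g ∈ Cx (φ (o 1)) → g ∈ Cx (φ (o 12)) → _ := fun a b =>
    d.actS (d.cz a (by decide +kernel) (by decide +kernel) (cj_comm b))
  refine ⟨a3, ?_⟩
  rcases conj_of_norm_three d.a3 h1 with b | b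
  · obtain ⟨i, hi, j, hj, c⟩ := k a3 (mem_Cx'.2 b)
    exact ⟨i, hi, j, hj, Or.inl c⟩
  · have a4 := d.hz.imz d.ηe
    obtain ⟨i, hi, j, hj, c⟩ := k (mul_mem (inv_mem (mul_mem a4 a4)) a3) (same_C d.ra b)
    exact ⟨i, hi, j, hj, Or.inr (mul_inv_cancel_left (e * e) g ▸ (d.ae.mul d.ae).mul c)⟩

theorem cU : Nat.card (Sy η ⊓ Cx (φ (o 12)) : Subgroup G) = 243 := by
  have a1 := le_inf d.JS (JC φ (o 12))
  have a2 := card_mul_relIndex' a1
  have a3 := card_mul_relIndex' (inf_le_left : Sy η ⊓ Cx (φ (o 12)) ≤ _)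
  have a4 : φ.range.relIndex (Sy η ⊓ Cx (φ (o 12))) ≠ 1 := fun a => absurd
    ((d.au.mul d.av).ext d.inj (actJ (relIndex_eq_one.1 a ⟨d.QS (mul_mem d.uQ d.vQ),
      (d.au.mul d.av).mem_Cx (by decide +kernel)⟩)) (o 3)) (by decide +kernel)
  have a5 : (Sy η ⊓ Cx (φ (o 12))).relIndex (Sy η) ≠ 1 := fun a => absurd
    (d.au.fix d.inj (relIndex_eq_one.1 a (d.QS d.uQ)).2) (by decide +kernel)
  rw [d.cS, ← a2, d.cJ] at a3
  rw [← a2, d.cJ]
  generalize φ.range.relIndex _ = k at *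
  generalize (Sy η ⊓ Cx (φ (o 12))).relIndex _ = l at *
  have : k ≤ 9 := Nat.le_of_dvd (by norm_num) ⟨l, by linarith⟩
  interval_cases k <;> omega

theorem s9 {H : Type w} [Group H] [Finite H] {π : normalizer (zpowers (φ (o 12)) : Set G) →* H}
    (hs : Function.Surjective π) (hπ : ∀ x, π x = 1 ↔ (x : G) ∈ zpowers (φ (o 12))) {ψ : V →* H}
    (hψ : ∀ v, Im π (φ v) (ψ v)) : Nat.card ψ.range = 27 ∧ Nonempty (H ≃* Perm (Fin 9)) := by
  have CN := Cx_le_norm (φ (o 12))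
  have JN := (JC φ (o 12)).trans CN
  have cA : Nat.card (zpowers (φ (o 12))) = 3 := by rw [Nat.card_zpowers, d.a3]
  have eJ : qim π φ.range = ψ.range := le_antisymm (fun x hx => by
      obtain ⟨⟨_, a⟩, ⟨v, rfl⟩, rfl⟩ := exists_of_mem_im hx
      exact ⟨v, (hψ v).2.symm⟩) (by rintro _ ⟨v, rfl⟩; exact (hψ v).2 ▸ mem_im (φJ φ v))
  have aH : ∀ {g x α}, Im π g x → Act φ g α → Act ψ x α := fun a b v =>
    (a.conj (hψ v)).uniq (b v ▸ hψ _)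
  have ker : ∀ {v w}, ψ v = ψ w → InL (o 12) (v * w⁻¹) := fun {v w} a => (zp d.inj).1
    ((hπ ⟨_, (hψ _).1⟩).1 ((hψ _).2.trans (by rw [map_mul, map_inv, a, mul_inv_cancel])))
  have ker' : ∀ {v}, InL (o 12) v → ψ v = 1 := fun a =>
    (hψ _).2.symm.trans ((hπ ⟨_, (hψ _).1⟩).2 ((zp d.inj).2 a))
  have cz : ∀ g : normalizer (zpowers (φ (o 12)) : Set G), π g ∈ Cx (ψ (o 1)) → _ := fun g a =>
    d.cenz g.2 ((cj_iff hπ (x := ⟨_, (hψ (o 1)).1⟩) (y := ⟨_, (hψ (o 1)).1⟩)).2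
      (by rw [(hψ _).2]; exact mem_Cx'.1 a))
  have c27 : Nat.card ψ.range = 27 := by
    have := card_mul_relIndex' (ZJ φ (o 12))
    rw [cA, d.cJ, ← card_im hπ JN, eJ] at this
    omega
  have c81 : Nat.card (qim π (Sy η ⊓ Cx (φ (o 12)))) = 81 := by
    have := card_mul_relIndex' ((ZJ φ (o 12)).trans (le_inf d.JS (JC φ (o 12))))
    rw [cA, d.cU, ← card_im hπ (inf_le_right.trans CN)] at this
    omega
  have hCJ : ∀ g ∈ Cx (ψ (o 1)), (∀ x ∈ ψ.range, g * x = x * g) → g ∈ ψ.range := fun g a b => by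
    obtain ⟨g, rfl⟩ := hs g
    have k : ∀ {α}, Act φ g α → ∀ v, InL (o 12) (α v * v⁻¹) := fun c v =>
      ker ((aH ⟨g.2, rfl⟩ c v).symm.trans (by rw [b _ (φJ ψ v), mul_inv_cancel_right]))
    obtain ⟨-, i, hi, j, hj, c | c⟩ := cz g a
    · exact eJ ▸ mem_im (d.triv c ((by decide +kernel : ∀ i ∈ [0, 1, 2], ∀ j ∈ [0, 1, 2],
        InL (o 12) (aW i j (o 27) * (o 27)⁻¹) → InL (o 12) (aW i j (o 3) * (o 3)⁻¹) →
        aW i j (o 1) = o 1 ∧ aW i j (o 3) = o 3 ∧ aW i j (o 9) = o 9) i hi j hj (k c _) (k c _)))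
    · exact absurd (k c (o 21)) ((by decide +kernel : ∀ i ∈ [0, 1, 2], ∀ j ∈ [0, 1, 2],
        ¬ InL (o 12) (aE (aE (aW i j (o 21))) * (o 21)⁻¹)) i hi j hj)
  have as := d.au.mul d.av
  have sQ := mul_mem d.uQ d.vQ
  have sa := as.mem_Cx (u := o 12) (by decide +kernel)
  have sN : Im π _ _ := ⟨CN sa, rfl⟩
  have rN : Im π _ _ := ⟨norm_zp (Or.inr d.ra), rfl⟩
  obtain ⟨A, ι, h, e1, -, e3, hA⟩ := exists_JS0 (z := ψ (o 1)) (S := qim π (Sy η ⊓ Cx (φ (o 12))))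
    (orderOf_eq_prime (V3 ψ _) fun a => absurd (ker (a.trans (map_one ψ).symm)) (by decide +kernel))
    (sylow_of (IsPGroup.of_card (n := 4) c81) (fun x hx => by
      obtain ⟨g, a, rfl⟩ := exists_of_mem_im hx
      exact mem_Cx'.2 (((Im.conj ⟨g.2, rfl⟩ (hψ _))).uniq ((mem_Cx'.1 (d.Sz a.1)).symm ▸ hψ _)))
      fun x a _ ⟨n, b⟩ => by
        obtain ⟨g, rfl⟩ := hs x
        have c : (g : G) ∈ Cx (φ (o 12)) := mem_Cx.2 (comm_of_odd (n := 3 ^ n * 3)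
          (Odd.mul (Odd.pow (by decide)) (by decide)) (by
            rw [pow_mul]; exact zp_cube (V3 φ _) ((hπ (g ^ 3 ^ n)).1 (by rw [map_pow, b])))
          (conj_of_norm_three d.a3 g.2))
        exact mem_im ⟨d.cz (cz g a).1 (by decide +kernel) (by decide +kernel) (cj_comm c), c⟩)
    c81 (eJ ▸ map_mono (comap_mono (le_inf d.JS (JC φ (o 12))))) (Jc ψ) (J3 ψ) c27 hCJ
    (mem_im (x := ⟨_, sN.1⟩) ⟨d.QS sQ, sa⟩)
    (fun a => absurd (ker (((aH sN as (o 3)).symm.trans (actJ a _)))) (by decide +kernel))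
    ((sN.pow 3).eq_one (d.hz.Q3 _ sQ)) (by
      rintro _ ⟨v, rfl⟩ a
      obtain ⟨c, c1, c2⟩ := (by decide +kernel : ∀ v, InL (o 12) (aU (aV v) * v⁻¹) →
        ∃ c, InL (o 1) c ∧ InL (o 12) (v * c⁻¹)) v (ker ((aH sN as v).symm.trans
          (mul_inv_eq_iff_eq_mul.2 a)))
      have := ker' c2
      rw [map_mul, map_inv, mul_inv_eq_one] at this
      rcases c1 with rfl | rfl | rfl <;> simp [this])
    (act_norm (aH rN (d.ae.mul d.ae))) ((aH rN (d.ae.mul d.ae)).mem_Cx (by decide +kernel))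
    (eJ ▸ ((rN.conj sN).mul sN).2 ▸ mem_im (ZJ φ _ (by
      simpa only [Cj, inv_inv] using d.hz.inv_m1 ((d.ηe.mul d.ηe).of_eq (by decide +kernel)) sQ)))
  have js : JS A ι := ⟨h, fun W a b => eq_bot_iff.2 fun x hx => by
    obtain ⟨g, rfl⟩ := hs x
    rw [e1] at b
    have b1 : IsSylowIn 3 (zpowers (φ (o 12))) (qpre π W ⊓ Cx (φ (o 12))) :=
      ⟨le_inf (le_pre hπ le_normalizer _) ((ZJ φ _).trans (JC φ _)), IsPGroup.of_card (n := 1) cA, by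
        rw [← card_im hπ (inf_le_right.trans CN)]
        refine fun c => Nat.prime_three.coprime_iff_not_dvd.1 a.symm (c.trans (card_dvd_of_le fun y hy => ?_))
        obtain ⟨y, c, rfl⟩ := exists_of_mem_im hy
        exact mem_pre.1 c.1⟩
    have b2 : φ.range ≤ normalizer (qpre π W : Set G) := by
      rintro _ ⟨v, rfl⟩
      exact norm_pre (x := ⟨_, (hψ v).1⟩) ((hψ v).2 ▸ b (φJ ψ v))
    have b3 := le_of_npc (npc_of_burnside b1 fun n c _ x hx => Hy.cen c.2 hx) b1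
      ((d.sig (PComp.coprime_card_opOf _) ((Coprime.le_normalizer_inf b2 ((JC φ _).trans
        le_normalizer)).trans (PComp.normalizer_le_normalizer_opOf _))).trans bot_le) le_rfl
    have b4 : ∀ v, π g * ψ v = ψ v * π g := fun v => by
      have c1 := mem_pre.2 hx
      have c2 : g * φ v * (g : G)⁻¹ ∈ Cx (φ (o 12)) :=
        conj_mem_of_mem_normalizer (JS0.norm_le_norm_Cx g.2) (JC φ _ (φJ φ v))
      have c3 := b3 (x := g * φ v * (g : G)⁻¹ * (φ v)⁻¹) (mem_inf.2 ⟨by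
        simpa only [mul_assoc] using mul_mem c1 (conj_mem_of_mem_normalizer (b2 (φJ φ v)) (inv_mem c1)),
        mul_mem c2 (inv_mem (JC φ _ (φJ φ v)))⟩)
      have := (cj_iff hπ (g := g) (x := ⟨_, (hψ v).1⟩) (y := ⟨_, (hψ v).1⟩)).1 c3
      rwa [(hψ v).2, mul_inv_eq_iff_eq_mul] at this
    exact eq_one_of_coprime a hx (k := 1) (J3 ψ _ (hCJ _ (mem_Cx.2 (b4 _)) (by
      rintro _ ⟨v, rfl⟩; exact b4 v)))⟩
  have hz : Cx (ι z0) ≤ normalizer (img ι J0 : Set H) := fun x a => by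
    obtain ⟨g, rfl⟩ := hs x
    obtain ⟨-, i, -, j, -, c | c⟩ := cz g (e3 ▸ a) <;> exact e1 ▸ act_norm (aH ⟨g.2, rfl⟩ c)
  have nn : ¬ (img ι J0).Normal := fun a => d.nn fun g hg =>
    (norm_im_iff hπ (ZJ φ _) JN (x := ⟨g, CN hg⟩)).1 (by
      rw [eJ, ← e1, normalizer_eq_top]; exact mem_top _)
  refine ⟨c27, ?_⟩
  rcases hA with ⟨rfl | rfl, -⟩ | ⟨rfl | rfl, -⟩
  · exact absurd (S9c.case_S3 js hz) nn
  · exact absurd (S9c.case_D3 js hz) nn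
  · exact absurd (S9c.case_S3x2 js hz) nn
  rcases js.b3_cases with he | ⟨κ, hκ⟩
  · refine absurd (S9c.case_B3 js (fun x a => ?_) he) nn
    obtain ⟨b, -, rfl⟩ := h.exists_eq (hz a)
    exact mem_im_of ((by decide +kernel : ∀ d : W3, d * z0 = z0 * d → d ∈ S3) b
      ((h.comm_iff (mem_B3 _) (mem_B3 _)).1 (mem_Cx.1 a)))
  · exact S9c.SC.iso ⟨js, hκ, hz⟩

theorem exists_nine : ∃ (a m k : G) (Φ : PG 9 →* G), Nine a m k Φ := by
  obtain ⟨H, _, _, π, hs, hπ⟩ := exists_quo (K := normalizer (zpowers (φ (o 12)) : Set G)) le_rfl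
  have JN := (JC φ (o 12)).trans (Cx_le_norm _)
  let ψ := π.comp (φ.codRestrict _ fun v => JN (φJ φ v))
  obtain ⟨c27, ⟨ε⟩⟩ := d.s9 hs hπ (ψ := ψ) fun v => ⟨JN (φJ φ v), rfl⟩
  have aH : ∀ w, InL (o 12) (wf fs w (o 12)) → ∃ x, Act (ε.toMonoidHom.comp ψ) x (wf fs w) :=
    fun w a => ⟨ε (π ⟨_, mem_normalizer_of_cj_le (by
      rw [cj_zpowers, zpowers_le, d.aw w]; exact (zp d.inj).2 a)⟩), fun v => by
        simp only [MonoidHom.comp_apply, MulEquiv.coe_toMonoidHom, ψ, ← map_inv, ← map_mul]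
        exact congrArg _ (congrArg _ (Subtype.ext (d.aw w v)))⟩
  obtain ⟨c, hc⟩ := aH [0, 1, 0, 1, 1, 1] (by decide +kernel)
  obtain ⟨s, hs'⟩ := aH [1, 2, 1, 1, 0, 1, 0, 2] (by decide +kernel)
  obtain ⟨k, b1, b2, b3⟩ := relab (by
      rw [← MonoidHom.map_range, card_map_of_injective ε.injective, c27]) hc hs' (x := o 76)
    (fun a => absurd ((zp d.inj).1 ((hπ _).1 ((map_eq_one_iff ε ε.injective).1 a))) (by decide +kernel))
    (by decide +kernel) (by decide +kernel) (by decide +kernel) (by decide +kernel)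
  let θ := (ε.trans ((MulAut.conj k).trans (PG.E 9))).toMonoidHom.comp π
  obtain ⟨Φ, F, hΦ⟩ := split9 d.a3 (θ := θ) (fun g => ⟨conj_of_norm_three d.a3, norm_zp⟩)
    (fun p => let ⟨g, a⟩ := (ε.trans ((MulAut.conj k).trans (PG.E 9))).surjective.comp hs p
      ⟨g, g.2, a⟩)
    (fun g => ⟨fun a => (hπ ⟨g, a.1⟩).1 (by simpa [θ] using a.2), fun a =>
      ⟨le_normalizer a, by simp [θ, (hπ ⟨g, le_normalizer a⟩).2 a]⟩⟩) d.ra
  have val : ∀ {v p} w, PG.E 9 (k * (ε.toMonoidHom.comp ψ) v * k⁻¹) = p → ∀ v', v = v' →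
      wf fs w v = v → wf fs w (o 12) = (o 12)⁻¹ → Φ p = φ v' := fun {v p} w a v' b1 b2 b3 =>
    b1 ▸ hΦ _ p _ ⟨JN (φJ φ v), a⟩ (JC φ _ (φJ φ v)) ((d.aw w).mem_Cx b2)
      (by rw [d.aw w, b3, map_inv])
  have v1 := val [0, 2, 1, 2, 1, 1, 0, 1] b1 (o 76) rfl (by decide +kernel) (by decide +kernel)
  have v2 := val [1, 2, 1, 1, 0, 1, 0, 2] b2 (o 70) (by decide +kernel) (by decide +kernel)
    (by decide +kernel)
  have v3 := val [1, 2, 1, 1, 0, 1, 0, 2] b3 (o 56) (by decide +kernel) (by decide +kernel)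
    (by decide +kernel)
  refine ⟨_, wg [u, e, q] [0, 2, 2, 1, 0, 2, 1], wg [u, e, q] [1, 0, 0, 1, 0, 2, 1, 0, 2], Φ, F,
    ?_, ?_, ?_, ?_, ?_, ?_, ?_, ?_, fun a => d.nB (v := o 12) (by decide +kernel) ?_⟩
  all_goals simp only [map_mul Φ, map_inv Φ, v1, v2, v3, d.aw _ _, ← map_mul φ, ← map_inv φ] at *
  any_goals exact congrArg φ (by decide +kernel)
  exact (by decide +kernel : (o 76 * o 70 * o 56 : V) = o 1) ▸ a.symm

end Dat2

end CfsgLib.HN3
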