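import Mathlib
import Cfsg.Agent.Lib.HN3.A6
import Cfsg.Agent.Lib.PGroup.Extraspecial

/-!
The 3-local characterisation of the Harada–Norton group: translation of the hypotheses.
-/

set_option autoImplicit false
set_option maxHeartbeats 400000

namespace CfsgLib.HN3

open Subgroup Cfsg CfsgLib.Tech CfsgLib.W2 CfsgLib.Rec3 TG CfsgLib.McLRec.Three

variable {G : Type*} [Group G] [Finite G]

theorem setup (S : Sylow 3 G) {Z C Q : Subgroup G}
    (hZ : Z = (S : Subgroup G) ⊓ centralizer ((S : Subgroup G) : Set G))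
    (hC : C = centralizer (Z : Set G)) (hQ : Q = (pCore 3 C).map C.subtype)
    (Qx : IsExtraspecial 3 Q) (cQ : Nat.card Q = 3 ^ 5) (Q3 : ∀ a ∈ Q, a ^ 3 = 1)
    (hCQ : centralizer (Q : Set G) ≤ Q) (hZQ : ∃ x : G, cj x Z ≤ Q ∧ cj x Z ≠ Z)
    (e : C ⧸ pCore 3 C ≃* Matrix.SpecialLinearGroup (Fin 2) (ZMod 5)) :
    IsSimpleGroup G ∧ ∃ (a m k : G) (Φ : PG 9 →* G), Nine a m k Φ := by
  have syl := IsSylowIn.of_sylow_top S
  have SZ : (S : Subgroup G) ≤ C := hC ▸ le_centralizer_iff.1 (hZ ▸ inf_le_right)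
  have QS : Q ≤ S := (syl.of_le SZ le_top).le_of_le_normalizer Qx.1.1 (hQ ▸ map_subtype_le _)
    (hQ ▸ le_normalizer.trans (Core.normalizer_le_normalizer_map_pCore _))
  obtain ⟨a1, a2⟩ := PGroup.IsExtraspecial.ambient Qx
  obtain ⟨⟨z, zQ⟩, a0⟩ := (isCyclic_of_prime_card a2).exists_ofOrder_eq_natCard
  have z3 : orderOf z = 3 := by rw [← a2, ← a0]; exact orderOf_coe ⟨z, zQ⟩
  have a3 := eq_of_le_of_card_ge (zpowers_le.2 zQ) (by rw [Nat.card_zpowers, z3, a2])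
  have a4 : Z = zpowers z := by
    have b0 : Z ≤ centralizer (Q : Set G) := le_centralizer_iff.1 (hC ▸ QS.trans SZ)
    have b1 : Z ≤ zpowers z := a3 ▸ le_inf (b0.trans hCQ) b0
    refine ((Nat.dvd_prime Nat.prime_three).1 (by
      simpa only [Nat.card_zpowers, z3] using card_dvd_of_le b1)).elim (fun b => ?_)
      fun b => eq_of_le_of_card_ge b1 (by rw [b, Nat.card_zpowers, z3])
    have : Nontrivial S := Finite.one_lt_card_iff_nontrivial.1
      (lt_of_lt_of_le (by rw [cQ]; norm_num) (card_le_of_le QS))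
    rw [hZ, ← Core.map_subtype_center, Core.card_map_subtype] at b
    exact absurd b (Finite.one_lt_card_iff_nontrivial.2 S.isPGroup'.center_nontrivial).ne'
  clear hZ
  subst a4
  rw [zpowers_eq_closure, centralizer_closure] at hC
  obtain ⟨e'⟩ := equiv25
  have h : Hy z Q C ((e.trans e').toMonoidHom.comp (QuotientGroup.mk' _)) :=
    ⟨hC ▸ Iff.rfl, z3, fun a => let ⟨g, b⟩ := ((e.trans e').surjective.comp
        (QuotientGroup.mk'_surjective _) :) a
      ⟨g, g.2, b⟩, fun g => hQ ▸ ⟨fun a => ⟨⟨g, a.1⟩, (QuotientGroup.eq_one_iff _).1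
        ((map_eq_one_iff _ (e.trans e').injective).1 a.2), rfl⟩, fun ⟨x, a, b⟩ => b ▸ ⟨x.2,
          (map_eq_one_iff _ (e.trans e').injective).2 ((QuotientGroup.eq_one_iff _).2 a)⟩⟩,
      cQ, Q3, fun x hx y hy => (a1.trans a3.symm).le (commutator_mem_commutator hx hy), zQ.1,
      fun g a => a3.ge ⟨hCQ fun x hx => (a x hx).symm, fun x hx => (a x hx).symm⟩,
      fun a => syl.not_dvd (a.trans (relIndex_dvd_of_le_left ⊤ SZ))⟩
  obtain ⟨x, b1, b2⟩ := hZQ
  obtain ⟨η', h'⟩ := h.conj x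
  rw [cj_zpowers] at b1 b2
  obtain ⟨φ, u, f, η, d⟩ := h.exists_dat h' (zpowers_le.1 b1) fun a => b2
    (eq_of_le_of_card_ge (zpowers_le.2 a) (by rw [h.cZ, h'.cZ]))
  obtain ⟨q, d⟩ := d.exists_q
  exact ⟨d.simple, d.exists_nine⟩

end CfsgLib.HN3
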