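import Cfsg.Agent.Lib.HN3.B1
import Cfsg.Agent.Lib.McLRec.T8

/-! The 3-local characterisation of the Harada–Norton group (plans/HN3.md), package B2. -/

set_option autoImplicit false
set_option linter.unusedSectionVars false
set_option synthInstance.maxSize 100000
set_option Elab.async false

namespace CfsgLib.HN3

open Subgroup Cfsg CfsgLib.Tech CfsgLib.W2 CfsgLib.Rec3 PG Equiv
open McLRec.Three (Im inj_of card_list l72)

attribute [local irreducible] PG.pl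

universe u

variable {G : Type u} [Group G] [Finite G] {a m k t c g w y : G} {Φ : PG 9 →* G}

/-- the values of `Ψ` on the Coxeter generators other than `(2 3)` -/
structure Val (a : G) (Φ : PG 9 →* G) (Ψ : PG 8 →* G) : Prop where
  v0 : Ψ (pl [1, 0, 2, 3, 4, 5, 6, 7]) = Φ d9
  va : Ψ a8 = a
  v3 : Ψ (pl [0, 1, 2, 4, 3, 5, 6, 7]) = Φ (pl [1, 0, 2, 3, 4, 5, 7, 6, 8])
  v4 : Ψ (pl [0, 1, 2, 3, 5, 4, 6, 7]) = Φ (pl [1, 0, 2, 3, 4, 5, 6, 8, 7])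
  v5 : Ψ (pl [0, 1, 2, 3, 4, 6, 5, 7]) = Φ (pl [1, 0, 2, 3, 8, 5, 6, 7, 4])
  v6 : Ψ e8 = Φ (pl [1, 0, 2, 3, 5, 4, 6, 7, 8])

/-- a four group -/
structure Four (t c : G) : Prop where
  tt : t * t = 1
  t1 : t ≠ 1
  cc : c * c = 1
  c1 : c ≠ 1
  cnt : c ≠ t
  ct : c * t = t * c

/-- its elements -/
def InV (t c w : G) : Prop := w = 1 ∨ w = t ∨ w = c ∨ w = c * t

/-- the elements which normalise it and centralise `t` -/
def InK (t c g : G) : Prop := g * t = t * g ∧ (g * c * g⁻¹ = c ∨ g * c * g⁻¹ = c * t)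

namespace Four

variable (h : Four t c)
include h

theorem ctt : c * t * t = c := by rw [mul_assoc, h.tt, mul_one]

theorem comm (hw : InV t c w) (h1 : Commute g t) (h2 : Commute g c) : Commute g w := by
  rcases hw with e | e | e | e <;> rw [e]
  exacts [.one_right g, h1, h2, h2.mul_right h1]

theorem sq (hw : InV t c w) : w * w = 1 := by
  rcases hw with e | e | e | e <;> rw [e]
  exacts [mul_one 1, h.tt, h.cc, by rw [(Commute.symm h.ct).mul_mul_mul_comm, h.tt, h.cc, mul_one]]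

theorem vt (hw : InV t c w) : Commute w t := (h.comm hw rfl h.ct.symm).symm

theorem vc (hw : InV t c w) : Commute w c := (h.comm hw h.ct rfl).symm

/-- the four group -/
def V : Subgroup G where
  carrier := {w | InV t c w}
  one_mem' := .inl rfl
  mul_mem' {x y} hx hy := by
    have e1 : t * (c * t) = c := by rw [← mul_assoc, ← h.ct, h.ctt]
    have e2 : c * (c * t) = t := by rw [← mul_assoc, h.cc, one_mul]
    have e3 : c * t * c = t := by rw [mul_assoc, ← h.ct, e2]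
    rcases hx with e | e | e | e <;> rcases hy with e' | e' | e' | e' <;>
      simp [e, e', InV, h.tt, h.cc, ← h.ct, h.ctt, e1, e2, e3, h.sq (.inr (.inr (.inr rfl)))]
  inv_mem' hx := (inv_eq_of_mul_eq_one_left (h.sq hx)).symm ▸ hx

/-- the stabiliser of `t` in its normaliser -/
def K : Subgroup G where
  carrier := {g | InK t c g}
  one_mem' := ⟨by simp, .inl (by simp)⟩
  mul_mem' {x y} hx hy := ⟨Commute.mul_left hx.1 hy.1, by
    rw [show x * y * c * (x * y)⁻¹ = x * (y * c * y⁻¹) * x⁻¹ by group]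
    rcases hy.2 with e | e <;> rw [e]
    · exact hx.2
    · rw [← conj_mul, hx.1, mul_inv_cancel_right]
      exact hx.2.symm.imp (fun e => by rw [e, h.ctt]) fun e => by rw [e]⟩
  inv_mem' {x} hx := ⟨Commute.inv_left hx.1, hx.2.imp (fun e => by nth_rw 1 [← e]; group) fun e => by
    nth_rw 1 [← h.ctt, ← e]
    rw [inv_inv, ← mul_assoc, mul_assoc _ t, ← hx.1]; group⟩

theorem fix (hw : InV t c w) (h1 : y * t = t * y) (h2 : y * c * y⁻¹ = c * t) (e : y * w * y⁻¹ = w) :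
    w = 1 ∨ w = t := by
  rcases hw with e' | e' | e' | e'
  exacts [.inl e', .inr e', absurd (by simpa [e', h2] using e) h.t1, absurd (by
    rwa [e', ← conj_mul, h1, mul_inv_cancel_right, h2, mul_left_inj, mul_eq_left] at e) h.t1]

theorem c3 (hg : InK t c g) (e : g ^ 3 = 1) : Commute g c := by
  refine hg.2.elim mul_inv_eq_iff_eq_mul.1 fun e' => mem_Cx.1
    (mem_of_coprime_pow (a := 2) (by norm_num) (mem_Cx'.2 ?_) (e ▸ one_mem _))
  rw [pow_two, show g * g * c * (g * g)⁻¹ = g * (g * c * g⁻¹) * g⁻¹ by group, e', ← conj_mul, e', hg.1,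
    mul_inv_cancel_right, h.ctt]

theorem cjc {u : G} (hu : InK t c u) (h1 : Commute g t) (h2 : Commute g c) :
    Commute (u * g * u⁻¹) c := by
  have e1 := conj_comm9 u h1
  have e2 := conj_comm9 u h2
  rw [hu.1, mul_inv_cancel_right] at e1
  rcases hu.2 with e | e <;> rw [e] at e2
  exacts [e2, h.ctt ▸ e2.mul_right e1]

theorem cube {s : G} (hs : s * s = 1) (hy : y * y = 1) (h1 : y * t = t * y) (h2 : y * c * y⁻¹ = c * t)
    (hw : InV t c ((y * s) ^ 3)) : (y * s) ^ 3 = 1 ∨ (y * s) ^ 3 = t := by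
  refine h.fix hw h1 h2 (.trans ?_ (inv_eq_of_mul_eq_one_left (h.sq hw)))
  rw [← inv_pow, ← conj_pow, mul_inv_rev, ← mul_assoc, hy, one_mul, inv_eq_of_mul_eq_one_left hs]

end Four

theorem Ei.four {Ψ : PG 8 →* G} (h : Ei t c Ψ) : Four t c := ⟨h.tt, h.t1, h.cc, h.c1, h.cnt, h.ct⟩

/-- an element normalising `⟨t, c⟩` normalises `Ψ(A₈)` -/
theorem Ei.norm_alt {t c ω : G} {Ψ : PG 8 →* G} (h : Ei t c Ψ) (h1 : ω * t * ω⁻¹ = c * t)
    (h2 : ω * c * ω⁻¹ = t) {p : PG 8} (hp : p ∈ alt 8) : ∃ p' ∈ alt 8, ω * Ψ p * ω⁻¹ = Ψ p' := by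
  have key : ∀ p ∈ alt 8, p ^ 3 = 1 → ∃ p' ∈ alt 8, Ψ p' = ω * Ψ p * ω⁻¹ := fun p hp e => by
    have e1 := h2 ▸ conj_comm9 ω (mul_inv_eq_iff_eq_mul.1 (h.ev p hp))
    have e2 := h.four.ctt ▸ (h1 ▸ conj_comm9 ω (h.Ψt p)).mul_right e1
    have e3 : (ω * Ψ p * ω⁻¹) ^ 3 = 1 := by rw [conj_pow, ← map_pow, e]; simp
    generalize ω * Ψ p * ω⁻¹ = g at e1 e2 e3
    obtain ⟨q, w, hw, rfl⟩ : ∃ q w, InV t c w ∧ g = w * Ψ q := by
      obtain ⟨q, e | e | e | e⟩ := h.nrm g e1 (.inl (mul_inv_eq_of_eq_mul e2))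
      exacts [⟨q, 1, .inl rfl, by simpa using e⟩, ⟨q, _, .inr (.inl rfl), e⟩,
        ⟨q, _, .inr (.inr (.inl rfl)), e⟩, ⟨q, _, .inr (.inr (.inr rfl)), e⟩]
    have e4 : Commute (Ψ q) c := by simpa using (h.four.vc hw).inv_left.mul_left e2
    have e5 := h.four.sq hw
    rw [(h.four.comm hw (h.Ψt q) e4).symm.mul_pow, pow_three' w, e5, one_mul, ← map_pow,
      mul_eq_one_iff_inv_eq, inv_eq_of_mul_eq_one_left e5] at e3
    rw [h.ker (q ^ 3) (e3 ▸ hw), map_one] at e3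
    refine ⟨q, by_contra fun hq => h.t1 ?_, by rw [e3, one_mul]⟩
    simpa [e4.eq] using h.od q hq
  obtain ⟨p', h3, e⟩ := alt_le (S := ((alt 8).map Ψ).comap ((MulAut.conj ω).toMonoidHom.comp Ψ))
    (a := 0) (b := 1) (by decide) (fun j h1 h2 => by
      obtain ⟨e1, e2⟩ := (by decide +kernel : ∀ j : Fin 8, j ≠ 0 → j ≠ 1 →
        E 8 (Pres.cyc j 0 1) ∈ alt 8 ∧ E 8 (Pres.cyc j 0 1) ^ 3 = 1) j h1 h2
      exact key _ e1 e2) hp
  exact ⟨p', h3, e.symm⟩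

/-- the quotient by the four group -/
structure Qd {X : Type*} [Group X] (t c : G) {K : Subgroup G} (π : K →* X) : Prop extends Four t c where
  mem : ∀ {g}, g ∈ K ↔ InK t c g
  surj : ∀ γ, ∃ g, Im π g γ
  ker : ∀ {g}, Im π g 1 ↔ InV t c g

theorem Four.exists_qd (h : Four t c) : ∃ (X : Type u) (_ : Group X) (_ : Finite X) (K : Subgroup G)
    (π : K →* X), Qd t c π := by
  obtain ⟨X, _, _, π, h1, h2⟩ := exists_quo (K := h.K) (Z := h.V) fun g hg =>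
    mem_normalizer_of_forall fun w hw => by
      have e : g * t * g⁻¹ = t := mul_inv_eq_of_eq_mul hg.1
      have e' : g * c * g⁻¹ ∈ h.V := hg.2.elim (fun e => .inr (.inr (.inl e))) fun e => .inr (.inr (.inr e))
      rcases hw with e1 | e1 | e1 | e1 <;> rw [e1]
      exacts [.inl (by simp), .inr (.inl e), e', by
        rw [← conj_mul]; exact mul_mem e' (.inr (.inl e))]
  exact ⟨X, _, ‹_›, h.K, π, h, Iff.rfl, fun γ => let ⟨g, e⟩ := h1 γ; ⟨g, g.2, e⟩,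
    ⟨fun ⟨_, e⟩ => (h2 _).1 e, fun hw => ⟨⟨h.vt hw, .inl (mul_inv_eq_of_eq_mul (h.vc hw))⟩,
      (h2 _).2 hw⟩⟩⟩

theorem braid_of {s : G} (hs : s * s = 1) (hy : y * y = 1) (e : (y * s) ^ 3 = 1) :
    y * s * y = s * y * s := by
  rw [← inv_eq_of_mul_eq_one_right (a := y * s * y) (b := s * y * s) (by rw [← e, pow_three']; group),
    mul_inv_rev, mul_inv_rev, inv_eq_of_mul_eq_one_left hs, inv_eq_of_mul_eq_one_left hy, mul_assoc]

namespace Qd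

variable {X : Type*} [Group X] [Finite X] {K : Subgroup G} {π : K →* X} (q : Qd t c π)
  {ψ : Perm (Fin 8) →* X} {γ : X}
include q

theorem eqv {g' : G} (h1 : Im π g γ) (h2 : Im π g' γ) : ∃ w, InV t c w ∧ g' = g * w :=
  ⟨_, q.ker.1 ((h1.inv.mul h2).of_eq (inv_mul_cancel γ)), by group⟩

theorem lift3 {x : G} (h1 : Im π x γ) (h2 : Im π y γ) (x3 : x ^ 3 = 1) (y3 : y ^ 3 = 1) : y = x := by
  obtain ⟨w, hw, rfl⟩ := q.eqv h1 h2
  have hx := q.mem.1 h1.mem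
  rw [(q.comm hw hx.1 (q.c3 hx x3)).mul_pow, x3, pow_three', q.sq hw, one_mul, one_mul] at y3
  rw [y3, mul_one]

theorem mk_ei (hψ : Function.Bijective ψ) {f : ℕ → G} (h2 : ∀ i < 7, f i * f i = 1)
    (h3 : ∀ i, i + 1 < 7 → f i * f (i + 1) * f i = f (i + 1) * f i * f (i + 1))
    (hc : ∀ i j, i + 1 < j → j < 7 → Commute (f i) (f j))
    (hi : ∀ i : Fin 7, Im π (f i) (ψ (swap i.castSucc i.succ))) (od : f 0 * c * (f 0)⁻¹ = c * t) :
    ∃ Ψ, Ei t c Ψ ∧ ∀ i : Fin 7, Ψ (E 8 (swap i.castSucc i.succ)) = f i := by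
  obtain ⟨φ, e⟩ := ThreeTrans.exists_hom_of_coxeter h2 h3 hc
  obtain ⟨Ψ, e1⟩ : ∃ Ψ : PG 8 →* G, ∀ i : Fin 7, Ψ (E 8 (swap i.castSucc i.succ)) = f i :=
    ⟨φ.comp (E 8).symm.toMonoidHom, fun i => (congrArg φ ((E 8).symm_apply_apply _)).trans
      ((e _ _).trans (by fin_cases i <;> rfl))⟩
  have im : ∀ p, Im π (Ψ p) (ψ ((E 8).symm p)) := S8.top_of_adj 7 _
    (S := ⟨⟨⟨{p | Im π (Ψ p) (ψ ((E 8).symm p))}, fun ha hb => by simpa using Im.mul ha hb⟩,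
      by simpa using Im.one⟩, fun ha => by simpa using Im.inv ha⟩) fun i => by simpa [e1] using hi i
  have hK := fun p => q.mem.1 (im p).mem
  have ev : ∀ p ∈ alt 8, Ψ p * c * (Ψ p)⁻¹ = c := fun p hp => mem_Cx'.1
    (alt_le (S := (Cx c).comap Ψ) (a := 0) (b := 1) (by decide) (fun j h1 h2 => mem_Cx.2 (q.c3 (hK _) (by
      rw [← map_pow, (by decide +kernel : ∀ j : Fin 8, E 8 (Pres.cyc j 0 1) ^ 3 = 1 ∨ j = 0 ∨ j = 1) j
        |>.resolve_right (by simp [h1, h2]), map_one]))) hp)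
  refine ⟨Ψ, ⟨q.tt, q.t1, q.cc, q.c1, q.cnt, q.ct, fun p => (hK p).1, ev, fun p hp => ?_, fun p hp =>
    (E 8).symm.injective (hψ.1 (by simpa using (im p).uniq (q.ker.2 hp))), fun g h1 h2 => ?_⟩, e1⟩
  · have := ev _ (mul_mem_alt hp (q := E 8 (swap (0 : Fin 7).castSucc (0 : Fin 7).succ))
      (by decide +kernel))
    rw [map_mul, e1, mul_inv_rev, show ∀ x y : G, x * y * c * (y⁻¹ * x⁻¹) = x * (y * c * y⁻¹) * x⁻¹ from
      fun _ _ => by group] at this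
    exact (hK p).2.resolve_left fun e => q.t1 (by
      rwa [show f (0 : Fin 7) = f 0 from rfl, od, ← conj_mul, e, (hK p).1, mul_inv_cancel_right,
        mul_eq_left] at this)
  · obtain ⟨γ, h3⟩ := Im.of_mem π (q.mem.2 ⟨h1, h2⟩)
    obtain ⟨σ, rfl⟩ := hψ.2 γ
    have h4 : InV t c (g * (Ψ (E 8 σ))⁻¹) := q.ker.1 ((h3.mul (im _).inv).of_eq (by simp))
    exact ⟨E 8 σ, h4.imp mul_inv_eq_one.1 (Or.imp eq_mul_of_mul_inv_eq
      (Or.imp eq_mul_of_mul_inv_eq eq_mul_of_mul_inv_eq))⟩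

end Qd

/-- `(0 1)(6 7)` -/
noncomputable def e9 : PG 9 := pl [1, 0, 2, 3, 4, 5, 7, 6, 8]
/-- `(0 5)(1 3)` -/
noncomputable def C9 : PG 9 := pl [5, 3, 2, 1, 4, 0, 6, 7, 8]

/-- `n` centralises `A₆` and `a, j3` -/
def Zn (a : G) (Φ : PG 9 →* G) (n : G) : Prop :=
  n * a * n⁻¹ = a ∧ Cm Φ n j3 j3 ∧ Cm Φ n j1 j1 ∧ Cm Φ n j2 j2 ∧ Cm Φ n t9 t9

/-- `n` acts on `A₆` as `(0 1)` and interchanges `a, j3` -/
def An (a : G) (Φ : PG 9 →* G) (n : G) : Prop :=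
  n * a * n⁻¹ = Φ j3 ∧ n * Φ j3 * n⁻¹ = a ∧ Cm Φ n j1 j1⁻¹ ∧ Cm Φ n j2 j2 ∧ Cm Φ n t9 t9

theorem conj_trans9 {x z n n' : G} (h : n * x * n⁻¹ = y) (h' : n' * y * n'⁻¹ = z) :
    n' * n * x * (n' * n)⁻¹ = z := by rw [← h', ← h]; group

theorem Zn.mul {n : G} (h : Zn a Φ g) (h' : An a Φ n) : An a Φ (g * n) :=
  ⟨conj_trans9 h'.1 (Eq.symm h.2.1), conj_trans9 h'.2.1 h.1, h'.2.2.1.trans h.2.2.1.inv,
    h'.2.2.2.1.trans h.2.2.2.1, h'.2.2.2.2.trans h.2.2.2.2⟩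

theorem An.mul {n : G} (h' : An a Φ n) (h : Zn a Φ g) : An a Φ (n * g) :=
  ⟨conj_trans9 h.1 h'.1, conj_trans9 (Eq.symm h.2.1) h'.2.1, h.2.2.1.trans h'.2.2.1,
    h.2.2.2.1.trans h'.2.2.2.1, h.2.2.2.2.trans h'.2.2.2.2⟩

theorem Nine2.exists_n (h : Nine2 a m k Φ) : ∃ n, n * n = 1 ∧ An a Φ n ∧ Cm Φ n d9 e9 := by
  have h0 : An a Φ (m⁻¹ * Φ e9) := ⟨conj_trans9 (h.ev e9 (by decide +kernel)) (by rw [← h.m3]; group),
    conj_trans9 (Eq.symm (Cm.of_eq (q := j3⁻¹) (by decide +kernel))) (by rw [map_inv, ← h.m4]; group),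
    (Cm.of_eq (by decide +kernel)).trans (Cm.symm (p := j1) h.m1.symm).inv,
    (Cm.of_eq (by decide +kernel)).trans (Cm.symm (p := j2) h.m2.symm),
    (Cm.of_eq (by decide +kernel)).trans (Cm.symm (p := t9) h.mt.symm)⟩
  generalize m⁻¹ * Φ e9 = n at h0
  have h1 : Zn a Φ (n * n) := ⟨conj_trans9 h0.1 h0.2.1, (conj_trans9 h0.2.1 h0.1).symm,
    by simpa using h0.2.2.1.trans h0.2.2.1.inv, h0.2.2.2.1.trans h0.2.2.2.1, h0.2.2.2.2.trans h0.2.2.2.2⟩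
  have h2 : n * n * n * (n * n * n) = 1 := by
    rw [show n * n * n * (n * n * n) = (n * n) ^ 3 by simp only [pow_three', mul_assoc]]
    obtain ⟨p, hp, i, -, e⟩ := h.cen (mul_inv_eq_iff_eq_mul.1 h1.1)
    rw [e] at h1 ⊢
    rw [h.npow i 3 hp, pg_conj [(j1, j1), (j2, j2), (t9, t9), (j3, j3)] (P := fun p => p ^ 3 = 1)
      (by decide +kernel) (g := p) (by
        simpa using ⟨h.rel h1.2.2.1, h.rel h1.2.2.2.1, h.rel h1.2.2.2.2, h.rel h1.2.1⟩),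
      mul_comm, pow_mul, h.aaa]; simp
  replace h0 := h1.mul h0
  generalize n * n * n = n at h0 h2
  obtain ⟨p, hp, e1, e2⟩ := h.cen2 (g := n * Φ d9 * n⁻¹) (h0.2.1 ▸ conj_comm9 n (Fr.map_comm d9 j3))
    (by rw [conj_mul, ← map_mul, show d9 * d9 = 1 by decide +kernel]; simp)
  have k : ∀ {x y u v}, Cm Φ n x u → Cm Φ n y v → d9 * x = y * d9 → p * u = v * p :=
    fun a1 a2 e => (Cm.eq_iff h.inj (Cm.mul e2.symm a1) (a2.mul e2.symm)).2 e
  obtain ⟨i, hi, e3⟩ := pg_inv [(j1⁻¹, j1), (t9, t9), (j2, j2), (j3, j3⁻¹)]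
    (P := fun p => ∃ i < 3, j3 ^ i * p * (j3 ^ i)⁻¹ = e9) (by decide +kernel) (g := p) (by
      simpa using ⟨k h0.2.2.1 (by simpa using h0.2.2.1.inv) (by decide +kernel),
        k h0.2.2.2.2 h0.2.2.2.2 (by decide +kernel), k h0.2.2.2.1 h0.2.2.2.1 (by decide +kernel),
        h.inj (by
          rw [map_mul, map_mul, map_inv, ← e2, ← h0.1, conj_inv, conj_mul, conj_mul,
            ← h.od d9 (by decide +kernel), inv_mul_cancel_right])⟩) e1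
  have z : ∀ r, r ∈ alt 9 ∧ r * j3 * r⁻¹ = j3 ∧ r * j1 * r⁻¹ = j1 ∧ r * j2 * r⁻¹ = j2 ∧
      r * t9 * r⁻¹ = t9 → Zn a Φ (Φ r) := fun r e =>
    ⟨h.ev r e.1, Cm.of_eq e.2.1, Cm.of_eq e.2.2.1, Cm.of_eq e.2.2.2.1, Cm.of_eq e.2.2.2.2⟩
  refine ⟨Φ (j3 ^ i) * n * Φ (j3 ^ i)⁻¹, by rw [map_inv, conj_mul, h2]; simp,
    ((z _ ?_).mul h0).mul (z _ ?_), mul_assoc (Φ _) n _ ▸ ((Cm.of_eq ?_).trans e2.symm).trans
      (Cm.of_eq e3)⟩ <;> clear e3 <;> interval_cases i <;> decide +kernel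

theorem four9 (h : Fr a Φ) : Four (Φ t9) (Φ c9) :=
  ⟨by rw [← map_mul, show t9 * t9 = 1 by decide +kernel, map_one],
    map_one Φ ▸ h.inj.ne (by decide +kernel),
    by rw [← map_mul, show c9 * c9 = 1 by decide +kernel, map_one],
    map_one Φ ▸ h.inj.ne (by decide +kernel), h.inj.ne (by decide +kernel), Fr.map_comm _ _⟩

theorem inK9 {p : PG 9} (e : p * t9 = t9 * p ∧ (p * c9 * p⁻¹ = c9 ∨ p * c9 * p⁻¹ = c9 * t9) := by
    decide +kernel) : InK (Φ t9) (Φ c9) (Φ p) :=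
  ⟨Fr.map_comm _ _ e.1, e.2.imp (fun e => Eq.symm (Cm.of_eq e)) fun e =>
    (Eq.symm (Cm.of_eq e)).trans (map_mul Φ c9 t9)⟩

theorem Nine2.kc (h : Nine2 a m k Φ) : Cm Φ k c9 C9 := by
  rw [show c9 = j1⁻¹ * t9 * j1 by decide +kernel, show C9 = (j1 * j2)⁻¹ * T9 * (j1 * j2) by decide +kernel]
  exact ((Cm.inv h.k1.symm).mul h.kt.symm).mul h.k1.symm

theorem Chi.inK {χ : S8.H0 →* G} (d : Chi a Φ χ) (h : Fr a Φ) (x : S8.H0) :
    InK (Φ t9) (Φ c9) (χ x) := by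
  have ha : a ∈ (four9 h).K := ⟨h.cm, .inl (mul_inv_eq_of_eq_mul h.cm)⟩
  rw [show x = (x.1, 1) * (1, x.2) by simp, map_mul, d.r]
  refine (four9 h).K.mul_mem (S8.top_of_adj 2 _ (S := (four9 h).K.comap (χ.comp (.inl _ _)))
    (fun i => ?_) x.1) (inK9 ((by decide +kernel : ∀ x, upF x * t9 = t9 * upF x ∧
      (upF x * c9 * (upF x)⁻¹ = c9 ∨ upF x * c9 * (upF x)⁻¹ = c9 * t9)) x.2))
  have k : ∀ {u v}, χ u ∈ (four9 h).K → u = v → χ v ∈ (four9 h).K := fun e e' => e' ▸ e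
  have h0 : χ S8.ρ ∈ (four9 h).K := d.ρ ▸ inK9
  fin_cases i
  exacts [k h0 (by decide +kernel), k (u := S8.ρ * S8.z) (by
    rw [map_mul, d.z]; exact mul_mem h0 ha) (by decide +kernel)]

/-- `a` is not conjugate to `a j3` by an element normalising the four group -/
theorem Nine2.nay (h : Nine2 a m k Φ) {χ : S8.H0 →* G} (d : Chi a Φ χ) (hg : InK (Φ t9) (Φ c9) g) :
    ¬ Cm χ g S8.z S8.y := fun e => by
  have e0 := d.z ▸ Eq.symm (e.trans (d.ky h.toNine))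
  have e1 := (Cm.of_comm hg.1).trans (Eq.symm h.kt)
  have c : ∀ {x}, Commute (Φ (pl [0, 1, 2, 3, 5, 6, 7, 8, 4])) x →
      Commute (k * g * Φ (pl [0, 1, 2, 3, 5, 6, 7, 8, 4]) * (k * g)⁻¹) (k * g * x * (k * g)⁻¹) :=
    conj_comm9 _
  have e2 := Eq.symm e1 ▸ c (Fr.map_comm _ t9)
  have e3 : Commute (k * g * Φ (pl [0, 1, 2, 3, 5, 6, 7, 8, 4]) * (k * g)⁻¹) (Φ C9) := by
    rw [h.kc, mul_inv_rev, show ∀ x : G, k * g * x * (g⁻¹ * k⁻¹) = k * (g * x * g⁻¹) * k⁻¹ from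
      fun _ => by group]
    exact conj_comm9 k ((four9 h.toFr).cjc hg (Fr.map_comm _ _) (Fr.map_comm _ _))
  obtain ⟨p, hp, i, -, e4⟩ := h.cen (e0 ▸ c h.cm.symm)
  have e5 := h.npow i 6 hp
  rw [e4] at e2 e3
  rw [pg_conj [(T9, T9), (C9, C9)] (P := fun p => p ^ 6 = 1) (by decide +kernel) (g := p) (by
      simpa using ⟨h.rel (Cm.of_comm e2), h.rel (Cm.of_comm e3)⟩), ← e4, conj_pow, ← map_pow,
    mul_comm i, pow_mul, show 6 = 3 * 2 from rfl, pow_mul a, h.aaa, one_pow, one_pow, map_one, mul_one,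
    conj_eq_one_iff, map_eq_one_iff _ h.inj] at e5
  exact absurd e5 (by decide +kernel)

theorem Nine2.cy (h : Nine2 a m k Φ) {χ : S8.H0 →* G} (d : Chi a Φ χ) (hg : InK (Φ t9) (Φ c9) g)
    (e : Cm χ g S8.y S8.y) : g ∈ normalizer (S8.D0.map χ : Set G) := by
  have e0 := ((d.ky h.toNine).symm.trans e).trans (d.ky h.toNine)
  have e1 := ((Cm.symm (p := t9) h.kt.symm).trans (Cm.of_comm hg.1)).trans (Eq.symm h.kt)
  have e2 : Cm Φ (k * (g * k⁻¹)) C9 C9 ∨ Cm Φ (k * (g * k⁻¹)) C9 (C9 * T9) := hg.2.imp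
    (fun e => (h.kc.symm.trans (Eq.symm e)).trans h.kc) fun e =>
      (h.kc.symm.trans ((map_mul Φ c9 t9).trans e.symm)).trans (h.kc.mul h.kt.symm)
  suffices k * (g * k⁻¹) ∈ normalizer (S8.D0.map χ : Set G) by
    simpa using mul_mem (mul_mem (inv_mem (d.kN h.toNine)) this) (d.kN h.toNine)
  obtain ⟨p, -, i, -, e3⟩ := h.cen (d.z ▸ Cm.comm' e0)
  refine S8.mem_nD ⟨_, S8.z_D, e0⟩ ?_
  rw [e3] at e1 e2 ⊢
  have e4 : p * j3 * p⁻¹ = j3 ∨ p * j3 * p⁻¹ = j3⁻¹ := e2.elim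
    (fun e2 => pg_conj [(T9, T9), (C9, C9)] (P := fun p => p * j3 * p⁻¹ = j3 ∨ p * j3 * p⁻¹ = j3⁻¹)
      (by decide +kernel) (by simpa using ⟨h.rel e1, h.rel e2⟩))
    fun e2 => pg_conj [(T9, T9), (C9, C9 * T9)] (P := fun p => p * j3 * p⁻¹ = j3 ∨ p * j3 * p⁻¹ = j3⁻¹)
      (by decide +kernel) (by simpa using ⟨h.rel e1, h.rel e2⟩)
  rcases e4 with e4 | e4
  exacts [⟨_, S8.z'_D, by rw [Cm, d.z', h.cj i p (by decide +kernel), e4]⟩,
    ⟨S8.z'⁻¹, by decide +kernel, by rw [Cm, map_inv, d.z', h.cj i p (by decide +kernel), e4, map_inv]⟩]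

theorem Fr.nz (h : Fr a Φ) {χ : S8.H0 →* G} (d : Chi a Φ χ) (hg : InK (Φ t9) (Φ c9) g)
    (e : g * a * g⁻¹ = a ∨ g * a * g⁻¹ = a⁻¹) : ∃ x w, InV (Φ t9) (Φ c9) w ∧ g = χ x * w := by
  obtain ⟨p, i, -, rfl⟩ := h.nrm g e
  have e1 := h.rel (Cm.of_comm hg.1)
  obtain ⟨j, -, e2⟩ : ∃ j < 2, (d9 ^ j * upF (dn p))⁻¹ * p ∈ [1, t9, c9, c9 * t9] := hg.2.elim
    (fun e2 => pg_conj [(t9, t9), (c9, c9)]
      (P := fun p => ∃ j < 2, (d9 ^ j * upF (dn p))⁻¹ * p ∈ [1, t9, c9, c9 * t9])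
      (by decide +kernel) (by simpa using ⟨e1, h.rel (Eq.symm e2)⟩))
    fun e2 => pg_conj [(t9, t9), (c9, c9 * t9)]
      (P := fun p => ∃ j < 2, (d9 ^ j * upF (dn p))⁻¹ * p ∈ [1, t9, c9, c9 * t9])
      (by decide +kernel) (by simpa using ⟨e1, h.rel ((map_mul Φ c9 t9).trans e2.symm)⟩)
  refine ⟨S8.z ^ i * (S8.ρ ^ j * (1, dn p)), Φ ((d9 ^ j * upF (dn p))⁻¹ * p), ?_, by
    rw [map_mul χ, map_mul χ, map_pow, map_pow, d.z, d.ρ, d.r, ← map_pow, ← map_mul, mul_assoc,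
      ← map_mul]
    exact congrArg (a ^ i * Φ ·) (mul_inv_cancel_left _ _).symm⟩
  simp only [List.mem_cons, List.not_mem_nil, or_false] at e2
  rcases e2 with e2 | e2 | e2 | e2 <;> rw [e2]
  exacts [.inl (map_one Φ), .inr (.inl rfl), .inr (.inr (.inl rfl)), .inr (.inr (.inr (map_mul ..)))]

variable {X : Type*} [Group X] [Finite X] {K : Subgroup G} {π : K →* X} {χ : S8.H0 →* G}

theorem Nine2.exists_st (h : Nine2 a m k Φ) (d : Chi a Φ χ) (q : Qd (Φ t9) (Φ c9) π) :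
    ∃ (χ' : S8.H0 →* X) (ν : X), (∀ x, Im π (χ x) (χ' x)) ∧ S8.St χ' ν ∧ Cm χ' ν S8.ρ S8.ρ' := by
  have := Fact.mk Nat.prime_three
  obtain ⟨χ', iχ⟩ : ∃ χ' : S8.H0 →* X, ∀ x, Im π (χ x) (χ' x) :=
    ⟨π.comp (χ.codRestrict K fun x => q.mem.2 (d.inK h.toFr x)), fun x => ⟨_, rfl⟩⟩
  have lift : ∀ {g γ u v}, Im π g γ → Cm χ' γ u v → u ^ 3 = 1 ∧ v ^ 3 = 1 → Cm χ g u v :=
    fun {g γ u v} a1 a2 a3 => q.lift3 ((a1.conj (iχ u)).of_eq (Eq.symm a2)) (iχ v)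
      (by rw [conj_pow, ← map_pow, a3.1]; simp) (by rw [← map_pow, a3.2, map_one])
  have down : ∀ {g γ u v}, Im π g γ → Cm χ g u v → Cm χ' γ u v := fun {g γ u v} a1 a2 =>
    (iχ v).uniq (a2 ▸ a1.conj (iχ u))
  have ne1 : ∀ (i j : ℕ) {u}, u = S8.z ^ i * S8.z' ^ j ∧ u ^ 3 = 1 ∧ (j3 ^ j = 1 → i = 1) → χ' u ≠ 1 :=
    fun i j u a1 e => by
      have a2 := q.lift3 Im.one (e ▸ iχ u) (one_pow 3) (by rw [← map_pow, a1.2.1, map_one])
      rw [a1.1, d.form] at a2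
      obtain ⟨a3, a4⟩ := h.uniq (j := 0) (q := 1) (a2.trans (by simp))
      exact h.a1 (by simpa [a1.2.2 a3] using a4)
  have inj : Function.Injective χ' := inj_of (a := S8.z) (b := S8.z') (ne1 1 0 (by decide +kernel))
    (ne1 0 1 (by decide +kernel)) (ne1 1 1 (by decide +kernel)) (by decide +kernel) (by decide +kernel)
  have nz : ∀ γ, Cm χ' γ S8.z S8.z ∨ Cm χ' γ S8.z S8.z⁻¹ → γ ∈ χ'.range := fun γ e => by
    obtain ⟨g, a1⟩ := q.surj γ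
    obtain ⟨x, w, hw, rfl⟩ := h.nz d (q.mem.1 a1.mem) (by
      simpa only [Cm, map_inv, d.z, eq_comm] using e.imp (lift a1 · (by decide +kernel))
        (lift a1 · (by decide +kernel)))
    exact ⟨x, (((iχ x).mul (q.ker.2 hw)).of_eq (mul_one _)).uniq a1⟩
  have yz : ¬ IsConj (χ' S8.y) (χ' S8.z) := fun e => by
    obtain ⟨γ, e⟩ := Cm.of_isConj e.symm
    obtain ⟨g, a1⟩ := q.surj γ
    exact h.nay d (q.mem.1 a1.mem) (lift a1 e (by decide +kernel))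
  have nd : ∀ γ ∈ normalizer (S8.D0.map χ' : Set X), Cm χ' γ S8.z S8.z ∨ Cm χ' γ S8.z S8.z⁻¹ ∨
      Cm χ' γ S8.z S8.z' ∨ Cm χ' γ S8.z S8.z'⁻¹ := fun γ e => by
    obtain ⟨x, b1, b2⟩ := gimg e S8.z_D
    rcases (by decide +kernel : ∀ x, S8.InD x → x ≠ 1 → x = S8.z ∨ x = S8.z⁻¹ ∨ x = S8.z' ∨ x = S8.z'⁻¹ ∨
      ∃ i < 2, ∃ j < 2, S8.ρ ^ i * S8.ρ' ^ j * x * (S8.ρ ^ i * S8.ρ' ^ j)⁻¹ = S8.y) x b1
      ((b2.ne_one inj).not.2 (by decide +kernel)) with b | b | b | b | ⟨i, -, j, -, b⟩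
    exacts [.inl (b ▸ b2), .inr (.inl (b ▸ b2)), .inr (.inr (.inl (b ▸ b2))), .inr (.inr (.inr (b ▸ b2))),
      absurd (b2.trans (Cm.of_eq b)).isConj.symm yz]
  obtain ⟨n, n1, ⟨n2, n3, n4, n5, n6⟩, n7⟩ := h.exists_n
  obtain ⟨ν, iν⟩ := Im.of_mem π ((q.mem (g := n)).2 ⟨Cm.comm' n6, .inr (by
    rw [← map_mul, show c9 * t9 = j1⁻¹⁻¹ * t9 * j1⁻¹ by decide +kernel,
      show c9 = j1⁻¹ * t9 * j1 by decide +kernel]
    exact Eq.symm ((n4.inv.mul n6).mul n4))⟩)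
  have tz : Cm χ' ν S8.z S8.z' := down iν (by rw [Cm, d.z, d.z', n2])
  have tz' : Cm χ' ν S8.z' S8.z := down iν (by rw [Cm, d.z, d.z', n3])
  have tρ : Cm χ' ν S8.ρ S8.ρ' := down iν (by rw [Cm, d.ρ, S8.ρ', d.a5 _ (p := e9)]; exact n7)
  have two : ∀ γ ∈ normalizer (S8.D0.map χ' : Set X), γ ∈ χ'.range ∨ ν * γ ∈ χ'.range := fun γ e => by
    rcases or_assoc.2 (nd γ e) with b | b | b
    exacts [.inl (nz γ b), .inr (nz _ (.inl (b.trans tz'))), .inr (nz _ (.inr (b.trans tz'.inv)))]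
  have nD : ∀ {x}, χ' x ∈ normalizer (S8.D0.map χ' : Set X) →
      S8.InD (x * S8.z * x⁻¹) ∧ S8.InD (x * S8.z' * x⁻¹) := fun e => by
    obtain ⟨y, b1, b2⟩ := gimg e S8.z_D
    obtain ⟨y', b3, b4⟩ := gimg e S8.z'_D
    exact ⟨(S8.cm_iff inj).1 b2 ▸ b1, (S8.cm_iff inj).1 b4 ▸ b3⟩
  refine ⟨χ', ν, iχ, ⟨inj, nz, (iν.mul iν).eq_one n1, tz, down iν (by
      rw [Cm, S8.r, d.a5 _ (p := j2 * t9 * j2⁻¹ * t9 * j2 * t9)]
      exact ((((n5.mul n6).mul n5.inv).mul n6).mul n5).mul n6), .inl tρ, nd, fun γ e => ?_,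
    sylow_of S8.three_D le_top fun γ _ e ⟨l, e'⟩ => ?_, yz, ?_, ?_⟩, tρ⟩
  · obtain ⟨g, a1⟩ := q.surj γ
    have a2 := h.cy d (q.mem.1 a1.mem) (lift a1 (cm_fix.2 e) (by decide +kernel))
    exact S8.mem_nD ((gimg a2 S8.z_D).imp fun _ => And.imp_right (down a1))
      ((gimg a2 S8.z'_D).imp fun _ => And.imp_right (down a1))
  · have c : ∀ {H : Subgroup X}, γ * γ ∈ H → γ ∈ H := fun e => mem_of_coprime_pow (a := 2)
      (Nat.Coprime.pow_right l (by norm_num)) (sq γ ▸ e) (e' ▸ one_mem _)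
    obtain ⟨x, rfl⟩ : γ ∈ χ'.range := (two γ e).elim id fun b => (two _ (mul_mem e e)).elim c fun b' => by
      simpa using mul_mem (inv_mem b) b'
    exact c ⟨x * x, (by decide +kernel : ∀ x, S8.InD (x * S8.z * x⁻¹) ∧ S8.InD (x * S8.z' * x⁻¹) →
      S8.InD (x * x)) x (nD e), map_mul ..⟩
  · rw [show centralizer (S8.D0.map χ' : Set X) = ((centralizer (S8.D0.map χ' : Set X)).comap χ').map χ' from
      (map_comap_eq_self fun γ a => nz γ (.inl (S8.mem_cD.1 a).1)).symm, card_map_of_injective inj,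
      card_list (P := fun x => x * S8.z * x⁻¹ = S8.z ∧ x * S8.z' * x⁻¹ = S8.z') (l := l72 18)
        (fun x => by rw [mem_comap, S8.mem_cD, S8.cm_iff inj, S8.cm_iff inj]) (by decide +kernel)]
    rfl
  · rw [← card_mul_relIndex' (inf_le_right : χ'.range ⊓ normalizer (S8.D0.map χ' : Set X) ≤ _),
      inf_relIndex_right, ← map_comap_eq, card_map_of_injective inj,
      card_list (A := (normalizer (S8.D0.map χ' : Set X)).comap χ')
        (P := fun x => S8.InD (x * S8.z * x⁻¹) ∧ S8.InD (x * S8.z' * x⁻¹)) (l := l72 72)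
        (fun x => ⟨nD, fun a => S8.map_nD a⟩) (by decide +kernel),
      (relIndex_eq_two_iff_exists_notMem_and' (H := χ'.range)).2 ⟨ν,
        S8.mem_nD ⟨_, S8.z'_D, tz⟩ ⟨_, S8.z_D, tz'⟩, fun ⟨x, b⟩ => absurd ((S8.cm_iff inj).1 (b ▸ tz))
          ((by decide +kernel : ∀ x, x * S8.z * x⁻¹ ≠ S8.z') x), fun γ a => (two γ a).symm⟩]
    rfl

theorem Nine2.exists_ei (h : Nine2 a m k Φ) : ∃ Ψ, Ei (Φ t9) (Φ c9) Ψ ∧ Val a Φ Ψ := by
  obtain ⟨χ, d⟩ := h.exists_chi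
  obtain ⟨X, _, _, K, π, q⟩ := (four9 h.toFr).exists_qd
  obtain ⟨χ', ν, iχ, st, tρ⟩ := h.exists_st d q
  obtain ⟨_, hf⟩ := st.exists_f tρ
  obtain ⟨ψ, hψ⟩ := st.exists_psi tρ hf
  have bij : Function.Bijective ψ := ⟨st.psi_inj tρ hψ, MonoidHom.range_eq_top.1 (st.range_eq tρ hψ)⟩
  have v3 : χ S8.ρ' = Φ e9 := d.a5 _
  have od : χ S8.ρ * Φ c9 * (χ S8.ρ)⁻¹ = Φ c9 * Φ t9 := by
    rw [d.ρ, ← map_mul Φ c9]; exact Eq.symm (Cm.of_eq (by decide +kernel))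
  have v03 : χ S8.ρ * χ S8.ρ' = Φ (d9 * e9) := by rw [d.ρ, v3, map_mul]
  have hK := fun {g γ} (e : Im π g γ) => q.mem.1 e.mem
  have yc : ∀ {y}, Im π y (ψ (swap 2 3)) → y * Φ c9 * y⁻¹ = Φ c9 * Φ t9 := fun {y} e =>
    (hK e).2.resolve_left fun e' => by
      obtain ⟨u, hu⟩ := q.surj (ψ (swap 0 2 * swap 1 3))
      obtain ⟨w, hw, e1⟩ := q.eqv (iχ S8.ρ) ((hu.conj e).of_eq (by
        rw [← hψ.p0, ← map_inv, ← map_mul, ← map_mul]; exact congrArg ψ (by decide +kernel)))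
      have e2 := (e1 ▸ q.cjc (hK hu) (hK e).1 (mul_inv_eq_iff_eq_mul.1 e')).mul_left (q.vc hw).inv_left
      rw [mul_inv_cancel_right] at e2
      exact q.t1 (by simpa [e2.eq] using od)
  have dt : ∀ {g σ}, Im π g (ψ σ) → σ * σ = 1 ∧ (swap 0 1 * swap 3 4 : Perm (Fin 8)).support.card =
      σ.support.card → g * g = 1 := fun {g σ} e e' => by
    obtain ⟨μ, rfl⟩ := isConj_iff.1 (S8.conj_of_supp (by decide +kernel) e'.1 e'.2)
    obtain ⟨u, hu⟩ := q.surj (ψ μ)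
    obtain ⟨w, hw, e1⟩ := q.eqv ((hu.conj ((iχ S8.ρ).mul (iχ S8.ρ'))).of_eq (by
      rw [← hψ.p0, ← hψ.p3]; simp)) e
    have e2 : ∀ {x}, Commute (Φ (d9 * e9)) x → _ := fun e => conj_comm9 u e
    have e3 : Commute (u * Φ (d9 * e9) * u⁻¹) w := q.comm hw (by
      simpa [(hK hu).1] using e2 (Fr.map_comm _ t9)) (q.cjc (hK hu) (Fr.map_comm _ _) (Fr.map_comm _ _))
    rw [e1, v03, e3.symm.mul_mul_mul_comm, q.sq hw, conj_mul, ← map_mul,
      show d9 * e9 * (d9 * e9) = 1 by decide +kernel]; simp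
  have tt : ∀ {g γ}, Im π g γ → Commute g (Φ t9) := fun e => (hK e).1
  have it : Im π (Φ t9) 1 := q.ker.2 (.inr (.inl rfl))
  obtain ⟨y, iy, yy⟩ : ∃ y, Im π y (ψ (swap 2 3)) ∧ y * y = 1 := by
    obtain ⟨y, iy⟩ := q.surj (ψ (swap 2 3))
    rcases q.fix (q.ker.1 ((iy.mul iy).of_eq (by rw [← map_mul]; simp))) (tt iy) (yc iy) (by group)
      with e | e
    · exact ⟨y, iy, e⟩
    · refine ⟨_, (iy.mul (q.ker.2 (.inr (.inr (.inl rfl))))).of_eq (mul_one _), ?_⟩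
      calc _ = y * Φ c9 * y⁻¹ * (y * y) * Φ c9 := by group
        _ = 1 := by rw [yc iy, e, q.ctt, q.cc]
  have cu : ∀ {y x σ}, Im π y (ψ (swap 2 3)) → y * y = 1 → ψ σ = χ' x → x * x = 1 ∧ (swap 2 3 * σ) ^ 3 = 1 →
      ∃ u, (u = 1 ∨ u = Φ t9) ∧ (y * (χ x * u)) ^ 3 = 1 ∧ (y * u * χ x) ^ 3 = 1 :=
    fun {y x σ} iy yy e e' => by
      have e1 := q.cube (S8.sq_map e'.1) yy (tt iy) (yc iy) (q.ker.1 (((iy.mul (iχ x)).pow 3).of_eq (by
        rw [← e, ← map_mul, ← map_pow, e'.2, map_one])))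
      refine ⟨_, e1, ?_⟩
      rcases e1 with e1 | e1
      · simpa [e1] using e1
      · rw [e1, mul_assoc y, ← (tt (iχ x)).eq, ← mul_assoc, ((tt iy).mul_left (tt (iχ x))).mul_pow, e1,
          ← pow_succ', show 3 + 1 = 2 * 2 from rfl, pow_mul, sq (Φ t9), q.tt]; simp
  obtain ⟨y, iy, yy, b1⟩ : ∃ y, Im π y (ψ (swap 2 3)) ∧ y * y = 1 ∧ (y * χ (S8.ρ * S8.z)) ^ 3 = 1 := by
    obtain ⟨u, rfl | rfl, -, e⟩ := cu iy yy hψ.p1 (by decide +kernel)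
    exacts [⟨y, iy, yy, by simpa using e⟩, ⟨_, (iy.mul it).of_eq (mul_one _), by
      rw [(tt iy).symm.mul_mul_mul_comm, yy, q.tt, mul_one], e⟩]
  have cm : ∀ {x σ}, ψ σ = χ' x → x * x = 1 ∧ swap 2 3 * σ * (swap 2 3 * σ) = 1 ∧
      (swap 0 1 * swap 3 4 : Perm (Fin 8)).support.card = (swap 2 3 * σ).support.card →
      Commute y (χ x) := fun {x σ} e e' => by
    have := dt ((iy.mul (iχ x)).of_eq (by rw [← e, ← map_mul])) e'.2
    rw [Commute, SemiconjBy, ← inv_eq_of_mul_eq_one_left this, mul_inv_rev,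
      inv_eq_of_mul_eq_one_left yy, inv_eq_of_mul_eq_one_left (S8.sq_map e'.1)]
  obtain ⟨u, hu, b3, -⟩ := cu iy yy hψ.p3 (by decide +kernel)
  obtain ⟨iu, uu, uc⟩ : Im π u 1 ∧ u * u = 1 ∧ ∀ {g γ}, Im π g γ → Commute g u := by
    rcases hu with rfl | rfl
    exacts [⟨Im.one, mul_one 1, fun _ => .one_right _⟩, ⟨it, q.tt, tt⟩]
  have mu : ∀ x y, χ x * u * (χ y * u) = χ (x * y) := fun x y => by
    rw [(uc (iχ y)).symm.mul_mul_mul_comm, uu, mul_one, map_mul]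
  have sq' : ∀ x, x * x = 1 → χ x * u * (χ x * u) = 1 := fun x e => by rw [mu, e, map_one]
  have br : ∀ x y, x * y * x = y * x * y →
      χ x * u * (χ y * u) * (χ x * u) = χ y * u * (χ x * u) * (χ y * u) := fun x y e => by
    rw [mu, mu, ← mul_assoc, ← mul_assoc, ← map_mul, ← map_mul, e]
  have m' : ∀ {x y : S8.H0}, x * y = y * x → Commute (χ x) (χ y) := fun e => mem_Cx.1 (map_mem_Cx e)
  have c0 := cm hψ.p0 (by decide +kernel)
  have c4 := (cm hψ.p4 (by decide +kernel)).mul_right (uc iy)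
  have c5 := (cm hψ.p5 (by decide +kernel)).mul_right (uc iy)
  have c6 := (cm hψ.p6 (by decide +kernel)).mul_right (uc iy)
  have iu' : ∀ x, Im π (χ x * u) (χ' x) := fun x => ((iχ x).mul iu).of_eq (mul_one _)
  obtain ⟨Ψ, he, e⟩ := q.mk_ei bij (f := fun i => [χ S8.ρ, χ (S8.ρ * S8.z), y, χ S8.ρ' * u,
      χ (S8.ρ' * S8.z') * u, χ S8.q * u, χ S8.r * u].getD i 1)
    (fun i hi => by
      interval_cases i
      exacts [S8.sq_map, S8.sq_map, yy, sq' _ (by decide +kernel), sq' _ (by decide +kernel),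
        sq' _ (by decide +kernel), sq' _ (by decide +kernel)])
    (fun i hi => by
      have : i < 6 := by omega
      interval_cases i
      exacts [(braid_of S8.sq_map S8.sq_map (by
          rw [← map_mul, ← map_pow]; exact (congrArg χ (by decide +kernel)).trans (map_one χ)) :
          χ S8.ρ * χ (S8.ρ * S8.z) * χ S8.ρ = _),
        (braid_of S8.sq_map yy b1).symm, braid_of (sq' _ (by decide +kernel)) yy b3,
        br _ _ (by decide +kernel), br _ _ (by decide +kernel), br _ _ (by decide +kernel)])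
    (fun i j hi hj => by
      have : i < 5 := by omega
      interval_cases i <;> interval_cases j <;> first
        | exact c0.symm | exact c4 | exact c5 | exact c6
        | exact (m' (by decide +kernel)).mul_right (uc (iχ _))
        | exact (mu _ _).trans ((congrArg χ (by decide +kernel)).trans (mu _ _).symm))
    (fun i => by
      fin_cases i
      exacts [(iχ _).of_eq hψ.p0.symm, (iχ _).of_eq hψ.p1.symm, iy, (iu' _).of_eq hψ.p3.symm,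
        (iu' _).of_eq hψ.p4.symm, (iu' _).of_eq hψ.p5.symm, (iu' _).of_eq hψ.p6.symm]) od
  have ev : ∀ (i : Fin 7) {p}, E 8 (swap i.castSucc i.succ) = p → Ψ p = _ := fun i _ e' => e' ▸ e i
  have v0 : Ψ (pl [1, 0, 2, 3, 4, 5, 6, 7]) = χ S8.ρ := ev 0 (by decide +kernel)
  have w3 : Ψ (pl [0, 1, 2, 4, 3, 5, 6, 7]) = χ S8.ρ' * u := ev 3 (by decide +kernel)
  obtain rfl : u = 1 := hu.resolve_right fun e' => by
    have c1 : Cm Φ (Φ j1) t9 (c9 * t9) := Cm.of_eq (by decide +kernel)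
    obtain ⟨p', -, e1⟩ := he.norm_alt (ω := Φ j1) ((Eq.symm c1).trans (map_mul ..))
      (Eq.symm (Cm.of_eq (by decide +kernel))) (p := pl [1, 0, 2, 3, 4, 5, 6, 7] * pl [0, 1, 2, 4, 3, 5, 6, 7])
      (by decide +kernel)
    have e2 : Ψ ((pl [1, 0, 2, 3, 4, 5, 6, 7] * pl [0, 1, 2, 4, 3, 5, 6, 7])⁻¹ * p') = Φ c9 := by
      rw [map_mul, map_inv, ← e1, map_mul, v0, w3, ← mul_assoc (χ _), v03, e']
      simp only [← map_mul, ← map_inv]
      exact congrArg Φ (by decide +kernel)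
    rw [he.ker _ (.inr (.inr (.inl e2))), map_one] at e2
    exact q.c1 e2.symm
  simp only [mul_one] at ev w3
  refine ⟨Ψ, he, v0.trans d.ρ, ?_, w3.trans v3, (ev 4 (by decide +kernel)).trans ?_,
    (ev 5 (by decide +kernel)).trans (d.a5 _), (ev 6 (by decide +kernel)).trans (d.a5 _)⟩
  · rw [show a8 = pl [1, 0, 2, 3, 4, 5, 6, 7] * pl [0, 2, 1, 3, 4, 5, 6, 7] by decide +kernel, map_mul, v0,
      show Ψ (pl [0, 2, 1, 3, 4, 5, 6, 7]) = χ (S8.ρ * S8.z) from ev 1 (by decide +kernel), ← map_mul,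
      ← d.z]
    exact congrArg χ (by decide +kernel)
  · show χ (S8.ρ' * S8.z') = _
    rw [map_mul, v3, d.z', ← map_mul]
    exact congrArg Φ (by decide +kernel)

end CfsgLib.HN3
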