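import Cfsg.Agent.Lib.HN3.B2

/-! The 3-local characterisation of the Harada–Norton group (plans/HN3.md), package B3. -/

set_option autoImplicit false
set_option linter.unusedSectionVars false

namespace CfsgLib.HN3

open Subgroup Cfsg CfsgLib.Tech CfsgLib.W2 CfsgLib.Rec3 PG

variable {G : Type*} [Group G] [Finite G] {a m k : G} {Φ : PG 9 →* G}

namespace B3


theorem f1 {P : PG 9} (h1 : P * T9 = T9 * P) (h2 : P * C9 = C9 * P) (h3 : P * j3 = j3⁻¹ * P)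
    (h4 : P * P = 1) : P ∈ alt 9 → j1 * j2 * P * (j1 * j2)⁻¹ * P⁻¹ = 1 ∨
      j1 * j2 * P * (j1 * j2)⁻¹ * P⁻¹ = T9 ∨ j1 * j2 * P * (j1 * j2)⁻¹ * P⁻¹ = C9 ∨
        j1 * j2 * P * (j1 * j2)⁻¹ * P⁻¹ = C9 * T9 :=
  pg_inv [(T9, T9), (C9, C9), (j3, j3⁻¹)] (P := fun P => P ∈ alt 9 →
    j1 * j2 * P * (j1 * j2)⁻¹ * P⁻¹ = 1 ∨ j1 * j2 * P * (j1 * j2)⁻¹ * P⁻¹ = T9 ∨
      j1 * j2 * P * (j1 * j2)⁻¹ * P⁻¹ = C9 ∨ j1 * j2 * P * (j1 * j2)⁻¹ * P⁻¹ = C9 * T9)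
    (by decide +kernel) (by simp [h1, h2, h3]) h4

theorem f2 {P : PG 9} (h1 : P * T9 = T9 * P) (h2 : P * C9 = C9 * P) (h3 : P * j3 = j3⁻¹ * P)
    (h4 : P * P = 1) (h5 : P * (j1 * j2) = j1 * j2 * P) : P ∈ alt 9 →
      P = pl [5, 3, 4, 1, 2, 0, 7, 6, 8] ∨ P = pl [5, 3, 4, 1, 2, 0, 8, 7, 6] ∨
        P = pl [5, 3, 4, 1, 2, 0, 6, 8, 7] :=
  pg_inv [(T9, T9), (C9, C9), (j3, j3⁻¹), (j1 * j2, j1 * j2)] (P := fun P => P ∈ alt 9 →
    P = pl [5, 3, 4, 1, 2, 0, 7, 6, 8] ∨ P = pl [5, 3, 4, 1, 2, 0, 8, 7, 6] ∨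
      P = pl [5, 3, 4, 1, 2, 0, 6, 8, 7])
    (by decide +kernel) (by simp only [List.forall_mem_cons]; exact ⟨h1, h2, h3, h5, by simp⟩) h4

/-- the properties of the element `X` -/
def Good (P r X : PG 9) : Prop :=
  X ∈ alt 9 ∧ X * X = 1 ∧ X * T9 = T9 * X ∧ X * C9 * X⁻¹ = C9 * P ∧ X * P = P * X ∧
    X * r * X⁻¹ = r * T9 * P

theorem f3 {P r : PG 9} (hP : P = pl [5, 3, 4, 1, 2, 0, 7, 6, 8] ∨ P = pl [5, 3, 4, 1, 2, 0, 8, 7, 6] ∨
    P = pl [5, 3, 4, 1, 2, 0, 6, 8, 7]) (h1 : r * (j1 * j2) = j1 * j2 * r)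
    (h2 : r * (j1 * j2⁻¹) = j1 * j2⁻¹ * r) (h3 : r * T9 = T9 * r) (h4 : r * P = P * r)
    (h5 : r ∉ alt 9) : IsConj w9 P ∧ ∃ X, IsConj w9 X ∧ Good P r X := by
  have h6 : r ∉ alt 9 → r = pl [0, 1, 2, 3, 4, 5, 7, 6, 8] ∨ r = pl [0, 1, 2, 3, 4, 5, 8, 7, 6] ∨
      r = pl [0, 1, 2, 3, 4, 5, 6, 8, 7] :=
    pg_conj [(j1 * j2, j1 * j2), (j1 * j2⁻¹, j1 * j2⁻¹), (T9, T9)] (P := fun r => r ∉ alt 9 →
      r = pl [0, 1, 2, 3, 4, 5, 7, 6, 8] ∨ r = pl [0, 1, 2, 3, 4, 5, 8, 7, 6] ∨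
        r = pl [0, 1, 2, 3, 4, 5, 6, 8, 7])
      (by decide +kernel) (by simp only [List.forall_mem_cons]; exact ⟨h1, h2, h3, by simp⟩)
  unfold Good
  rcases hP with rfl | rfl | rfl <;> rcases h6 h5 with rfl | rfl | rfl
  · exact ⟨isConj_iff.2 ⟨pl [0, 1, 2, 5, 3, 4, 6, 7, 8], by decide +kernel⟩,
      pl [6, 2, 1, 4, 3, 7, 0, 5, 8], isConj_iff.2 ⟨pl [0, 1, 3, 6, 2, 4, 5, 7, 8], by decide +kernel⟩,
      by decide +kernel⟩
  · exact absurd h4 (by decide +kernel)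
  · exact absurd h4 (by decide +kernel)
  · exact absurd h4 (by decide +kernel)
  · exact ⟨isConj_iff.2 ⟨pl [0, 1, 2, 5, 3, 4, 6, 8, 7], by decide +kernel⟩,
      pl [6, 2, 1, 4, 3, 8, 0, 7, 5], isConj_iff.2 ⟨pl [0, 1, 3, 6, 2, 4, 5, 8, 7], by decide +kernel⟩,
      by decide +kernel⟩
  · exact absurd h4 (by decide +kernel)
  · exact absurd h4 (by decide +kernel)
  · exact absurd h4 (by decide +kernel)
  · exact ⟨isConj_iff.2 ⟨pl [0, 1, 2, 5, 3, 4, 7, 8, 6], by decide +kernel⟩,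
      pl [7, 2, 1, 4, 3, 8, 6, 0, 5], isConj_iff.2 ⟨pl [0, 1, 3, 7, 2, 4, 5, 8, 6], by decide +kernel⟩,
      by decide +kernel⟩

theorem f4 {p : PG 9} (h : p * t9 = t9 * p) : p * c9 * p⁻¹ = c9 ∨ p * c9 * p⁻¹ = c9 * t9 :=
  pg_conj [(t9, t9)] (P := fun p => p * c9 * p⁻¹ = c9 ∨ p * c9 * p⁻¹ = c9 * t9)
    (by decide +kernel) (by simp [h])

theorem comm (h : Fr a Φ) {p : PG 9} (hp : p ∈ alt 9) : Φ p * a = a * Φ p :=
  mul_inv_eq_iff_eq_mul.1 (h.ev p hp)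

theorem cm_of (h : Fr a Φ) {i : ℕ} {r p : PG 9} (hp : p ∈ alt 9)
    (e : a ^ i * Φ r * Φ p = Φ p * (a ^ i * Φ r)) : r * p = p * r := by
  have h1 := h.cj i r hp
  rw [e, mul_inv_cancel_right] at h1
  exact mul_inv_eq_iff_eq_mul.1 (h.inj h1).symm

theorem mapc {H : Type*} [Group H] (f : H →* G) {x y g : H} (e : g * x * g⁻¹ = y) :
    IsConj (f x) (f y) := isConj_iff.2 ⟨f g, by rw [← e, map_mul, map_mul, map_inv]⟩

end B3

open B3 in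
theorem Nine2.eight (h : Nine2 a m k Φ) {Ψ : PG 8 →* G} (he : Ei (Φ t9) (Φ c9) Ψ) (hv : Val a Φ Ψ) :
    ∃ x, Eight (Φ t9) (Φ c9) x Ψ := by
  have hf : Fr a Φ := h.toNine.toFr
  have a3 : a ^ 3 = 1 := by rw [← hf.a3]; exact pow_orderOf_eq_one a
  have hai : a⁻¹ * a⁻¹ = a := by
    rw [← mul_inv_rev, inv_eq_iff_mul_eq_one, ← a3, pow_succ, pow_two]
  have c3 := comm hf (p := j3) (by decide +kernel)
  obtain ⟨κ, hκ⟩ : ∃ κ : G ≃* G, ∀ g, κ g = k * g * k⁻¹ := ⟨MulAut.conj k, fun _ => rfl⟩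
  have k1 : κ (Φ j1) = Φ (j1 * j2) := (hκ _).trans h.k1
  have k2 : κ (Φ j2) = Φ (j1 * j2⁻¹) := (hκ _).trans h.k2
  have k3 : κ (Φ j3) = (Φ j3)⁻¹ * a⁻¹ := (hκ _).trans h.k3
  have k4 : κ a = Φ j3 * a⁻¹ := (hκ _).trans h.k4
  have kt : κ (Φ t9) = Φ T9 := (hκ _).trans h.kt
  have kc : κ (Φ c9) = Φ C9 := by
    rw [show c9 = j1⁻¹ * t9 * j1 by decide +kernel, show C9 = (j1 * j2)⁻¹ * T9 * (j1 * j2) by
      decide +kernel, map_mul Φ, map_mul Φ, map_inv, map_mul, map_mul, map_inv, k1, kt,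
      map_mul Φ _ (j1 * j2), map_mul Φ _ T9, map_inv]
  have kcj : ∀ g, IsConj g (κ g) := fun g => isConj_iff.2 ⟨k, (hκ g).symm⟩
  -- values of `Ψ`
  have e345 : Ψ (pl [0, 1, 2, 4, 5, 3, 6, 7]) = Φ j3 := by
    rw [show (pl [0, 1, 2, 4, 5, 3, 6, 7] : PG 8) = pl [0, 1, 2, 4, 3, 5, 6, 7] *
      pl [0, 1, 2, 3, 5, 4, 6, 7] by decide +kernel, map_mul, hv.v3, hv.v4, ← map_mul]
    exact congrArg Φ (by decide +kernel)
  have ey : Ψ y8 = a * Φ j3 := by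
    rw [show y8 = a8 * pl [0, 1, 2, 4, 5, 3, 6, 7] by decide +kernel, map_mul, hv.va, e345]
  have ky : κ (Ψ y8) = a := by
    rw [ey, map_mul, k3, k4]
    have : Φ j3 * a⁻¹ = a⁻¹ * Φ j3 := (Commute.inv_right (a := Φ j3) c3).eq
    rw [this, mul_assoc, mul_inv_cancel_left, hai]
  have es : Ψ s8 = a⁻¹ * Φ (pl [0, 1, 2, 3, 4, 5, 6, 8, 7]) := by
    rw [show s8 = pl [1, 0, 2, 3, 4, 5, 6, 7] * a8 * pl [0, 1, 2, 3, 5, 4, 6, 7] by decide +kernel,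
      map_mul, map_mul, hv.v0, hv.va, hv.v4, ← hf.od d9 (by decide +kernel),
      show (pl [0, 1, 2, 3, 4, 5, 6, 8, 7] : PG 9) = d9 * pl [1, 0, 2, 3, 4, 5, 6, 8, 7] by
        decide +kernel, map_mul]
    group
  have eu : Ψ (pl [0, 1, 2, 4, 3, 5, 7, 6]) = Φ (pl [0, 1, 2, 3, 5, 4, 7, 6, 8]) := by
    rw [show (pl [0, 1, 2, 4, 3, 5, 7, 6] : PG 8) = pl [0, 1, 2, 4, 3, 5, 6, 7] * e8 by
      decide +kernel, map_mul, hv.v3, hv.v6, ← map_mul]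
    exact congrArg Φ (by decide +kernel)
  have es' : Ψ (pl [0, 3, 4, 1, 6, 7, 2, 5]) * Ψ s8 * (Ψ (pl [0, 3, 4, 1, 6, 7, 2, 5]))⁻¹ =
      Φ (pl [0, 1, 2, 3, 5, 4, 7, 6, 8]) := by
    rw [← eu, ← map_inv, ← map_mul, ← map_mul]
    exact congrArg Ψ (by decide +kernel)
  have nc : ∀ g, IsConj g (Φ w9) → ¬ IsConj (Φ t9) g := fun g h1 h2 => h.toNine.nc4 (h2.trans h1)
  -- the element `P`
  have cΨ : ∀ p q : PG 8, p * q = q * p → κ (Ψ p) * κ (Ψ q) = κ (Ψ q) * κ (Ψ p) := fun p q e => by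
    rw [← map_mul, ← map_mul, e, map_mul, map_mul]
  have cT : ∀ p, κ (Ψ p) * Φ T9 = Φ T9 * κ (Ψ p) := fun p => by
    rw [← kt, ← map_mul, he.Ψt, map_mul]
  obtain ⟨P, hP, hPP, eP⟩ := hf.cen2 (g := κ (Ψ z8))
    (by rw [← ky]; exact cΨ _ _ (by decide +kernel))
    (by rw [← map_mul, ← map_mul, show z8 * z8 = 1 by decide +kernel, map_one, map_one])
  have P1 : P * T9 = T9 * P := hf.inj (by rw [map_mul, map_mul, ← eP]; exact cT _)
  have P2 : P * C9 = C9 * P := hf.inj (by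
    rw [map_mul, map_mul, ← eP, ← kc, ← map_mul, ← map_mul,
      mul_inv_eq_iff_eq_mul.1 (he.ev z8 (by decide +kernel))])
  have P3 : P * j3 = j3⁻¹ * P := hf.inj (by
    have h1 : Ψ z8 * a = Φ j3 * Ψ z8 := by
      rw [← hv.va, ← e345, ← map_mul, ← map_mul]
      exact congrArg Ψ (by decide +kernel)
    have h2 := congrArg κ h1
    rw [map_mul, map_mul, eP, k3, k4] at h2
    have h3 : a⁻¹ * Φ P = Φ P * a⁻¹ := (Commute.inv_right (a := Φ P) (comm hf hP)).eq.symm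
    rw [mul_assoc, h3, ← mul_assoc, ← mul_assoc] at h2
    rw [map_mul, map_mul, map_inv]
    exact mul_right_cancel h2)
  have P4 : P * (j1 * j2) = j1 * j2 * P := by
    obtain ⟨p', -, hp'⟩ := he.norm_alt (ω := Φ j1)
      (by rw [← map_inv, ← map_mul, ← map_mul, ← map_mul]; exact congrArg Φ (by decide +kernel))
      (by rw [← map_inv, ← map_mul, ← map_mul]; exact congrArg Φ (by decide +kernel))
      (p := z8) (by decide +kernel)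
    have h1 : κ (Ψ (p' * z8⁻¹)) = Φ (j1 * j2 * P * (j1 * j2)⁻¹ * P⁻¹) := by
      rw [map_mul, map_inv, ← hp', map_mul, map_mul, map_mul, map_inv, map_inv, k1, eP,
        map_mul Φ _ P⁻¹, map_mul Φ _ (j1 * j2)⁻¹, map_mul Φ _ P, map_inv, map_inv]
    have h2 : p' * z8⁻¹ = 1 := he.ker _ (by
      rcases f1 P1 P2 P3 hPP hP with e | e | e | e <;> rw [e] at h1
      · exact Or.inl (κ.injective (by rw [h1, map_one, map_one]))
      · exact Or.inr (Or.inl (κ.injective (by rw [h1, kt])))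
      · exact Or.inr (Or.inr (Or.inl (κ.injective (by rw [h1, kc]))))
      · exact Or.inr (Or.inr (Or.inr (κ.injective (by rw [h1, map_mul, map_mul, kc, kt])))))
    rw [h2, map_one, map_one, ← map_one Φ] at h1
    have h3 := (hf.inj h1).symm
    rw [mul_inv_eq_one, mul_inv_eq_iff_eq_mul] at h3
    exact h3.symm
  -- the element `r`
  have s1 : κ (Ψ s8) * a * (κ (Ψ s8))⁻¹ = a⁻¹ := by
    rw [← ky, ← map_inv, ← map_inv, ← map_inv, ← map_inv, ← map_mul, ← map_mul, ← map_mul, ← map_mul]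
    exact congrArg κ (congrArg Ψ (by decide +kernel))
  obtain ⟨r, i, -, er⟩ := hf.nrm _ (Or.inr s1)
  have cs : ∀ j ∈ alt 9, pl [0, 1, 2, 3, 4, 5, 6, 8, 7] * j = j * pl [0, 1, 2, 3, 4, 5, 6, 8, 7] →
      κ (Ψ s8) * κ (Φ j) = κ (Φ j) * κ (Ψ s8) := fun j hj e => by
    have h3 : a⁻¹ * Φ j = Φ j * a⁻¹ := (Commute.inv_right (a := Φ j) (comm hf hj)).eq.symm
    rw [← map_mul, ← map_mul, es, mul_assoc, ← map_mul Φ, e, map_mul Φ, ← mul_assoc, h3, mul_assoc]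
  have r1 : r * (j1 * j2) = j1 * j2 * r := cm_of hf (by decide +kernel)
    (by rw [← er, ← k1]; exact cs _ (by decide +kernel) (by decide +kernel))
  have r2 : r * (j1 * j2⁻¹) = j1 * j2⁻¹ * r := cm_of hf (by decide +kernel)
    (by rw [← er, ← k2]; exact cs _ (by decide +kernel) (by decide +kernel))
  have r3 : r * T9 = T9 * r := cm_of hf (by decide +kernel) (by rw [← er]; exact cT _)
  have r4 : r * P = P * r := cm_of hf hP (by rw [← er, ← eP]; exact cΨ _ _ (by decide +kernel))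
  have r5 : r ∉ alt 9 := fun hr => by
    have h1 : Commute (a ^ i * Φ r) a := ((Commute.refl a).pow_left i).mul_left (comm hf hr)
    rw [er, h1.eq, mul_inv_cancel_right, eq_inv_iff_mul_eq_one, ← pow_two] at s1
    have := orderOf_dvd_of_pow_eq_one s1
    rw [hf.a3] at this
    exact absurd this (by norm_num)
  obtain ⟨cP, X, cX, X1, X2, X3, X4, X5, X6⟩ := f3 (f2 P1 P2 P3 hPP P4 hP) r1 r2 r3 r4 r5
  obtain ⟨x, hx⟩ := κ.surjective (Φ X)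
  refine ⟨x, he, mapc Φ (g := j1⁻¹) (by decide +kernel), ?_, ?_, ?_, ?_, ?_, ?_, ?_, ?_, ?_, ?_, ?_⟩
  · exact (mapc Φ (g := pl [4, 5, 6, 7, 0, 1, 2, 3, 8]) (by decide +kernel)).trans
      (isConj_iff.2 ⟨_, es'⟩).symm
  · refine nc _ ((isConj_iff.2 ⟨Ψ (pl [0, 3, 4, 1, 6, 7, 2, 5]), ?_⟩).trans
      (mapc Φ (x := t9 * pl [0, 1, 2, 3, 5, 4, 7, 6, 8]) (g := pl [0, 3, 1, 4, 2, 5, 6, 7, 8])
        (by decide +kernel)))
    rw [map_mul, ← es', ← mul_assoc, he.Ψt]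
    group
  · exact nc _ ((kcj _).trans (eP ▸ (Φ.map_isConj cP).symm))
  · exact nc _ ((kcj _).trans (hx ▸ (Φ.map_isConj cX).symm))
  · exact κ.injective (by rw [map_mul, hx, ← map_mul, X2, map_one, map_one])
  · exact κ.injective (by rw [map_mul, map_mul, hx, kt, ← map_mul, X3, map_mul])
  · exact κ.injective (by
      rw [map_mul, map_mul, map_mul, map_inv, hx, kc, eP, ← map_inv, ← map_mul, ← map_mul, X4, map_mul])
  · exact κ.injective (by rw [map_mul, map_mul, hx, eP, ← map_mul, X5, map_mul])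
  · exact κ.injective (by rw [map_mul, map_mul, hx, ky, comm hf X1])
  · refine κ.injective ?_
    have h1 : Φ X * a ^ i = a ^ i * Φ X := (Commute.pow_right (a := Φ X) (comm hf X1) i).eq
    rw [map_mul, map_mul, map_mul, map_mul, map_inv, hx, kt, eP, er, ← mul_assoc, h1, mul_assoc,
      mul_assoc, mul_assoc, mul_assoc, ← map_inv, ← map_mul, ← map_mul, ← map_mul, ← map_mul,
      ← mul_assoc, X6, mul_assoc]
  · intro g h1 h2
    rw [hv.va] at h2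
    obtain ⟨p, -, n, -, rfl⟩ := hf.cen h2
    rw [hf.cj n p (p := c9) (by decide +kernel), ← map_mul]
    exact (f4 (cm_of hf (by decide +kernel) h1)).imp (congrArg Φ) (congrArg Φ)

theorem Nine.exists_eight (h : Nine a m k Φ) : ∃ (t c x : G) (Ψ : PG 8 →* G), Eight t c x Ψ := by
  obtain ⟨m, k, h2⟩ := h.exists_nine2
  obtain ⟨Ψ, he, hv⟩ := h2.exists_ei
  obtain ⟨x, hx⟩ := h2.eight he hv
  exact ⟨_, _, x, Ψ, hx⟩

end CfsgLib.HN3
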