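import Cfsg.Agent.Lib.HN3.Defs

/-! The 3-local characterisation of the Harada–Norton group (plans/HN3.md), package B4. -/

set_option autoImplicit false
set_option linter.unusedSectionVars false

namespace CfsgLib.HN3

open Subgroup Cfsg CfsgLib.Tech CfsgLib.W2 CfsgLib.Rec3 PG

universe u

variable {G : Type u} [Group G] [Finite G] {t c x : G} {Ψ : PG 8 →* G}

namespace B4

theorem mmc {a b : G} (h : Commute a b) (d : G) : a * b * (a * d) = a * a * (b * d) := by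
  rw [mul_assoc, ← mul_assoc b, ← h.eq]; group

theorem inj (h : Ei t c Ψ) {p q : PG 8} (e : Ψ p = Ψ q) : p = q := by
  have : p * q⁻¹ = 1 := h.ker _ (Or.inl (by rw [map_mul, map_inv, e, mul_inv_cancel]))
  exact mul_inv_eq_one.1 this

theorem cev (h : Ei t c Ψ) {p : PG 8} (hp : p ∈ alt 8) : Commute c (Ψ p) :=
  (mul_inv_eq_iff_eq_mul.1 (h.ev p hp)).symm

theorem tall (h : Ei t c Ψ) (p : PG 8) : Commute t (Ψ p) := (h.Ψt p).symm

theorem ne_ct (h : Ei t c Ψ) : c ≠ c * t := fun e => h.t1 (by simpa using e.symm)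

/-- the normal form `u * Ψ p` with `u` in the four-group -/
theorem nf (h : Ei t c Ψ) {g : G} (h1 : g * t = t * g)
    (h2 : g * c * g⁻¹ = c ∨ g * c * g⁻¹ = c * t) :
    ∃ (u : G) (p : PG 8), g = u * Ψ p ∧ u * u = 1 ∧ Commute u c ∧ Commute u t ∧
      (∀ r ∈ alt 8, Commute u (Ψ r)) ∧ (u = 1 ∨ u = t ∨ u = c ∨ u = c * t) := by
  have hct : Commute c t := h.ct
  obtain ⟨p, e | e | e | e⟩ := h.nrm g h1 h2
  · exact ⟨1, p, by rw [one_mul]; exact e, one_mul _, Commute.one_left _, Commute.one_left _,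
      fun r _ => Commute.one_left _, Or.inl rfl⟩
  · exact ⟨t, p, e, h.tt, hct.symm, Commute.refl _, fun r _ => tall h r, Or.inr (Or.inl rfl)⟩
  · exact ⟨c, p, e, h.cc, Commute.refl _, hct, fun r hr => cev h hr, Or.inr (Or.inr (Or.inl rfl))⟩
  · refine ⟨c * t, p, e, ?_, (Commute.refl c).mul_left hct.symm, hct.mul_left (Commute.refl t),
      fun r hr => (cev h hr).mul_left (tall h r), Or.inr (Or.inr (Or.inr rfl))⟩
    rw [mmc hct, h.cc, h.tt, one_mul]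

theorem f1 {p : PG 8} (h1 : p * z8 = z8 * p) (h2 : p * p = 1) : p ∈ alt 8 →
    p * (y8 * p * y8⁻¹) * (y8 * (y8 * p * y8⁻¹) * y8⁻¹) = 1 →
    p = 1 ∨ p = v8 ∨ p = w8 ∨ p = v8 * w8 ∨ e8 * p * e8⁻¹ = v8 ∨ y8 * e8 * p * (y8 * e8)⁻¹ = v8 ∨
      y8 * y8 * e8 * p * (y8 * y8 * e8)⁻¹ = v8 ∨ x8 * p * x8⁻¹ = s8 ∨
      x8 * y8⁻¹ * p * (x8 * y8⁻¹)⁻¹ = s8 ∨ x8 * y8 * p * (x8 * y8)⁻¹ = s8 :=
  pg_inv [(z8, z8)] (P := fun p => p ∈ alt 8 →
    p * (y8 * p * y8⁻¹) * (y8 * (y8 * p * y8⁻¹) * y8⁻¹) = 1 →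
    p = 1 ∨ p = v8 ∨ p = w8 ∨ p = v8 * w8 ∨ e8 * p * e8⁻¹ = v8 ∨ y8 * e8 * p * (y8 * e8)⁻¹ = v8 ∨
      y8 * y8 * e8 * p * (y8 * y8 * e8)⁻¹ = v8 ∨ x8 * p * x8⁻¹ = s8 ∨
      x8 * y8⁻¹ * p * (x8 * y8⁻¹)⁻¹ = s8 ∨ x8 * y8 * p * (x8 * y8)⁻¹ = s8) (by decide +kernel)
    (by simpa using h1) h2

theorem f2 {p : PG 8} (h1 : p * z8 = z8 * p) (h2 : p * v8 = v8 * p) (h3 : p * w8 = w8 * p) :
    p ∈ alt 8 :=
  pg_conj [(z8, z8), (v8, v8), (w8, w8)] (P := fun p => p ∈ alt 8) (by decide +kernel)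
    (by simp [h1, h2, h3])

/-- `g` centralises `t` and `V₈` and maps `c` to `c t Ψ r` -/
structure Dv (t c : G) (Ψ : PG 8 →* G) (g : G) (r : PG 8) : Prop where
  ht : Commute g t
  hz : Commute g (Ψ z8)
  hv : Commute g (Ψ v8)
  hw : Commute g (Ψ w8)
  hc : g * c * g⁻¹ = c * t * Ψ r

theorem comm_cj {g a b X : G} (h : Commute g a) (e : X * a * X⁻¹ = b) :
    Commute (X * g * X⁻¹) b := e ▸ h.conj X

theorem Dv.step (h : Ei t c Ψ) {g : G} {r : PG 8} (d : Dv t c Ψ g r) :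
    Dv t c Ψ (Ψ x8 * g * (Ψ x8)⁻¹) (x8 * r * x8⁻¹) := by
  have ht : Ψ x8 * t * (Ψ x8)⁻¹ = t := by rw [h.Ψt, mul_inv_cancel_right]
  have hc : Ψ x8 * c * (Ψ x8)⁻¹ = c := h.ev _ (by decide +kernel)
  have key : ∀ a b : PG 8, x8 * a * x8⁻¹ = b → Ψ x8 * Ψ a * (Ψ x8)⁻¹ = Ψ b := fun a b e => by
    rw [← e, map_mul, map_mul, map_inv]
  refine ⟨comm_cj d.ht ht, comm_cj (a := Ψ (z8 * v8)) (by rw [map_mul]; exact d.hz.mul_right d.hv)
    (key _ _ (by decide +kernel)), comm_cj d.hz (key _ _ (by decide +kernel)),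
    comm_cj d.hw (key _ _ (by decide +kernel)), ?_⟩
  calc Ψ x8 * g * (Ψ x8)⁻¹ * c * (Ψ x8 * g * (Ψ x8)⁻¹)⁻¹
      = Ψ x8 * g * (Ψ x8)⁻¹ * (Ψ x8 * c * (Ψ x8)⁻¹) * (Ψ x8 * g * (Ψ x8)⁻¹)⁻¹ := by rw [hc]
    _ = Ψ x8 * (g * c * g⁻¹) * (Ψ x8)⁻¹ := by group
    _ = (Ψ x8 * c * (Ψ x8)⁻¹) * (Ψ x8 * t * (Ψ x8)⁻¹) * (Ψ x8 * Ψ r * (Ψ x8)⁻¹) := by
      rw [d.hc]; group
    _ = _ := by rw [hc, ht, key r _ rfl]

theorem not_Dv (h : Ei t c Ψ) {g : G} (d : Dv t c Ψ g z8) : False := by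
  have d1 := d.step h
  have d2 := d1.step h
  rw [show x8 * z8 * x8⁻¹ = v8 by decide +kernel] at d1 d2
  rw [show x8 * v8 * x8⁻¹ = z8 * v8 by decide +kernel] at d2
  generalize Ψ x8 * (Ψ x8 * g * (Ψ x8)⁻¹) * (Ψ x8)⁻¹ = g2 at d2
  generalize Ψ x8 * g * (Ψ x8)⁻¹ = g1 at d1
  have e1 : g1 * (c * t * Ψ (z8 * v8)) * g1⁻¹ = c * Ψ z8 := by
    have a1 : g1 * t * g1⁻¹ = t := by rw [d1.ht.eq, mul_inv_cancel_right]
    have a2 : g1 * Ψ (z8 * v8) * g1⁻¹ = Ψ (z8 * v8) := by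
      rw [map_mul, (d1.hz.mul_right d1.hv).eq, mul_inv_cancel_right]
    calc g1 * (c * t * Ψ (z8 * v8)) * g1⁻¹
        = (g1 * c * g1⁻¹) * (g1 * t * g1⁻¹) * (g1 * Ψ (z8 * v8) * g1⁻¹) := by group
      _ = c * (t * (Ψ v8 * t)) * Ψ (z8 * v8) := by rw [d1.hc, a1, a2]; group
      _ = c * (t * t) * (Ψ v8 * Ψ (z8 * v8)) := by rw [h.Ψt]; group
      _ = c * Ψ z8 := by
        rw [h.tt, mul_one, ← map_mul, show v8 * (z8 * v8) = z8 by decide +kernel]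
  have e2 : g * (c * Ψ z8) * g⁻¹ = c * t := by
    have a2 : g * Ψ z8 * g⁻¹ = Ψ z8 := by rw [d.hz.eq, mul_inv_cancel_right]
    calc g * (c * Ψ z8) * g⁻¹ = (g * c * g⁻¹) * (g * Ψ z8 * g⁻¹) := by group
      _ = c * t * (Ψ z8 * Ψ z8) := by rw [d.hc, a2]; group
      _ = c * t := by rw [← map_mul, show z8 * z8 = 1 by decide +kernel, map_one, mul_one]
  have e3 : g * g1 * g2 * c * (g * g1 * g2)⁻¹ = c * t := by
    rw [← e2, ← e1, ← d2.hc]; group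
  obtain ⟨u, p, e, -, uc, -, ua, -⟩ := nf h ((d.ht.mul_left d1.ht).mul_left d2.ht).eq (Or.inr e3)
  have key : ∀ r ∈ alt 8, Commute (g * g1 * g2) (Ψ r) → p * r = r * p := fun r hr hg => by
    apply inj h
    rw [e] at hg
    have := (ua r hr).inv_left.mul_left hg
    rw [inv_mul_cancel_left] at this
    rw [map_mul, map_mul, this.eq]
  have hp := f2 (key _ (by decide +kernel) ((d.hz.mul_left d1.hz).mul_left d2.hz))
    (key _ (by decide +kernel) ((d.hv.mul_left d1.hv).mul_left d2.hv))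
    (key _ (by decide +kernel) ((d.hw.mul_left d1.hw).mul_left d2.hw))
  rw [e, (uc.mul_left (cev h hp).symm).eq, mul_inv_cancel_right] at e3
  exact ne_ct h e3

theorem second (h : Eight t c x Ψ) {p r : PG 8} (e : x * Ψ v8 * x⁻¹ = Ψ p) (hr : r ∉ alt 8)
    (h1 : r * p * r⁻¹ = v8) (h2 : r * y8 = y8 * r) (h3 : r * z8 = z8 * r) : False := by
  have hy : Commute (Ψ r * x) (Ψ y8) :=
    Commute.mul_left (by change _ = _; rw [← map_mul, ← map_mul, h2]) h.xy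
  have hz : Commute (Ψ r) (Ψ z8) := by change _ = _; rw [← map_mul, ← map_mul, h3]
  have hv : Commute (Ψ r * x) (Ψ v8) := by
    have : Ψ r * x * Ψ v8 * (Ψ r * x)⁻¹ = Ψ v8 := by
      calc Ψ r * x * Ψ v8 * (Ψ r * x)⁻¹ = Ψ r * (x * Ψ v8 * x⁻¹) * (Ψ r)⁻¹ := by group
        _ = Ψ v8 := by rw [e, ← map_inv, ← map_mul, ← map_mul, h1]
    exact mul_inv_eq_iff_eq_mul.1 this
  refine not_Dv h.toEi (g := Ψ r * x) ⟨Commute.mul_left (h.Ψt r) h.xt, hz.mul_left h.xz, hv, ?_, ?_⟩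
  · rw [show w8 = y8 * v8 * y8⁻¹ by decide +kernel, map_mul, map_mul, map_inv]
    exact (hy.mul_right hv).mul_right hy.inv_right
  · calc Ψ r * x * c * (Ψ r * x)⁻¹ = Ψ r * (x * c * x⁻¹) * (Ψ r)⁻¹ := by group
      _ = (Ψ r * c * (Ψ r)⁻¹) * (Ψ r * Ψ z8 * (Ψ r)⁻¹) := by rw [h.xc]; group
      _ = c * t * Ψ z8 := by rw [h.od r hr, hz.eq, mul_inv_cancel_right]

theorem first (h : Eight t c x Ψ) {r : PG 8} (e : x * Ψ v8 * x⁻¹ = Ψ (r * v8 * r⁻¹))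
    (hr : Commute x (Ψ r)) : r * r * v8 * (r * r)⁻¹ = v8 := by
  apply inj h.toEi
  rw [map_mul, map_mul, map_inv] at e
  rw [map_mul, map_mul, map_inv, map_mul]
  have hx : x⁻¹ = x := inv_eq_of_mul_eq_one_right h.xx
  calc Ψ r * Ψ r * Ψ v8 * (Ψ r * Ψ r)⁻¹ = Ψ r * (Ψ r * Ψ v8 * (Ψ r)⁻¹) * (Ψ r)⁻¹ := by group
    _ = (Ψ r * x) * Ψ v8 * (Ψ r * x)⁻¹ := by rw [← e]; group
    _ = x * (Ψ r * Ψ v8 * (Ψ r)⁻¹) * x⁻¹ := by rw [← hr.eq]; group
    _ = (x * x) * Ψ v8 * (x * x)⁻¹ := by rw [← e]; group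
    _ = Ψ v8 := by rw [h.xx]; group

theorem third (h : Eight t c x Ψ) {p r : PG 8} (e : x * Ψ v8 * x⁻¹ = Ψ p)
    (h1 : r * p * r⁻¹ = s8) : False := by
  apply h.nz
  have a1 : IsConj (Ψ p) (Ψ s8) :=
    isConj_iff.2 ⟨Ψ r, by rw [← h1, map_mul, map_mul, map_inv]⟩
  have a2 : IsConj (Ψ v8) (Ψ p) := isConj_iff.2 ⟨x, e⟩
  have a3 : IsConj (Ψ z8) (Ψ v8) := isConj_iff.2 ⟨Ψ x8, by
    rw [← map_inv, ← map_mul, ← map_mul, show x8 * z8 * x8⁻¹ = v8 by decide +kernel]⟩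
  exact h.ts.trans (a1.symm.trans (a2.symm.trans a3.symm))

theorem sq_b (h : Eight t c x Ψ) : Ψ s8 * x * c * (Ψ s8 * x * c) = t := by
  have hsc : Commute c (Ψ s8) := cev h.toEi (by decide +kernel)
  have hzc : Commute c (Ψ z8) := cev h.toEi (by decide +kernel)
  have h4 : Ψ s8 * Ψ z8 * Ψ s8 * Ψ z8 = 1 := by
    rw [← map_mul, ← map_mul, ← map_mul, show s8 * z8 * s8 * z8 = 1 by decide +kernel, map_one]
  calc Ψ s8 * x * c * (Ψ s8 * x * c)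
      = Ψ s8 * (x * c * x⁻¹) * (x * Ψ s8 * x⁻¹) * (x * x) * c := by group
    _ = (Ψ s8 * c) * Ψ z8 * Ψ s8 * (t * Ψ z8) * c := by rw [h.xc, h.xs, h.xx]; group
    _ = c * (Ψ s8 * Ψ z8 * Ψ s8 * Ψ z8) * (t * c) := by rw [← hsc.eq, ← h.Ψt]; group
    _ = t := by rw [h4, mul_one, ← h.ct, ← mul_assoc, h.cc, one_mul]

end B4

open B4 in
theorem Eight.xv (h : Eight t c x Ψ) : x * Ψ v8 = Ψ v8 * x := by
  have hE := h.toEi
  have hvz : Commute (Ψ v8) (Ψ z8) := by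
    change _ = _
    rw [← map_mul, ← map_mul, show v8 * z8 = z8 * v8 by decide +kernel]
  have gt : Commute (x * Ψ v8 * x⁻¹) t :=
    comm_cj (tall hE v8).symm (by rw [h.xt, mul_inv_cancel_right])
  have gz : Commute (x * Ψ v8 * x⁻¹) (Ψ z8) := comm_cj hvz (by rw [h.xz, mul_inv_cancel_right])
  have gcz : Commute (x * Ψ v8 * x⁻¹) (c * Ψ z8) :=
    comm_cj (cev hE (p := v8) (by decide +kernel)).symm h.xc
  have gc : Commute (x * Ψ v8 * x⁻¹) c := by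
    have := gcz.mul_right gz.inv_right
    rwa [mul_inv_cancel_right] at this
  obtain ⟨u, p, e, uu, uc, ut, ua, hu⟩ :=
    nf hE gt.eq (Or.inl (by rw [gc.eq, mul_inv_cancel_right]))
  have hp : p ∈ alt 8 := by
    by_contra hp
    rw [e] at gc
    have h1 := uc.inv_left.mul_left gc
    rw [inv_mul_cancel_left] at h1
    have h2 := h.od p hp
    rw [h1.eq, mul_inv_cancel_right] at h2
    exact ne_ct hE h2
  have hpp : p * p = 1 := by
    apply inj hE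
    have h1 : x * Ψ v8 * x⁻¹ * (x * Ψ v8 * x⁻¹) = 1 := by
      calc x * Ψ v8 * x⁻¹ * (x * Ψ v8 * x⁻¹) = x * (Ψ v8 * Ψ v8) * x⁻¹ := by group
        _ = 1 := by rw [← map_mul, show v8 * v8 = 1 by decide +kernel, map_one]; group
    rw [e, mmc (ua p hp), uu, one_mul] at h1
    rw [map_mul, h1, map_one]
  have hpz : p * z8 = z8 * p := by
    apply inj hE
    rw [e] at gz
    have h1 := (ua z8 (by decide +kernel)).inv_left.mul_left gz
    rw [inv_mul_cancel_left] at h1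
    rw [map_mul, map_mul, h1.eq]
  have hy : y8 ∈ alt 8 := by decide +kernel
  have h3 : u * Ψ (p * (y8 * p * y8⁻¹) * (y8 * (y8 * p * y8⁻¹) * y8⁻¹)) = 1 := by
    have a0 : Ψ v8 * (Ψ y8 * Ψ v8 * (Ψ y8)⁻¹) * (Ψ y8 * (Ψ y8 * Ψ v8 * (Ψ y8)⁻¹) * (Ψ y8)⁻¹) = 1 := by
      simp only [← map_mul, ← map_inv]
      rw [show v8 * (y8 * v8 * y8⁻¹) * (y8 * (y8 * v8 * y8⁻¹) * y8⁻¹) = 1 by decide +kernel, map_one]
    have a1 : ∀ g : G, x * (Ψ y8 * g * (Ψ y8)⁻¹) * x⁻¹ = Ψ y8 * (x * g * x⁻¹) * (Ψ y8)⁻¹ := fun g => by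
      calc x * (Ψ y8 * g * (Ψ y8)⁻¹) * x⁻¹ = (x * Ψ y8) * g * (x * Ψ y8)⁻¹ := by group
        _ = _ := by rw [h.xy]; group
    have a2 : ∀ q : PG 8, Ψ y8 * (u * Ψ q) * (Ψ y8)⁻¹ = u * Ψ (y8 * q * y8⁻¹) := fun q => by
      rw [← mul_assoc, ← (ua _ hy).eq, map_mul, map_mul, map_inv]; group
    have a3 : x * (Ψ v8 * (Ψ y8 * Ψ v8 * (Ψ y8)⁻¹) * (Ψ y8 * (Ψ y8 * Ψ v8 * (Ψ y8)⁻¹) * (Ψ y8)⁻¹)) *
        x⁻¹ = (x * Ψ v8 * x⁻¹) * (x * (Ψ y8 * Ψ v8 * (Ψ y8)⁻¹) * x⁻¹) *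
          (x * (Ψ y8 * (Ψ y8 * Ψ v8 * (Ψ y8)⁻¹) * (Ψ y8)⁻¹) * x⁻¹) := by group
    rw [a0, a1, a1, a1, e, a2, a2] at a3
    have hq : y8 * p * y8⁻¹ ∈ alt 8 := (inferInstance : (alt 8).Normal).conj_mem p hp _
    generalize y8 * (y8 * p * y8⁻¹) * y8⁻¹ = p2 at a3 ⊢
    generalize y8 * p * y8⁻¹ = p1 at a3 hq ⊢
    rw [mmc (ua p hp), uu, one_mul, ← map_mul, ← mul_assoc,
      ← (ua _ (mul_mem hp hq)).eq, mul_assoc u, ← map_mul] at a3
    rw [← a3]; group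
  have h4 : p * (y8 * p * y8⁻¹) * (y8 * (y8 * p * y8⁻¹) * y8⁻¹) = 1 := by
    apply h.ker
    rw [eq_inv_of_mul_eq_one_right h3, inv_eq_of_mul_eq_one_right uu]
    exact hu
  rw [h4, map_one, mul_one] at h3
  rw [h3, one_mul] at e
  have hxy : Commute x (Ψ y8) := h.xy
  rcases f1 hpz hpp hp h4 with a | a | a | a | a | a | a | a | a | a
  · rw [a, map_one, mul_inv_eq_one, mul_eq_left, ← map_one Ψ] at e
    exact absurd (inj hE e) (by decide +kernel)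
  · rw [a] at e
    exact mul_inv_eq_iff_eq_mul.1 e
  · rw [a, show w8 = y8 * v8 * y8⁻¹ by decide +kernel] at e
    exact absurd (first h e hxy) (by decide +kernel)
  · rw [a, show v8 * w8 = y8 * y8 * v8 * (y8 * y8)⁻¹ by decide +kernel] at e
    exact absurd (first h e (by rw [map_mul]; exact hxy.mul_right hxy)) (by decide +kernel)
  · exact (second h e (by decide +kernel) a (by decide +kernel) (by decide +kernel)).elim
  · exact (second h e (by decide +kernel) a (by decide +kernel) (by decide +kernel)).elim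
  · exact (second h e (by decide +kernel) a (by decide +kernel) (by decide +kernel)).elim
  · exact (third h e a).elim
  · exact (third h e a).elim
  · exact (third h e a).elim

theorem B4.mem_zp (h : Ei t c Ψ) {g : G} : g ∈ zpowers t ↔ g = 1 ∨ g = t := by
  constructor
  · rintro ⟨n, rfl⟩
    have h2 : t ^ (2 : ℤ) = 1 := by rw [zpow_two, h.tt]
    rcases Int.even_or_odd' n with ⟨k, rfl | rfl⟩
    · left; change t ^ (2 * k) = 1; rw [zpow_mul, h2, one_zpow]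
    · right; change t ^ (2 * k + 1) = t; rw [zpow_add, zpow_mul, h2, one_zpow, one_mul, zpow_one]
  · rintro (rfl | rfl)
    · exact one_mem _
    · exact mem_zpowers _

open B4 in
theorem Eight.exists_bar (h : Eight t c x Ψ) : ∃ (X : Type u) (_ : Group X) (_ : Finite X)
    (f : Cx t →* X) (ψ : PG 8 →* X), Function.Surjective f ∧ (∀ g, f g = 1 ↔ (g : G) ∈ zpowers t) ∧
      (∀ p, ψ p = f ⟨Ψ p, mem_Cx.2 (h.Ψt p)⟩) ∧
      Bar (f ⟨c, mem_Cx.2 h.ct⟩) (f ⟨x, mem_Cx.2 h.xt⟩) ψ := by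
  have hE := h.toEi
  have hn : Cx t ≤ normalizer (zpowers t : Set G) := fun g hg => by
    have hg' : g * t = t * g := mem_Cx.1 hg
    refine mem_normalizer_iff.2 fun a => ?_
    rw [mem_zp hE, mem_zp hE]
    constructor
    · rintro (rfl | rfl)
      · left; group
      · right; rw [hg', mul_inv_cancel_right]
    · rintro (e | e)
      · left
        rwa [mul_inv_eq_one, mul_eq_left] at e
      · right
        rw [mul_inv_eq_iff_eq_mul, ← hg'] at e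
        exact mul_left_cancel e
  obtain ⟨X, iX, fX, f, hf, hk⟩ := exists_quo hn
  let Ψ' : PG 8 →* Cx t := Ψ.codRestrict _ fun p => mem_Cx.2 (h.Ψt p)
  let c' : Cx t := ⟨c, mem_Cx.2 h.ct⟩
  let x' : Cx t := ⟨x, mem_Cx.2 h.xt⟩
  have lift : ∀ a b : Cx t, f a = f b ↔ (a : G) = b ∨ (a : G) = b * t := fun a b => by
    rw [← inv_mul_eq_one, ← map_inv, ← map_mul, hk, mem_zp hE, coe_mul, coe_inv, inv_mul_eq_one,
      inv_mul_eq_iff_eq_mul]
    have hb : (b : G) * t * t = b := by rw [mul_assoc, h.tt, mul_one]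
    have ha : (a : G) * t * t = a := by rw [mul_assoc, h.tt, mul_one]
    exact or_congr Iff.rfl ⟨fun e => by rw [e, ha], fun e => by rw [e, hb]⟩
  have tct : IsConj t (c * t) :=
    h.tc.trans (isConj_iff.2 ⟨Ψ e8, h.od _ (by decide +kernel)⟩)
  have cj : ∀ a : Cx t, IsConj (f c') (f a) → IsConj t (a : G) ∧ IsConj t ((a : G) * t) := by
    intro a ha
    obtain ⟨g, hg⟩ := isConj_iff.1 ha
    obtain ⟨g, rfl⟩ := hf g
    rw [← map_inv, ← map_mul, ← map_mul, lift] at hg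
    have hgt : (g : G) * t * (g : G)⁻¹ = t := mem_Cx'.1 g.2
    have e1 : (g : G) * (c * t) * (g : G)⁻¹ = g * c * (g : G)⁻¹ * t := by
      calc (g : G) * (c * t) * (g : G)⁻¹ = g * c * (g : G)⁻¹ * (g * t * (g : G)⁻¹) := by group
        _ = _ := by rw [hgt]
    rcases hg with e | e
    · change (g : G) * c * (g : G)⁻¹ = a at e
      exact ⟨h.tc.trans (isConj_iff.2 ⟨g, e⟩), tct.trans (isConj_iff.2 ⟨g, by rw [e1, e]⟩)⟩
    · change (g : G) * c * (g : G)⁻¹ = a * t at e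
      exact ⟨tct.trans (isConj_iff.2 ⟨g, by rw [e1, e, mul_assoc, h.tt, mul_one]⟩),
        h.tc.trans (isConj_iff.2 ⟨g, e⟩)⟩
  have toc : ∀ g : Cx t, (g : G) * c * (g : G)⁻¹ = c ∨ (g : G) * c * (g : G)⁻¹ = c * t ↔
      f g * f c' = f c' * f g := fun g => by
    rw [← mul_inv_eq_iff_eq_mul (a := f g * f c'), ← map_inv, ← map_mul, ← map_mul, lift]
    rfl
  have eqf : ∀ a b : Cx t, (a : G) = b → f a = f b := fun a b e => (lift a b).2 (Or.inl e)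
  refine ⟨X, iX, fX, f, f.comp Ψ', hf, hk, fun p => rfl, ?_⟩
  change Bar (f c') (f x') (f.comp Ψ')
  constructor
  · rw [← map_mul, ← map_one f]; exact eqf _ _ h.cc
  · rw [Ne, hk, mem_zp hE]
    rintro (e | e)
    · exact h.c1 e
    · exact h.cnt e
  · intro p
    refine (toc (Ψ' p)).1 ?_
    by_cases hp : p ∈ alt 8
    · exact Or.inl (h.ev p hp)
    · exact Or.inr (h.od p hp)
  · rintro p (e | e)
    · rcases (mem_zp hE).1 ((hk (Ψ' p)).1 e) with e | e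
      · exact h.ker p (Or.inl e)
      · exact h.ker p (Or.inr (Or.inl e))
    · rcases (lift (Ψ' p) c').1 e with e | e
      · exact h.ker p (Or.inr (Or.inr (Or.inl e)))
      · exact h.ker p (Or.inr (Or.inr (Or.inr e)))
  · intro g hg
    obtain ⟨g, rfl⟩ := hf g
    obtain ⟨p, e | e | e | e⟩ := h.nrm g (mem_Cx.1 g.2) ((toc g).2 hg)
    · exact ⟨p, Or.inl (eqf g (Ψ' p) e)⟩
    · exact ⟨p, Or.inl ((lift g (Ψ' p)).2 (Or.inr (e.trans (h.Ψt p).symm)))⟩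
    · exact ⟨p, Or.inr ((eqf g (c' * Ψ' p) e).trans (map_mul f _ _))⟩
    · refine ⟨p, Or.inr (((lift g (c' * Ψ' p)).2 (Or.inr (e.trans ?_))).trans (map_mul f _ _))⟩
      change c * t * Ψ p = c * Ψ p * t
      rw [mul_assoc, mul_assoc, h.Ψt]
  · rw [← map_mul, ← map_one f]; exact eqf _ _ h.xx
  · rw [MonoidHom.comp_apply, ← map_inv, ← map_mul, ← map_mul, ← map_mul]; exact eqf _ _ h.xc
  · rw [MonoidHom.comp_apply, ← map_mul, ← map_mul]; exact eqf _ _ h.xz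
  · rw [MonoidHom.comp_apply, ← map_mul, ← map_mul]; exact eqf _ _ h.xv
  · rw [MonoidHom.comp_apply, ← map_mul, ← map_mul]; exact eqf _ _ h.xy
  · rw [MonoidHom.comp_apply, MonoidHom.comp_apply, ← map_inv, ← map_mul, ← map_mul, ← map_mul, lift]
    right
    change x * Ψ s8 * x⁻¹ = Ψ s8 * Ψ z8 * t
    rw [h.xs, mul_assoc, mul_assoc, h.Ψt]
  · exact fun e => h.nz (cj (Ψ' z8) e).1
  · exact fun e => h.nts (by rw [← h.Ψt]; exact (cj (Ψ' s8) e).2)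
  · exact fun e => h.nx (cj x' e).1
  · intro e
    rw [MonoidHom.comp_apply, ← map_mul, ← map_mul] at e
    obtain ⟨g, hg⟩ := isConj_iff.1 (cj _ e).1
    change g * t * g⁻¹ = Ψ s8 * x * c at hg
    apply h.t1
    rw [← sq_b h, ← hg]
    calc g * t * g⁻¹ * (g * t * g⁻¹) = g * (t * t) * g⁻¹ := by group
      _ = 1 := by rw [h.tt]; group
  · intro g hg
    obtain ⟨g, rfl⟩ := hf g
    refine (toc g).1 (h.odd g (mem_Cx.1 g.2) ?_)
    rw [MonoidHom.comp_apply, ← mul_inv_eq_iff_eq_mul, ← map_inv, ← map_mul, ← map_mul, lift] at hg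
    rcases hg with e | e
    · exact mul_inv_eq_iff_eq_mul.1 e
    · exfalso
      change (g : G) * Ψ a8 * (g : G)⁻¹ = Ψ a8 * t at e
      have h3 : Ψ a8 ^ 3 = 1 := by rw [← map_pow, show a8 ^ 3 = 1 by decide +kernel, map_one]
      have h4 := congrArg (· ^ 3) e
      simp only [conj_pow, h3, (tall hE a8).symm.mul_pow, mul_one, one_mul, mul_inv_cancel] at h4
      rw [pow_three, h.tt, mul_one] at h4
      exact h.t1 h4.symm

end CfsgLib.HN3
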