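import Cfsg.Agent.Lib.HN3.Defs
import Cfsg.Agent.Lib.W2.HSAct

/-! The 3-local characterisation of the Harada–Norton group (plans/HN3.md), package C1. -/

set_option autoImplicit false
set_option linter.unusedSectionVars false
set_option synthInstance.maxSize 100000

namespace CfsgLib.HN3

open Subgroup Cfsg CfsgLib.Tech CfsgLib.W2 CfsgLib.Rec3 PG

variable {X : Type*} [Group X] [Finite X] {c x : X} {ψ : PG 8 →* X}

/-- the subgroup `4³` -/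
structure BB (c x : X) (ψ : PG 8 →* X) (β : HS.MZ →* X) : Prop where
  inj : Function.Injective β
  bc : β (HS.o 1 0 0) = x * c
  bz : β (HS.o 2 0 0) = ψ z8
  bv : β (HS.o 0 2 0) = ψ v8
  bw : β (HS.o 0 0 2) = ψ w8
  ac : HS.Act β c fun u => u⁻¹
  ap : HS.Act β (ψ p8) HS.fp
  aq : HS.Act β (ψ q8) HS.fq
  ay : HS.Act β (ψ y8) HS.fy
  as : HS.Act β (ψ s8) HS.fs
  ax : HS.Act β (ψ x8) HS.fx

open HS (MZ o lin fx fy fp fq fs Act cj_of_comm comm_of_cj)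

namespace C1

/-- coordinates on the regular elementary abelian subgroup -/
noncomputable def g8 : MZ →* PG 8 := HS.bh z8 v8 w8 (by decide +kernel) (by decide +kernel) (by decide +kernel)
  (by decide +kernel : z8 * v8 = v8 * z8) (by decide +kernel : z8 * w8 = w8 * z8) (by decide +kernel : v8 * w8 = w8 * v8)

theorem g8_eq_one : ∀ a : MZ, g8 a = 1 ↔ a * a = 1 := by decide +kernel

theorem g8_x : Act g8 x8 fx := (by decide +kernel : ∀ a, x8 * g8 a * x8⁻¹ = g8 (fx a))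

theorem g8_y : Act g8 y8 fy := (by decide +kernel : ∀ a, y8 * g8 a * y8⁻¹ = g8 (fy a))

def V8 : List MZ := [o 0 0 0, o 1 0 0, o 0 1 0, o 1 1 0, o 0 0 1, o 1 0 1, o 0 1 1, o 1 1 1]

theorem cen_g8 {p : PG 8} (h1 : p * z8 = z8 * p) (h2 : p * v8 = v8 * p) (h3 : p * w8 = w8 * p) :
    ∃ b ∈ V8, p = g8 b :=
  pg_conj [(z8, z8), (v8, v8), (w8, w8)] (P := fun p => ∃ b ∈ V8, p = g8 b) (by decide +kernel) (by simp [h1, h2, h3])

def LN (e₁ e₂ e₃ : MZ × MZ) (h : MZ → MZ) (n : MZ × MZ) : MZ × MZ :=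
  e₁ ^ n.1.toAdd.1.val * e₂ ^ n.1.toAdd.2.1.val * e₃ ^ n.1.toAdd.2.2.val * (1, h n.2)

def FT (m n : MZ) : MZ × MZ → MZ × MZ := LN (o 0 1 0, 1) (o 3 3 0, m) (o 0 0 1, n) fx

def FY (m : MZ) : MZ × MZ → MZ × MZ := LN (o 1 0 0, 1) (o 0 0 1, 1) (o 0 3 3, m) fy

def KK (ε : ℕ) (n n' : MZ × MZ) : Prop :=
  (n * n'⁻¹).1 * (n * n'⁻¹).1 = 1 ∧ (n * n'⁻¹).1 ^ ε * ((n * n'⁻¹).2 * (n * n'⁻¹).2) = 1

instance (ε : ℕ) (n n' : MZ × MZ) : Decidable (KK ε n n') := inferInstanceAs (Decidable (_ ∧ _))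

theorem solve : ∀ ε ∈ [0, 1], ∀ m ∈ V8, ∀ n ∈ V8,
    KK ε ((FT m n ∘ FT m n ∘ FT m n) (o 1 0 0, 1)) (o 1 0 0, 1) →
    KK ε ((FT m n ∘ FT m n ∘ FT m n) (o 0 0 1, 1)) (o 0 0 1, 1) → ∀ k ∈ V8,
    KK ε ((FY k ∘ FY k ∘ FY k) (o 0 1 0, 1)) (o 0 1 0, 1) →
    KK ε ((FT m n ∘ FT m n ∘ FY k ∘ FT m n ∘ FY k ∘ FT m n ∘ FT m n) (o 1 0 0, 1)) (o 1 0 0, o 1 0 0) →
    KK ε ((FT m n ∘ FY k ∘ FT m n ∘ FY k ∘ FT m n ∘ FY k ∘ FT m n) (o 1 0 0, 1)) (o 1 0 0, 1) →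
    KK ε ((FT m n ∘ FY k ∘ FT m n ∘ FT m n ∘ FY k ∘ FT m n ∘ FY k) (o 1 0 0, 1))
      ((FY k ∘ FT m n ∘ FY k ∘ FT m n ∘ FT m n ∘ FY k ∘ FY k ∘ FT m n) (o 1 0 0, 1)) →
    ε = 1 ∧ m = o 0 0 1 ∧ n = o 0 0 0 ∧ k = o 1 0 0 := by decide +kernel

theorem wq : ∀ a, (fy ∘ fy ∘ fx ∘ fy ∘ fx ∘ fy ∘ fy ∘ fx) a = fq a := by decide +kernel
theorem wp : ∀ a, (fy ∘ fy ∘ fq ∘ fy) a = fp a := by decide +kernel
theorem ws : ∀ a, (fx ∘ fp ∘ fx ∘ fx) a = fs a := by decide +kernel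


/-- coordinates on `V` -/
noncomputable def γ (ψ : PG 8 →* X) : MZ →* X := ψ.comp g8

theorem γ_sq (a : MZ) : γ ψ (a * a) = 1 := by
  rw [γ, MonoidHom.comp_apply, (g8_eq_one _).2 ((by decide +kernel : ∀ a : MZ, a * a * (a * a) = 1) a), map_one]

theorem γ_eq {a b : MZ} (e : a * a = b * b := by decide +kernel) : γ ψ a = γ ψ b := by
  rw [← mul_inv_eq_one, ← map_inv, ← map_mul, γ, MonoidHom.comp_apply, (g8_eq_one _).2, map_one]
  rw [mul_mul_mul_comm, e, ← mul_inv, mul_inv_cancel]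

theorem γ_z : γ ψ (o 1 0 0) = ψ z8 := congrArg ψ (by decide +kernel : g8 (o 1 0 0) = z8)
theorem γ_v : γ ψ (o 0 1 0) = ψ v8 := congrArg ψ (by decide +kernel : g8 (o 0 1 0) = v8)
theorem γ_w : γ ψ (o 0 0 1) = ψ w8 := congrArg ψ (by decide +kernel : g8 (o 0 0 1) = w8)

theorem act_γ {l : PG 8} {f : MZ → MZ} (h : Act g8 l f) : Act (γ ψ) (ψ l) f := fun a => by
  rw [γ, MonoidHom.comp_apply, MonoidHom.comp_apply, ← h, map_mul, map_mul, map_inv]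

/-- `g` centralises `V` and moves `c` by `u` -/
def Dv (c : X) (ψ : PG 8 →* X) (g : X) (u : MZ) : Prop :=
  (∀ b, g * γ ψ b = γ ψ b * g) ∧ g * c * g⁻¹ = c * γ ψ u

theorem Dv.mul {g g' : X} {u u' : MZ} (h : Dv c ψ g u) (h' : Dv c ψ g' u') : Dv c ψ (g * g') (u * u') :=
  ⟨fun b => by rw [mul_assoc, h'.1, ← mul_assoc, h.1, mul_assoc], by
    calc _ = g * (g' * c * g'⁻¹) * g⁻¹ := by group
      _ = g * c * g⁻¹ * (g * γ ψ u' * g⁻¹) := by rw [h'.2]; group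
      _ = _ := by rw [h.2, cj_of_comm (h.1 u'), map_mul, mul_assoc]⟩

theorem Dv.inv {g : X} {u : MZ} (h : Dv c ψ g u) : Dv c ψ g⁻¹ u⁻¹ :=
  ⟨fun b => (Commute.inv_left (h.1 b)).eq, by
    rw [map_inv, eq_mul_inv_iff_mul_eq, inv_inv, mul_assoc, h.1, ← mul_assoc, mul_assoc _ c, ← h.2]; group⟩

theorem Dv.pow {g : X} {u : MZ} (h : Dv c ψ g u) : ∀ n : ℕ, Dv c ψ (g ^ n) (u ^ n)
  | 0 => ⟨fun b => by simp, by simp⟩
  | n + 1 => by rw [pow_succ, pow_succ]; exact (h.pow n).mul h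

theorem Dv.congr {g : X} {u u' : MZ} (h : Dv c ψ g u) (e : u * u = u' * u' := by decide +kernel) : Dv c ψ g u' :=
  ⟨h.1, by rw [h.2, γ_eq e]⟩

variable (h : Bar c x ψ)
include h

theorem γ_eq_one {a : MZ} (e : γ ψ a = 1) : a * a = 1 := (g8_eq_one a).1 (h.ker _ (Or.inl e))

theorem dv_c : Dv c ψ c 1 := ⟨fun b => (h.cm _).symm, by simp⟩

theorem dv_γ (a : MZ) : Dv c ψ (γ ψ a) 1 :=
  ⟨HS.βc _ a, by rw [map_one, mul_one]; exact cj_of_comm (h.cm _)⟩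

theorem Dv.conj {g : X} {u : MZ} {l : PG 8} {f : MZ → MZ} (hg : Dv c ψ g u) (hl : Act g8 l f)
    (e : ∀ a, f ((f ∘ f) a) = a) : Dv c ψ (ψ l * g * (ψ l)⁻¹) (f u) :=
  ⟨fun b => by
    rw [← e b, ← act_γ hl, conj_mul, conj_mul, hg.1], by
    rw [← act_γ hl]
    conv_lhs => rw [← cj_of_comm (h.cm l)]
    conv_rhs => rw [← cj_of_comm (h.cm l), conj_mul, ← hg.2]
    group⟩

theorem Dv.mem {g : X} {u : MZ} (hg : Dv c ψ g u) (e : u * u = 1) : ∃ b ∈ V8, g = γ ψ b ∨ g = c * γ ψ b := by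
  have h1 : g * c = c * g := comm_of_cj (by rw [hg.2, γ_eq (b := 1) (by rw [e, mul_one]), map_one, mul_one])
  obtain ⟨p, hp⟩ := h.cen g h1
  have hi : Function.Injective ψ := (injective_iff_map_eq_one _).2 fun p hp => h.ker p (Or.inl hp)
  have key : ∀ b, p * g8 b = g8 b * p := fun b => hi (by
    rw [map_mul, map_mul]
    have := hg.1 b
    rcases hp with rfl | rfl
    · exact this
    · rw [mul_assoc, ← mul_assoc (γ ψ b), ← (dv_c h).1, mul_assoc] at this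
      exact mul_left_cancel this)
  obtain ⟨b, hb, rfl⟩ := cen_g8 (p := p) (by simpa only [(by decide +kernel : g8 (o 1 0 0) = z8)] using key (o 1 0 0))
    (by simpa only [(by decide +kernel : g8 (o 0 1 0) = v8)] using key (o 0 1 0))
    (by simpa only [(by decide +kernel : g8 (o 0 0 1) = w8)] using key (o 0 0 1))
  exact ⟨b, hb, hp⟩

/-- the type lemma -/
theorem Dv.type {g g' : X} {u : MZ} (hg : Dv c ψ g u) (hg' : Dv c ψ g' u) (e : g' * g' = g * g) (hu : u * u ≠ 1) :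
    ∃ b ∈ V8, g' = g * γ ψ b := by
  obtain ⟨b, hb, e1 | e1⟩ := (hg.inv.mul hg').mem h (by simp)
  · exact ⟨b, hb, inv_mul_eq_iff_eq_mul.1 e1⟩
  · refine absurd (γ_eq_one h ?_) hu
    have e2 : g' * g' = g * g * γ ψ u⁻¹ := by
      calc _ = g * (c * (γ ψ b * g) * (c * γ ψ b)) := by rw [inv_mul_eq_iff_eq_mul.1 e1]; group
        _ = g * g * (g⁻¹ * c * g⁻¹⁻¹) * (γ ψ b * c * γ ψ b) := by rw [← hg.1]; group
        _ = g * g * (c * (γ ψ u⁻¹ * c) * γ ψ (b * b)) := by rw [hg.inv.2, ← (dv_c h).1, map_mul]; group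
        _ = _ := by rw [γ_sq, mul_one, ← (dv_c h).1, ← mul_assoc c, h.cc, one_mul]
    rw [e, left_eq_mul, map_inv, inv_eq_one] at e2
    exact e2

theorem dv_x : Dv c ψ x (o 1 0 0) := by
  refine ⟨fun b => comm_of_cj ?_, by rw [h.xc, γ_z]⟩
  have xw : x * ψ w8 = ψ w8 * x := by
    rw [(by decide +kernel : w8 = y8 * v8 * y8⁻¹), map_mul, map_mul, map_inv]
    exact ((Commute.mul_right h.xy h.xv).mul_right (Commute.inv_right h.xy)).eq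
  have := Act.of (β := γ ψ) (m := x) (by rw [γ_z]; exact cj_of_comm h.xz) (by rw [γ_v]; exact cj_of_comm h.xv)
    (by rw [γ_w]; exact cj_of_comm xw) b
  rwa [HS.lin_id] at this

/-- the generator of `4³` (or of `2⁶` over `V`) -/
structure JJ (c : X) (ψ : PG 8 →* X) (j : X) (ε : ℕ) : Prop where
  dv : Dv c ψ j (o 1 0 0)
  sq : j * j = γ ψ (o 1 0 0 ^ ε)
  yj : ψ y8 * j * (ψ y8)⁻¹ = j
  sj : ψ s8 * j * (ψ s8)⁻¹ = j * γ ψ (o 1 0 0)
  tri : ∃ m ∈ V8, j * (ψ x8 * j * (ψ x8)⁻¹) * (ψ x8 * (ψ x8 * j * (ψ x8)⁻¹) * (ψ x8)⁻¹) = γ ψ m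

omit h in
theorem fx3 : ∀ a, fx ((fx ∘ fx) a) = a := by decide +kernel

omit h in
theorem fy3 : ∀ a, fy ((fy ∘ fy) a) = a := by decide +kernel

omit h in
theorem V8_ex : ∀ a : MZ, ∃ b ∈ V8, a * a = b * b := by decide +kernel

theorem exists_jj : JJ c ψ x 0 ∨ JJ c ψ (x * c) 1 := by
  have d0 := dv_x h
  have da := d0.conj h g8_x fx3
  have dc := da.conj h g8_x fx3
  have sx : ψ s8 * x * (ψ s8)⁻¹ = x * γ ψ (o 1 0 0) := by
    have ss : ψ s8 * ψ s8 = 1 := by rw [← map_mul, (by decide +kernel : s8 * s8 = 1), map_one]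
    rw [γ_z, h.xz, ← eq_inv_of_mul_eq_one_left ss, mul_assoc, mul_inv_eq_iff_eq_mul.1 h.xs, ← mul_assoc, ← mul_assoc, ss,
      one_mul]
  have yx : ψ y8 * x * (ψ y8)⁻¹ = x := cj_of_comm h.xy.symm
  obtain ⟨b, hb, e | e⟩ := ((d0.mul da).mul dc).mem h (by decide +kernel)
  · exact Or.inl ⟨d0, by rw [h.xx, pow_zero, map_one], yx, sx, b, hb, e⟩
  · refine Or.inr ⟨(d0.mul (dv_c h)).congr, ?_, by rw [← conj_mul, yx, cj_of_comm (h.cm _)],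
      by rw [← conj_mul, sx, cj_of_comm (h.cm _), mul_assoc, mul_assoc, (dv_c h).1], ?_⟩
    · calc _ = x * c * x⁻¹ * c := by rw [← eq_inv_of_mul_eq_one_left h.xx]; group
        _ = _ := by rw [h.xc, pow_one, γ_z, mul_assoc, h.cm, ← mul_assoc, h.cc, one_mul]
    · obtain ⟨m, hm, em⟩ := V8_ex (b * (fx (o 1 0 0))⁻¹)
      refine ⟨m, hm, ?_⟩
      rw [← γ_eq em, ← conj_mul (a := x), cj_of_comm (h.cm _), ← conj_mul (c := c), cj_of_comm (h.cm _)]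
      generalize ψ x8 * (ψ x8 * x * (ψ x8)⁻¹) * (ψ x8)⁻¹ = xc at dc e
      generalize ψ x8 * x * (ψ x8)⁻¹ = xa at da e
      calc _ = x * xa * (xa⁻¹ * c * xa⁻¹⁻¹) * c * xc * c := by group
        _ = x * xa * (c * (γ ψ (fx (o 1 0 0))⁻¹ * c)) * xc * c := by rw [da.inv.2]; group
        _ = x * xa * (γ ψ (fx (o 1 0 0))⁻¹ * xc) * c := by rw [← (dv_c h).1, ← mul_assoc c, h.cc, one_mul]; group
        _ = c * (γ ψ b * γ ψ (fx (o 1 0 0))⁻¹ * c) := by rw [← dc.1, ← mul_assoc, e]; group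
        _ = _ := by rw [← map_mul, ← (dv_c h).1, ← mul_assoc, h.cc, one_mul]

omit h in
theorem hom_ext {β β' : MZ →* X} (h1 : β (o 1 0 0) = β' (o 1 0 0)) (h2 : β (o 0 1 0) = β' (o 0 1 0))
    (h3 : β (o 0 0 1) = β' (o 0 0 1)) (a : MZ) : β a = β' a := by
  rw [← HS.lin_id a, HS.map_lin, HS.map_lin, h1, h2, h3]

/-- conjugation by `m` induces `F` -/
def Ac (θ : MZ × MZ →* X) (m : X) (F : MZ × MZ → MZ × MZ) : Prop := ∀ n, m * θ n * m⁻¹ = θ (F n)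

omit h in
theorem Ac.mul {θ : MZ × MZ →* X} {m m' : X} {F F' : MZ × MZ → MZ × MZ} (h : Ac θ m F) (h' : Ac θ m' F') :
    Ac θ (m * m') (F ∘ F') := fun n => by
  rw [Function.comp, ← h, ← h']; group

omit h in
theorem Ac.of {θ : MZ × MZ →* X} {m : X} {e₁ e₂ e₃ : MZ × MZ} {f : MZ → MZ}
    (h1 : m * θ (o 1 0 0, 1) * m⁻¹ = θ e₁) (h2 : m * θ (o 0 1 0, 1) * m⁻¹ = θ e₂)
    (h3 : m * θ (o 0 0 1, 1) * m⁻¹ = θ e₃) (h4 : ∀ b, m * θ (1, b) * m⁻¹ = θ (1, f b)) :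
    Ac θ m (LN e₁ e₂ e₃ f) := fun n => by
  have e : n = LN (o 1 0 0, 1) (o 0 1 0, 1) (o 0 0 1, 1) id n :=
    Prod.ext (by simpa [LN, lin] using (HS.lin_id n.1).symm) (by simp [LN])
  conv_lhs => rw [e]
  simp only [LN, map_mul, map_pow, ← h1, ← h2, ← h3, ← h4, conj_pow, id]
  group

/-- three commuting generators -/
structure J3 (c : X) (ψ : PG 8 →* X) (j ja jb : X) (ε : ℕ) (m n k : MZ) : Prop where
  ea : ψ x8 * j * (ψ x8)⁻¹ = ja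
  eb : ψ y8 * ja * (ψ y8)⁻¹ = jb
  ec : ψ x8 * ja * (ψ x8)⁻¹ = (j * ja)⁻¹ * γ ψ m
  en : ψ x8 * jb * (ψ x8)⁻¹ = jb * γ ψ n
  ek : ψ y8 * jb * (ψ y8)⁻¹ = (ja * jb)⁻¹ * γ ψ k
  da : Dv c ψ ja (o 0 1 0)
  db : Dv c ψ jb (o 0 0 1)
  sa : ja * ja = γ ψ (o 0 1 0 ^ ε)
  sb : jb * jb = γ ψ (o 0 0 1 ^ ε)
  ca : Commute j ja
  cb : Commute j jb
  ab : Commute ja jb

omit h in
theorem sq_conj {g : X} {u : MZ} {ε : ℕ} {l : PG 8} {f : MZ → MZ} (hl : Act g8 l f) (e : g * g = γ ψ (u ^ ε)) :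
    ψ l * g * (ψ l)⁻¹ * (ψ l * g * (ψ l)⁻¹) = γ ψ (f u ^ ε) := by
  rw [conj_mul, e, map_pow, ← conj_pow, act_γ hl, map_pow]

theorem JJ.j3 {j : X} {ε : ℕ} (hj : JJ c ψ j ε) (hε : ε ∈ [0, 1]) :
    ∃ ja jb, ∃ m ∈ V8, ∃ n ∈ V8, ∃ k ∈ V8, J3 c ψ j ja jb ε m n k := by
  obtain ⟨m, hm, tri⟩ := hj.tri
  have yj := hj.yj
  have d0 := hj.dv
  have s0 := hj.sq
  have da : Dv c ψ _ (o 0 1 0) := (d0.conj h g8_x fx3).congr
  have sa := sq_conj g8_x s0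
  rw [(by decide +kernel : fx (o 1 0 0) = o 0 1 0)] at sa
  obtain ⟨ja, ea⟩ : ∃ ja, ψ x8 * j * (ψ x8)⁻¹ = ja := ⟨_, rfl⟩
  rw [ea] at tri da sa
  have db : Dv c ψ _ (o 0 0 1) := (da.conj h g8_y fy3).congr
  have sb := sq_conj g8_y sa
  rw [(by decide +kernel : fy (o 0 1 0) = o 0 0 1)] at sb
  obtain ⟨jb, eb⟩ : ∃ jb, ψ y8 * ja * (ψ y8)⁻¹ = jb := ⟨_, rfl⟩
  rw [eb] at db sb
  have sc := sq_conj g8_x sa
  have ec : ψ x8 * ja * (ψ x8)⁻¹ = (j * ja)⁻¹ * γ ψ m := eq_inv_mul_of_mul_eq tri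
  have ca : Commute j ja := by
    have e1 : (j * ja)⁻¹ * (j * ja)⁻¹ = γ ψ (fx (o 0 1 0) ^ ε) := by
      rw [← sc, ec, mul_assoc, ← mul_assoc (γ ψ m), ← (d0.mul da).inv.1, mul_assoc, ← map_mul, γ_sq, mul_one]
    have e2 : j * ja * (j * ja) = j * j * (ja * ja) := by
      rw [s0, sa, ← map_mul, ← inv_inj, mul_inv_rev, e1, ← map_inv]
      exact γ_eq ((by decide +kernel : ∀ ε ∈ [0, 1], fx (o 0 1 0) ^ ε * fx (o 0 1 0) ^ ε =
        (o 1 0 0 ^ ε * o 0 1 0 ^ ε)⁻¹ * (o 1 0 0 ^ ε * o 0 1 0 ^ ε)⁻¹) ε hε)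
    rw [mul_assoc, mul_assoc, mul_right_inj, ← mul_assoc, ← mul_assoc, mul_left_inj] at e2
    exact e2.symm
  have cb : Commute j jb := by
    rw [← yj, ← eb, Commute, SemiconjBy, conj_mul, conj_mul, ca.eq]
  obtain ⟨n, hn, en⟩ := db.type h (db.conj h g8_x fx3).congr (by
    rw [sq_conj g8_x sb, sb, (by decide +kernel : fx (o 0 0 1) = o 0 0 1)]) (by decide +kernel)
  have ab : Commute ja jb := by
    have : Commute ja (jb * γ ψ n) := by rw [← ea, ← en, Commute, SemiconjBy, conj_mul, conj_mul, cb.eq]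
    simpa using this.mul_right (Commute.inv_right (da.1 n))
  obtain ⟨k, hk, ek⟩ := (da.mul db).inv.type h ((db.conj h g8_y fy3).congr) (by
    rw [sq_conj g8_y sb, ← mul_inv_rev, ab.symm.mul_mul_mul_comm, sa, sb, ← map_mul, ← map_inv]
    exact γ_eq ((by decide +kernel : ∀ ε ∈ [0, 1], fy (o 0 0 1) ^ ε * fy (o 0 0 1) ^ ε =
        (o 0 1 0 ^ ε * o 0 0 1 ^ ε)⁻¹ * (o 0 1 0 ^ ε * o 0 0 1 ^ ε)⁻¹) ε hε)) (by decide +kernel)
  exact ⟨ja, jb, m, hm, n, hn, k, hk, ea, eb, ec, en, ek, da, db, sa, sb, ca, cb, ab⟩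

theorem JJ.main {j : X} {ε : ℕ} (hj : JJ c ψ j ε) (hε : ε ∈ [0, 1]) :
    ε = 1 ∧ ∃ β : MZ →* X, β (o 1 0 0) = j ∧ β (o 0 1 0) = ψ x8 * j * (ψ x8)⁻¹ ∧
      β (o 0 0 1) = ψ y8 * β (o 0 1 0) * (ψ y8)⁻¹ ∧ Function.Injective β ∧ (∀ u, β (u * u) = γ ψ u) ∧
      Act β (ψ x8) fx ∧ Act β (ψ y8) fy := by
  obtain ⟨ja, jb, m, hm, n, hn, k, hk, ea, eb, ec, en, ek, da, db, sa, sb, ca, cb, ab⟩ := hj.j3 h hε
  have aT := act_γ (ψ := ψ) g8_x
  have aY := act_γ (ψ := ψ) g8_y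
  have yj := hj.yj
  have d0 := hj.dv
  have s0 := hj.sq
  rw [ea]
  have p4 : ∀ {g : X} {u : MZ}, g * g = γ ψ u → g ^ 4 = 1 := fun {g u} e => by
    rw [show g ^ 4 = g * g * (g * g) by simp only [pow_succ, pow_zero, one_mul, mul_assoc], e, ← map_mul, γ_sq]
  obtain ⟨β, b1, b2, b3⟩ := HS.exists_bh (p4 s0) (p4 sa) (p4 sb) ca cb ab
  have dβ : ∀ a, Dv c ψ (β a) a := fun a => by
    have := ((d0.pow a.toAdd.1.val).mul (da.pow a.toAdd.2.1.val)).mul (db.pow a.toAdd.2.2.val)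
    rw [← b1, ← b2, ← b3, ← HS.map_lin] at this
    change Dv c ψ (β (lin _ _ _ a)) (lin _ _ _ a) at this
    rwa [HS.lin_id] at this
  have hsq : ∀ u, β (u * u) = γ ψ (u ^ ε) := fun u => by
    have := hom_ext (β := β.comp (powMonoidHom 2)) (β' := (γ ψ).comp (powMonoidHom ε))
      (by simpa only [MonoidHom.comp_apply, powMonoidHom_apply, pow_two, map_mul, b1] using s0)
      (by simpa only [MonoidHom.comp_apply, powMonoidHom_apply, pow_two, map_mul, b2] using sa)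
      (by simpa only [MonoidHom.comp_apply, powMonoidHom_apply, pow_two, map_mul, b3] using sb) u
    simpa only [MonoidHom.comp_apply, powMonoidHom_apply, pow_two] using this
  let θ : MZ × MZ →* X := β.noncommCoprod (γ ψ) fun a b => (dβ a).1 b
  have hθ : ∀ a b, θ (a, b) = β a * γ ψ b := fun _ _ => rfl
  have hθ1 : ∀ a, θ (a, 1) = β a := fun a => by rw [hθ, map_one, mul_one]
  have hθ2 : ∀ a, θ (1, a) = γ ψ a := fun a => by rw [hθ, map_one, one_mul]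
  have kk : ∀ {a b : MZ × MZ}, θ a = θ b → KK ε a b := fun {a b} e => by
    rw [← mul_inv_eq_one, ← map_inv, ← map_mul] at e
    unfold KK
    generalize a * b⁻¹ = d at e ⊢
    obtain ⟨d1, d2⟩ := d
    have h1 := ((dβ d1).mul (dv_γ h d2)).2
    rw [← hθ, e, mul_one, one_mul, inv_one, mul_one, left_eq_mul] at h1
    have h2 := γ_eq_one h h1
    obtain ⟨u, rfl⟩ := (by decide +kernel : ∀ a : MZ, a * a = 1 → ∃ u, a = u * u) d1 h2
    rw [hθ, hsq, ← map_mul] at e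
    exact ⟨h2, by rw [mul_pow, mul_mul_mul_comm]; exact γ_eq_one h e⟩
  have e33 : β (o 3 3 0) = (j * ja)⁻¹ := by rw [← b1, ← b2, ← map_mul, ← map_inv]; exact HS.βd β
  have e33' : β (o 0 3 3) = (ja * jb)⁻¹ := by rw [← b2, ← b3, ← map_mul, ← map_inv]; exact HS.βd β
  have T : Ac θ (ψ x8) (FT m n) := Ac.of (by rw [hθ1, hθ1, b1, b2, ea]) (by rw [hθ1, hθ, b2, ec, e33])
    (by rw [hθ1, hθ, b3, en]) fun b => by rw [hθ2, hθ2, aT]
  have Y : Ac θ (ψ y8) (FY k) := Ac.of (by rw [hθ1, b1, yj]) (by rw [hθ1, hθ1, b2, b3, eb])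
    (by rw [hθ1, hθ, b3, ek, e33']) fun b => by rw [hθ2, hθ2, aY]
  have x3 : ψ x8 * (ψ x8 * ψ x8) = 1 := by
    simp only [← map_mul]; rw [(by decide +kernel : x8 * (x8 * x8) = 1), map_one]
  have y3 : ψ y8 * (ψ y8 * ψ y8) = 1 := by
    simp only [← map_mul]; rw [(by decide +kernel : y8 * (y8 * y8) = 1), map_one]
  obtain ⟨rfl, rfl, rfl, rfl⟩ := solve ε hε m hm n hn (kk (by rw [← T.mul (T.mul T), x3]; simp))
    (kk (by rw [← T.mul (T.mul T), x3]; simp)) k hk (kk (by rw [← Y.mul (Y.mul Y), y3]; simp))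
    (kk (by
      rw [← T.mul (T.mul (Y.mul (T.mul (Y.mul (T.mul T))))), hθ1, hθ, b1, ← hj.sj]
      simp only [← map_mul]
      rw [(by decide +kernel : x8 * (x8 * (y8 * (x8 * (y8 * (x8 * x8))))) = s8 * y8 * y8), map_mul, map_mul]
      conv_rhs => rw [← yj, ← yj]
      group))
    (kk (by
      rw [← T.mul (Y.mul (T.mul (Y.mul (T.mul (Y.mul T))))), hθ1, b1]
      simp only [← map_mul]
      rw [(by decide +kernel : x8 * (y8 * (x8 * (y8 * (x8 * (y8 * x8))))) = y8 * y8), map_mul]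
      conv_rhs => rw [← yj, ← yj]
      group))
    (kk (by
      rw [← T.mul (Y.mul (T.mul (T.mul (Y.mul (T.mul Y))))), ← Y.mul (T.mul (Y.mul (T.mul (T.mul (Y.mul (Y.mul T))))))]
      simp only [← map_mul]
      rw [(by decide +kernel : x8 * (y8 * (x8 * (x8 * (y8 * (x8 * y8))))) =
        y8 * (x8 * (y8 * (x8 * (x8 * (y8 * (y8 * x8)))))))]))
  simp only [pow_one] at hsq
  refine ⟨rfl, β, b1, b2, by rw [b2, b3, eb], (injective_iff_map_eq_one _).2 fun a ha => ?_, hsq, ?_, ?_⟩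
  · simpa using (kk (a := (a, 1)) (b := 1) (by rw [hθ1, ha, map_one])).2
  · exact Act.of (by rw [b1, b2, ea]) (by rw [b2, ec, ← e33, ← hsq, ← map_mul]; exact HS.βd β)
      (by rw [b3, en, ← hsq, ← b3, ← map_mul]; exact HS.βd β)
  · exact Act.of (by rw [b1, yj]) (by rw [b2, b3, eb]) (by rw [b3, ek, ← e33', ← hsq, ← map_mul]; exact HS.βd β)

end C1

open C1 in
theorem Bar.exists_bb (h : Bar c x ψ) : ∃ β, BB c x ψ β := by
  rcases exists_jj h with hj | hj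
  · exact absurd (hj.main h (by simp)).1 (by decide)
  obtain ⟨-, β, b1, b2, b3, hi, hsq, T, Y⟩ := hj.main h (by simp)
  have Q : Act β (ψ q8) fq := by
    rw [(by decide +kernel : q8 = y8 * (y8 * (x8 * (y8 * (x8 * (y8 * (y8 * x8)))))))]
    simp only [map_mul]
    exact (Y.mul (Y.mul (T.mul (Y.mul (T.mul (Y.mul (Y.mul T))))))).congr wq
  have P : Act β (ψ p8) fp := by
    rw [(by decide +kernel : p8 = y8 * (y8 * (q8 * y8)))]
    simp only [map_mul]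
    exact (Y.mul (Y.mul (Q.mul Y))).congr wp
  have S : Act β (ψ s8) fs := by
    rw [(by decide +kernel : s8 = x8 * (p8 * (x8 * x8)))]
    simp only [map_mul]
    exact (T.mul (P.mul (T.mul T))).congr ws
  have cj : ∀ (l : PG 8) (g : X), c * g * c⁻¹ = g⁻¹ → c * (ψ l * g * (ψ l)⁻¹) * c⁻¹ = (ψ l * g * (ψ l)⁻¹)⁻¹ :=
    fun l g e => by
      rw [conj_inv, ← e, ← conj_mul (a := c * g), ← conj_mul (a := c), ← conj_inv (a := c), cj_of_comm (h.cm l)]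
  have c1 : c * β (o 1 0 0) * c⁻¹ = (β (o 1 0 0))⁻¹ := by
    rw [b1, mul_inv_rev, ← eq_inv_of_mul_eq_one_left h.xx, ← mul_assoc, mul_inv_cancel_right,
      ← eq_inv_of_mul_eq_one_left h.cc]
  have c2 : c * β (o 0 1 0) * c⁻¹ = (β (o 0 1 0))⁻¹ := by rw [b2, ← b1]; exact cj _ _ c1
  have c3 : c * β (o 0 0 1) * c⁻¹ = (β (o 0 0 1))⁻¹ := by rw [b3]; exact cj _ _ c2
  rw [← map_inv] at c1 c2 c3
  exact ⟨β, hi, b1, (hsq (o 1 0 0)).trans γ_z, (hsq (o 0 1 0)).trans γ_v, (hsq (o 0 0 1)).trans γ_w,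
    (Act.of c1 c2 c3).congr (by decide +kernel), P, Q, Y, S, T⟩

end CfsgLib.HN3
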