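import Cfsg.Agent.Lib.HN3.C1
import Cfsg.Agent.Lib.HN3.T2
import Cfsg.Agent.Lib.SylT.J2b

/-! The 3-local characterisation of the Harada–Norton group (plans/HN3.md), package C2. -/

set_option autoImplicit false
set_option linter.unusedSectionVars false
set_option Elab.async false
set_option synthInstance.maxSize 100000

namespace CfsgLib.HN3

open Subgroup Cfsg CfsgLib.Tech CfsgLib.W2 CfsgLib.Rec3 PG

variable {X : Type*} [Group X] [Finite X] {c x : X} {ψ : PG 8 →* X}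

/-- the Sylow 2-subgroup -/
structure Syl (c x : X) (ψ : PG 8 →* X) (φ : T2 →* X) : Prop where
  inj : Function.Injective φ
  syl : IsSylowIn 2 φ.range ⊤
  hd : φ T2.d = c
  hc : φ (T2.pg 6) = x * c
  nc : ∀ u : SylT.TH, ¬ IsConj c (φ (T2.inc u))
  le : ∀ N : Subgroup X, (∀ p ∈ alt 8, ψ p ∈ N) → (∀ u : SylT.TH, φ (T2.inc u) ∈ normalizer (N : Set X)) →
    ∀ u : SylT.TH, φ (T2.inc u) ∈ N

namespace PC2

open SylT T2
open HS hiding pg

noncomputable section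

/-- the letters in `4³` -/
def bl (i : ℕ) : MZ := [1, 1, 1, 1, o 0 0 1, o 0 1 0, o 1 0 0, o 0 0 2, o 0 2 0, o 2 0 0].getD i 1
/-- the letters in `S₈` -/
def sl (i : ℕ) : PG 8 := [1, s8, q8, p8].getD i 1
/-- all letters -/
def lt (c : X) (ψ : PG 8 →* X) (β : MZ →* X) (i : ℕ) : X :=
  if i = 0 then c else if i < 4 then ψ (sl i) else β (bl i)
/-- the copy of `4³` in the table group -/
def ιf (u : MZ) : T2 := pg 6 ^ u.toAdd.1.val * pg 5 ^ u.toAdd.2.1.val * pg 4 ^ u.toAdd.2.2.val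
/-- coordinates -/
def co (n : ℕ) : MZ := o (n : ZMod 4) ((n / 4 : ℕ) : ZMod 4) ((n / 16 : ℕ) : ZMod 4)
/-- words in six involutions -/
def wd {M : Type*} [Group M] (a b c d e f : M) (n : ℕ) : M :=
  a ^ (n % 2) * b ^ (n / 2 % 2) * c ^ (n / 4 % 2) * d ^ (n / 8 % 2) * e ^ (n / 16 % 2) * f ^ (n / 32 % 2)
def tw (n : ℕ) : PG 8 := wd z8 v8 w8 p8 q8 s8 n
def tT (n : ℕ) : T2 := wd (pg 9) (pg 8) (pg 7) (pg 3) (pg 2) (pg 1) n
def cmp (v : ℕ) : ℕ := v / 2 % 2 + 2 * (v / 8 % 2) + 4 * (v / 32 % 16)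
abbrev In8 (k : ℕ) (r : PG 8) : Prop := anyN (fun n => decide (r = tw n)) k = true

end

variable {β : MZ →* X}

theorem ew_b {w : List ℕ} (h : ∀ k ∈ w, 4 ≤ k) : ew (lt c ψ β) w = β (ew bl w) := by
  rw [map_ew, ew, ew]
  congr 1
  refine List.map_congr_left fun k hk => ?_
  have := h k hk
  rw [lt, if_neg (by omega), if_neg (by omega)]

theorem ew_s {w : List ℕ} (h : ∀ k ∈ w, 0 < k ∧ k < 4) : ew (lt c ψ β) w = ψ (ew sl w) := by
  rw [map_ew, ew, ew]
  congr 1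
  refine List.map_congr_left fun k hk => ?_
  have := h k hk
  rw [lt, if_neg (by omega), if_pos this.2]

theorem lt_b {i : ℕ} (h : 4 ≤ i) : lt c ψ β i = β (bl i) := by
  rw [lt, if_neg (by omega), if_neg (by omega)]

theorem lt_s {i : ℕ} (h : 0 < i) (h' : i < 4) : lt c ψ β i = ψ (sl i) := by
  rw [lt, if_neg (by omega), if_pos h']

theorem rel (hb : BB c x ψ β) (h : Bar c x ψ) : PcRel (lt c ψ β) 10 psq pcj := by
  have k1 : ∀ {m : X} {f : MZ → MZ} (i : ℕ), Act β m f →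
      (∀ j < 10, 4 ≤ j → (∀ k ∈ pcj i j, 4 ≤ k) ∧ f (bl j) = ew bl (pcj i j)) →
      ∀ j < 10, 4 ≤ j → m * lt c ψ β j = ew (lt c ψ β) (pcj i j) * m := fun i a e j hj h4 => by
    rw [lt_b h4, a.move, ew_b (e j hj h4).1, (e j hj h4).2]
  have k2 : ∀ i < 4, 0 < i → psq i = [] ∧ sl i * sl i = 1 ∧ ∀ j < 4, i < j →
      (∀ k ∈ pcj i j, 0 < k ∧ k < 4) ∧ sl i * sl j = ew sl (pcj i j) * sl i := by decide +kernel
  have k3 : ∀ i < 10, 4 ≤ i → ((∀ k ∈ psq i, 4 ≤ k) ∧ bl i * bl i = ew bl (psq i)) ∧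
      ∀ j < 10, i < j → (∀ k ∈ pcj i j, 4 ≤ k) ∧ bl i * bl j = ew bl (pcj i j) * bl i := by
    decide +kernel
  intro i hi
  rcases Nat.eq_zero_or_pos i with rfl | h0
  · refine ⟨h.cc, fun j hj h1 => ?_⟩
    rcases Nat.lt_or_ge j 4 with h4 | h4
    · rw [(by revert j; decide : pcj 0 j = [j]), ew, List.map_singleton, List.prod_singleton,
        lt_s h1 h4]
      exact (h.cm _).symm
    · exact k1 0 hb.ac (by decide +kernel) j hj h4
  rcases Nat.lt_or_ge i 4 with h4 | h4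
  · obtain ⟨e1, e2, e3⟩ := k2 i h4 h0
    rw [lt_s h0 h4]
    refine ⟨by rw [e1, ← map_mul, e2, map_one]; rfl, fun j hj h1 => ?_⟩
    rcases Nat.lt_or_ge j 4 with h5 | h5
    · rw [lt_s (by omega) h5, ew_s (e3 j h5 h1).1, ← map_mul, ← map_mul, (e3 j h5 h1).2]
    · interval_cases i
      · exact k1 1 hb.as (by decide +kernel) j hj h5
      · exact k1 2 hb.aq (by decide +kernel) j hj h5
      · exact k1 3 hb.ap (by decide +kernel) j hj h5
  · obtain ⟨e1, e2⟩ := k3 i hi h4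
    rw [lt_b h4]
    refine ⟨by rw [ew_b e1.1, ← map_mul, e1.2], fun j hj h1 => ?_⟩
    rw [lt_b (by omega), ew_b (e2 j hj h1).1, ← map_mul, ← map_mul, (e2 j hj h1).2]

/-- the values of `φ` -/
structure Val (c : X) (ψ : PG 8 →* X) (β : MZ →* X) (φ : T2 →* X) : Prop where
  inj : Function.Injective φ
  d : φ T2.d = c
  b : ∀ u, φ (ιf u) = β u
  t : ∀ n, φ (tT n) = ψ (tw n)

theorem exists_val (hb : BB c x ψ β) (h : Bar c x ψ) : ∃ φ, Val c ψ β φ := by
  obtain ⟨φ, e⟩ := T2.exists_hom (rel hb h)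
  have e9 : φ (pg 9) = ψ z8 := (e 9 (by norm_num)).trans hb.bz
  refine ⟨φ, T2.inj_of fun a => absurd (h.ker _ (Or.inl (e9.symm.trans a))) (by decide +kernel),
    e 0 (by norm_num), fun u => ?_, fun n => ?_⟩
  · conv_rhs => rw [← lin_id u, map_lin]
    simp only [ιf, map_mul, map_pow, e 6 (by norm_num), e 5 (by norm_num), e 4 (by norm_num)]
    rfl
  · simp only [tT, tw, wd, map_mul, map_pow, e9, (e 8 (by norm_num)).trans hb.bv,
      (e 7 (by norm_num)).trans hb.bw, e 3 (by norm_num), e 2 (by norm_num), e 1 (by norm_num)]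
    rfl

variable {φ : T2 →* X}

theorem cj8 (ψ : PG 8 →* X) {p q : PG 8} (r : PG 8) (e : r * p * r⁻¹ = q := by decide +kernel) :
    IsConj (ψ p) (ψ q) := isConj_iff.mpr ⟨ψ r, by rw [← e, map_mul, map_mul, map_inv]⟩

theorem classes : ∀ u : TH, u * u = 1 → u = 1 ∨ ∃ t : TH,
    (t * u * t⁻¹).v ∈ [2, 8, 32, 64, 256, 257, 68, 144, 128] := by decide +kernel

theorem nc (hb : BB c x ψ β) (h : Bar c x ψ) (v : Val c ψ β φ) (u : TH) :
    ¬ IsConj c (φ (inc u)) := fun hc => by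
  obtain ⟨g, e⟩ := isConj_iff.mp hc
  have u2 : u * u = 1 := (v.inj.comp inc_inj) (by
    show φ (inc (u * u)) = φ (inc 1)
    rw [map_mul, map_mul, map_one, map_one, ← e]
    calc g * c * g⁻¹ * (g * c * g⁻¹) = g * (c * c) * g⁻¹ := by group
      _ = 1 := by rw [h.cc]; group)
  rcases classes u u2 with rfl | ⟨t, ht⟩
  · rw [map_one, map_one, conj_eq_one_iff] at e
    exact h.c1 e
  have h1 : IsConj c (φ (inc (TG.o (t * u * t⁻¹).v))) := by
    rw [TG.o_v]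
    exact hc.trans (isConj_iff.mpr ⟨φ (inc t), by simp⟩)
  have a1 : ∀ {k : ℕ} (n : ℕ) {q : PG 8} (r : PG 8), IsConj c (φ (inc (TG.o k))) →
      inc (TG.o k) = tT n → r * tw n * r⁻¹ = q → IsConj c (ψ q) := fun n _ r a e e' => by
    rw [e, v.t] at a
    exact a.trans (cj8 ψ r e')
  have a2 : ∀ {k n : ℕ} {w : MZ}, inc (TG.o k) = ιf w * tT n →
      φ (inc (TG.o k)) = β w * ψ (tw n) := fun e => by rw [e, map_mul, v.t, v.b]
  have nb : ¬ IsConj c (β (o 1 0 0) * ψ s8) := fun a => h.nb (a.trans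
    (isConj_iff.mpr ⟨ψ s8, by rw [hb.bc]; group⟩))
  have nap : ¬ IsConj c (β (o 0 1 0) * ψ p8) := fun a => nb (a.trans (isConj_iff.mpr
    ⟨ψ x8 * β (o 0 0 1), by
      calc ψ x8 * β (o 0 0 1) * (β (o 0 1 0) * ψ p8) * (ψ x8 * β (o 0 0 1))⁻¹
          = ψ x8 * (β (o 0 0 1) * (β (o 0 1 0) * ψ p8) * (β (o 0 0 1))⁻¹) * (ψ x8)⁻¹ := by group
        _ = ψ x8 * β (o 3 3 2) * (ψ x8)⁻¹ * ψ (x8 * p8 * x8⁻¹) := by
          rw [hb.ap.cj, βd β (b := o 3 3 2), map_mul, map_mul, map_inv]; group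
        _ = _ := by rw [hb.ax, βd β (b := o 1 0 0), (by decide +kernel : x8 * p8 * x8⁻¹ = s8)]⟩))
  simp only [List.mem_cons, List.not_mem_nil, or_false] at ht
  rcases ht with e | e | e | e | e | e | e | e | e <;> rw [e] at h1
  · exact h.nz (a1 1 1 h1 (by decide +kernel) (by decide +kernel))
  · exact h.nz (a1 2 x8⁻¹ h1 (by decide +kernel) (by decide +kernel))
  · exact h.nz (a1 4 (x8⁻¹ * y8⁻¹) h1 (by decide +kernel) (by decide +kernel))
  · exact h.ns (a1 8 x8 h1 (by decide +kernel) (by decide +kernel))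
  · exact h.ns (a1 32 1 h1 (by decide +kernel) (by decide +kernel))
  · rw [a2 (n := 32) (w := o 1 0 0) (by decide +kernel), (by decide +kernel : tw 32 = s8)] at h1
    exact nb h1
  · rw [a2 (n := 8) (w := o 0 1 0) (by decide +kernel), (by decide +kernel : tw 8 = p8)] at h1
    exact nap h1
  · rw [a2 (n := 16) (w := o 0 0 1) (by decide +kernel),
      (by decide +kernel : tw 16 = y8 * p8 * y8⁻¹)] at h1
    refine nap (h1.trans (IsConj.symm (isConj_iff.mpr ⟨ψ y8, ?_⟩)))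
    rw [βd β (a := o 0 0 1) (b := fy (o 0 1 0)), ← hb.ay, map_mul, map_mul, map_inv]; group
  · exact h.ns (a1 16 (x8 * y8⁻¹) h1 (by decide +kernel) (by decide +kernel))

theorem le (hb : BB c x ψ β) (v : Val c ψ β φ) {N : Subgroup X} (h1 : ∀ p ∈ alt 8, ψ p ∈ N)
    (h2 : ∀ u : TH, φ (inc u) ∈ normalizer (N : Set X)) (u : TH) : φ (inc u) ∈ N := by
  have k : ∀ {p : PG 8} {f : MZ → MZ}, p ∈ alt 8 → Act β (ψ p) f → ∀ (w : MZ) (t : TH),
      inc t = ιf w → β (w * (f w)⁻¹) ∈ N := fun {p f} hp a w t e => by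
    have := mul_mem (conj_mem_of_mem_normalizer (h2 t) (h1 p hp)) (inv_mem (h1 p hp))
    rw [e, v.b] at this
    rw [map_mul, map_inv, ← a w]
    convert this using 1
    group
  have m1 := k (by decide +kernel) hb.ax (o 1 0 0) TH.c (by decide +kernel)
  have m2 := k (by decide +kernel) hb.ay (o 0 1 0) TH.a (by decide +kernel)
  have m3 := k (by decide +kernel) hb.ax (o 0 1 0) TH.a (by decide +kernel)
  have m4 : β (o 0 2 0) ∈ N := hb.bv ▸ h1 _ (by decide +kernel)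
  have m5 : β (o 0 0 2) ∈ N := hb.bw ▸ h1 _ (by decide +kernel)
  have m6 := mul_mem (mul_mem (mul_mem (mul_mem m3 m4) m5) (inv_mem m1)) (inv_mem m2)
  simp only [← map_mul, ← map_inv] at m6
  rw [βd β (b := o 0 0 1)] at m6
  have := TG.eq_top_of_genB TH.gen3 (S := N.comap (φ.comp inc)) (by
    simp only [List.forall_mem_cons, mem_comap, MonoidHom.comp_apply]
    refine ⟨?_, ?_, ?_, by simp⟩
    · rw [(by decide +kernel : inc TH.b = ιf (o 0 0 1)), v.b]; exact m6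
    · rw [(by decide +kernel : inc TH.q = tT 16), v.t]; exact h1 _ (by decide +kernel)
    · rw [(by decide +kernel : inc TH.s = tT 32), v.t]; exact h1 _ (by decide +kernel))
  exact (this.ge (mem_top u) : u ∈ N.comap (φ.comp inc))

theorem exists_cm {g : X} (hg : g ∈ normalizer (φ.range : Set X)) (p : T2) : ∃ r, Cm φ g p r :=
  Cm.of_mem (conj_mem_of_mem_normalizer hg ⟨p, rfl⟩)

theorem sq_inV (hi : Function.Injective φ) {g : X} (hg : g ∈ normalizer (φ.range : Set X)) {i : ℕ}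
    (h : i ∈ [4, 5, 6]) : ∃ r, Cm φ g (pg i * pg i) r ∧ InV r := by
  obtain ⟨r, e⟩ := exists_cm hg (pg i)
  refine ⟨r * r, e.mul e, ?_⟩
  by_contra hn
  have h1 := cnt32 r ((((e.mul e).mul (e.mul e)).ne_one hi).mpr
    ((by decide +kernel : ∀ i ∈ [4, 5, 6], pg i * pg i * (pg i * pg i) = 1) i h)) hn
  have h2 := card_le_of_cm (g := g) hi (P := fun s => s * pg i = pg i * s)
    (P' := fun s => s * r = r * s) fun p hp => by
      obtain ⟨s, a⟩ := exists_cm hg p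
      exact ⟨s, a, (a.comm hi e).mpr hp⟩
  have := cnt64 i h
  rw [← TG.card_subtype] at h1 this
  exact absurd (this.trans (h2.trans h1)) (by norm_num)

theorem f1 : ∀ r : T2, InV r → r * d = d * r ∧ cmp r.v < 8 ∧ r = tT (cmp r.v) := by decide +kernel

theorem f2 : ∀ r : T2, r * (pg 4 * pg 4) = pg 4 * pg 4 * r → r * (pg 5 * pg 5) = pg 5 * pg 5 * r →
    r * (pg 6 * pg 6) = pg 6 * pg 6 * r → r = inc (TG.o r.v) ∨ r = ιf (co r.v) * d := by
  decide +kernel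

theorem f3 : ∀ u : MZ, (∃ w, u = w * w) ∨ ∃ i j k : Fin 3, ∃ w,
    w * fx^[i] (fy^[j] (fx^[k] u)) * w = o 1 0 0 := by decide +kernel

theorem f4 : ∀ r : T2, r * d = d * r → cmp r.v < 64 ∧ (r = tT (cmp r.v) ∨ r = tT (cmp r.v) * d) := by
  decide +kernel

theorem f5 {r : PG 8} (h : r * z8 = z8 * r) : In8 8 (r * v8 * r⁻¹) → In8 8 (r * w8 * r⁻¹) →
    In8 64 (r * p8 * r⁻¹) → In8 64 (r * q8 * r⁻¹) → In8 64 (r * s8 * r⁻¹) → In8 64 r :=
  pg_conj [(z8, z8)] (P := fun r => In8 8 (r * v8 * r⁻¹) → In8 8 (r * w8 * r⁻¹) →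
    In8 64 (r * p8 * r⁻¹) → In8 64 (r * q8 * r⁻¹) → In8 64 (r * s8 * r⁻¹) → In8 64 r)
    (by decide +kernel) (by simpa using h)

theorem in8 {k n : ℕ} {r : PG 8} (hn : n < k) (e : r = tw n) : In8 k r :=
  anyN_iff.mpr ⟨n, hn, decide_eq_true e⟩

theorem mem_of_ψ (h : Bar c x ψ) (v : Val c ψ β φ) {r : PG 8}
    (hg : ψ r ∈ normalizer (φ.range : Set X)) : ψ r ∈ φ.range := by
  have inj : ∀ {p q : PG 8}, ψ p = ψ q → p = q := fun e =>
    ((injective_iff_map_eq_one ψ).mpr fun a ha => h.ker a (Or.inl ha)) e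
  have k0 : ∀ {n : ℕ} {s : T2}, Cm φ (ψ r) (tT n) s → φ s = ψ (r * tw n * r⁻¹) := fun e => by
    rw [e, v.t, map_mul, map_mul, map_inv]
  have k1 : ∀ i ∈ [4, 5, 6], ∀ n, pg i * pg i = tT n → In8 8 (r * tw n * r⁻¹) := fun i hi n e => by
    obtain ⟨s, a, b⟩ := sq_inV v.inj hg hi
    rw [e] at a
    obtain ⟨-, b1, b2⟩ := f1 s b
    exact in8 b1 (inj (by rw [← k0 a, ← v.t, ← b2]))
  have k2 : ∀ n, In8 64 (r * tw n * r⁻¹) := fun n => by
    obtain ⟨s, a⟩ := exists_cm hg (tT n)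
    have a' := k0 a
    obtain ⟨b1, b2⟩ := f4 s (v.inj (by rw [map_mul, map_mul, a', v.d, h.cm]))
    refine in8 b1 ?_
    rcases b2 with b2 | b2
    · exact inj (by rw [← a', ← v.t, ← b2])
    · rw [b2, map_mul, v.t, v.d] at a'
      refine (inv_mul_eq_one.mp (h.ker _ (Or.inr ?_))).symm
      rw [map_mul, map_inv, ← a', inv_mul_cancel_left]
  have hz : r * z8 = z8 * r := by
    obtain ⟨s, a⟩ := exists_cm hg (pg 9)
    have cs : ∀ t, s * t = t * s := fun t => by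
      obtain ⟨p, b⟩ := exists_cm (inv_mem hg) t
      have b' := b.symm
      rw [inv_inv] at b'
      exact (a.comm v.inj b').mpr ((by decide +kernel : ∀ p : T2, pg 9 * p = p * pg 9) p)
    rcases center_eq s (cs _) (cs _) (cs _) (cs _) with e | e
    · exact absurd ((a.ne_one v.inj).mp e) (by decide +kernel)
    · rw [e, (by decide +kernel : pg 9 = tT 1)] at a
      have := inj ((v.t 1).symm.trans (k0 a))
      rw [(by decide +kernel : tw 1 = z8)] at this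
      exact (mul_inv_eq_iff_eq_mul.mp this.symm)
  obtain ⟨n, -, e⟩ := anyN_iff.mp (f5 hz
    ((by decide +kernel : tw 2 = v8) ▸ k1 5 (by simp) 2 (by decide +kernel))
    ((by decide +kernel : tw 4 = w8) ▸ k1 4 (by simp) 4 (by decide +kernel))
    ((by decide +kernel : tw 8 = p8) ▸ k2 8) ((by decide +kernel : tw 16 = q8) ▸ k2 16)
    ((by decide +kernel : tw 32 = s8) ▸ k2 32))
  exact ⟨tT n, by rw [v.t, ← of_decide_eq_true e]⟩

theorem norm_le (hb : BB c x ψ β) (h : Bar c x ψ) (v : Val c ψ β φ) {g : X}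
    (hg : g ∈ normalizer (φ.range : Set X)) : g ∈ φ.range := by
  obtain ⟨r, a⟩ := exists_cm hg d
  have k : ∀ i ∈ [4, 5, 6], r * (pg i * pg i) = pg i * pg i * r := fun i hi => by
    obtain ⟨s, b, b1⟩ := sq_inV v.inj (inv_mem hg) hi
    have b' := b.symm
    rw [inv_inv] at b'
    exact (a.comm v.inj b').mpr (f1 s b1).1.symm
  have hc : IsConj c (φ r) := v.d ▸ a.isConj
  rcases f2 r (k 4 (by simp)) (k 5 (by simp)) (k 6 (by simp)) with e | e
  · exact absurd (e ▸ hc) (nc hb h v _)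
  have e1 : φ r = β (co r.v) * c := by rw [← v.b, ← v.d, ← map_mul, ← e]
  have p1 : ∀ {p : PG 8} {f : MZ → MZ}, Act β (ψ p) f → ∀ u, IsConj c (β u * c) →
      IsConj c (β (f u) * c) := fun {p f} a u b => b.trans (isConj_iff.mpr ⟨ψ p, by
    rw [← a u, ← mul_assoc, mul_assoc _ c, mul_assoc _ _ c, ← map_inv, h.cm]⟩)
  have p2 : ∀ {p : PG 8} {f : MZ → MZ}, Act β (ψ p) f → ∀ n u, IsConj c (β u * c) →
      IsConj c (β (f^[n] u) * c) := fun {p f} a n u => p1 (p := p ^ n) (map_pow ψ p n ▸ a.pow n) u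
  rcases f3 (co r.v) with ⟨w, e2⟩ | ⟨i, j, k, w, e2⟩
  · have hw : β w ∈ φ.range := ⟨_, v.b w⟩
    have hd : c ∈ φ.range := ⟨_, v.d⟩
    have e3 : (β w)⁻¹ * g * c = c * ((β w)⁻¹ * g) := by
      have h1 : g * c * g⁻¹ = β w * c * (β w)⁻¹ := by
        have := hb.ac.cj w 1
        rw [map_one, one_mul, mul_one, inv_inv] at this
        rw [this, ← e2, ← e1, a, v.d]
      calc (β w)⁻¹ * g * c = (β w)⁻¹ * (g * c * g⁻¹) * g := by group
        _ = _ := by rw [h1]; group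
    have hn : (β w)⁻¹ * g ∈ normalizer (φ.range : Set X) := mul_mem (inv_mem (le_normalizer hw)) hg
    refine (mul_mem_cancel_left (inv_mem hw)).mp ?_
    obtain ⟨p, e4 | e4⟩ := h.cen _ e3 <;> rw [e4] at hn ⊢
    · exact mem_of_ψ h v hn
    · exact mul_mem hd (mem_of_ψ h v ((mul_mem_cancel_left (le_normalizer hd)).mp hn))
  · have h1 := p2 hb.ax i _ (p2 hb.ay j _ (p2 hb.ax k _ (e1 ▸ hc)))
    have h2 := h1.trans (isConj_iff.mpr ⟨β w, hb.ac.cj w _⟩)
    rw [inv_inv, e2, hb.bc, mul_assoc, h.cc, mul_one] at h2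
    exact absurd h2 h.nx

end PC2

theorem BB.exists_syl {β : HS.MZ →* X} (hb : BB c x ψ β) (h : Bar c x ψ) : ∃ φ, Syl c x ψ φ := by
  obtain ⟨φ, v⟩ := PC2.exists_val hb h
  refine ⟨φ, v.inj, sylow_of (T2.two.of_surjective φ.rangeRestrict φ.rangeRestrict_surjective) le_top
    fun g _ hg _ => PC2.norm_le hb h v hg, v.d, ?_, PC2.nc hb h v, fun N => PC2.le hb v⟩
  rw [(by decide +kernel : T2.pg 6 = PC2.ιf (HS.o 1 0 0)), v.b, hb.bc]

end CfsgLib.HN3
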