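import Cfsg.Agent.Lib.HN3.C2
import Cfsg.Agent.Lib.Rec3.S9Fin
import Cfsg.Agent.Lib.MultC.Pkg
import Cfsg.Agent.Lib.Transfer.Thompson
import Cfsg.Agent.S1777
import Cfsg.Agent.S2072

/-! The 3-local characterisation of the Harada–Norton group (plans/HN3.md), package D. -/

set_option autoImplicit false
set_option linter.unusedSectionVars false
set_option Elab.async false

namespace CfsgLib.HN3

open Subgroup Cfsg CfsgLib.Tech CfsgLib.W2 CfsgLib.Rec3 PG

variable {X : Type*} [Group X] [Finite X] {c x : X} {ψ : PG 8 →* X}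

namespace PD

/-- a seven-cycle -/
noncomputable def u8 : PG 8 := pl [0, 2, 3, 4, 5, 6, 7, 1]

theorem simple8 : IsSimpleGroup (AG 8) :=
  haveI := alternatingGroup.isSimpleGroup (α := Fin 8) (by simp)
  (altE 8).symm.isSimpleGroup

theorem eq_one_of_comm {p : PG 8} (h : ∀ r ∈ alt 8, p * r = r * p) : p = 1 :=
  pg_conj [(a8, a8), (u8, u8)] (P := fun p => p = 1) (by decide +kernel) (by
    simp only [List.forall_mem_cons]
    exact ⟨h _ (by decide +kernel), h _ (by decide +kernel), by simp⟩)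

theorem alt_le_of {S : Subgroup (PG 8)} (hn : ∀ r ∈ alt 8, ∀ s ∈ S, r * s * r⁻¹ ∈ S) {q : PG 8}
    (hq : q ∈ S) (hq' : q ∈ alt 8) (h1 : q ≠ 1) : alt 8 ≤ S := by
  have := simple8
  have hN : (S.subgroupOf (alt 8)).Normal := ⟨fun s hs r => hn r r.2 s hs⟩
  rcases hN.eq_bot_or_eq_top with e | e
  · have : (⟨q, hq'⟩ : alt 8) ∈ S.subgroupOf (alt 8) := hq
    rw [e, mem_bot] at this
    exact absurd (congrArg Subtype.val this) h1
  · exact subgroupOf_eq_top.mp e

theorem inj (h : Bar c x ψ) {p q : PG 8} (e : ψ p = ψ q) : p = q :=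
  ((injective_iff_map_eq_one ψ).mpr fun a ha => h.ker a (Or.inl ha)) e

theorem key (h : Bar c x ψ) {M : Subgroup X} (hM : M ≠ ⊥) (hc : c ∉ M)
    (n1 : c ∈ normalizer (M : Set X)) (n2 : ∀ p ∈ alt 8, ψ p ∈ normalizer (M : Set X))
    (n3 : x * c ∈ normalizer (M : Set X)) : ∀ p ∈ alt 8, ψ p ∈ M := by
  by_cases hf : ∀ y ∈ M, c * y * c⁻¹ = y → y = 1
  · exfalso
    have i1 : ∀ y ∈ M, c * y * c⁻¹ = y⁻¹ := fun y hy => fpf_inverts h.cc n1 hf hy
    have hz : ψ z8 ∈ centralizer (M : Set X) := mem_centralizer_iff.mpr fun y hy => by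
      have h1 := i1 _ (conj_mem_of_mem_normalizer' n3 hy)
      have h2 : c * ψ z8 * y * (c * ψ z8)⁻¹ = y⁻¹ := by
        rw [← h.xc]
        calc x * c * x⁻¹ * y * (x * c * x⁻¹)⁻¹
            = x * c * (c * ((x * c)⁻¹ * y * (x * c)) * c⁻¹) * (x * c)⁻¹ := by group
          _ = _ := by rw [h1]; group
      rw [← i1 y hy] at h2
      calc y * ψ z8 = c⁻¹ * (c * y * c⁻¹) * c * ψ z8 := by group
        _ = _ := by rw [← h2]; group
    have hA : alt 8 ≤ (centralizer (M : Set X)).comap ψ := by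
      refine alt_le_of (fun r hr s hs => ?_) hz (by decide +kernel) (by decide +kernel)
      rw [mem_comap, map_mul, map_mul, map_inv]
      have e := mem_normalizer_iff_cj.mp (n2 r hr)
      rw [← e, ← cj_centralizer]
      exact conj_mem_cj.mpr hs
    refine hM (eq_bot_iff.mpr fun y hy => mem_bot.mpr (hf y hy ?_))
    have := h.odd y (mem_centralizer_iff.mp (hA (by decide +kernel : a8 ∈ alt 8)) y hy)
    rw [← this, mul_inv_cancel_right]
  · push Not at hf
    obtain ⟨g, hg, e, g1⟩ := hf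
    obtain ⟨p, hp⟩ := h.cen g (mul_inv_eq_iff_eq_mul.mp e).symm
    have p1 : p ≠ 1 := by
      rintro rfl
      rcases hp with rfl | rfl
      · exact g1 (map_one ψ)
      · exact hc (by simpa using hg)
    obtain ⟨r, hr, hpr⟩ : ∃ r ∈ alt 8, p * r ≠ r * p := by
      by_contra hn
      push Not at hn
      exact p1 (eq_one_of_comm hn)
    have hm : ψ r * g * (ψ r)⁻¹ * g⁻¹ ∈ M :=
      mul_mem (conj_mem_of_mem_normalizer (n2 r hr) hg) (inv_mem hg)
    have hm' : r * p * r⁻¹ * p⁻¹ ∈ M.comap ψ := by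
      rw [mem_comap]
      rcases hp with rfl | rfl
      · simpa using hm
      · have e1 : ψ r * (c * ψ p) * (ψ r)⁻¹ * (c * ψ p)⁻¹ = c * ψ (r * p * r⁻¹ * p⁻¹) * c⁻¹ := by
          rw [← mul_assoc (ψ r), h.cm r]; simp only [map_mul, map_inv]; group
        rwa [e1, ← h.cm, mul_inv_cancel_right] at hm
    refine alt_le_of (S := M.comap ψ) (fun r hr s hs => ?_) hm' ?_ fun e => hpr ?_
    · rw [mem_comap, map_mul, map_mul, map_inv]
      exact conj_mem_of_mem_normalizer (n2 r hr) hs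
    · rw [mul_assoc, mul_assoc, ← mul_assoc p]
      exact mul_mem hr ((inferInstance : (alt 8).Normal).conj_mem _ (inv_mem hr) p)
    · calc p * r = (r * p * r⁻¹ * p⁻¹)⁻¹ * (r * p) := by group
        _ = r * p := by rw [e]; group

theorem index_le {N : Subgroup X} [N.Normal] (e : N ≃* Spor.HS)
    (hc : centralizer (N : Set X) = ⊥) : N.index ≤ 2 := by
  have h1 : Function.Injective (MulAut.conjNormal (H := N)) := (injective_iff_map_eq_one _).2
    fun g a => mem_bot.1 (hc ▸ fun x hx => (mul_inv_eq_iff_eq_mul.1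
      (congrArg (fun α : MulAut N => (α ⟨x, hx⟩ : X)) a)).symm)
  have h2 : Function.Injective (MulAut.conj (G := N)) := (injective_iff_map_eq_one _).2
    fun g a => Subtype.ext (mem_bot.1 (hc ▸ fun x hx => (mul_inv_eq_iff_eq_mul.1
      (congrArg (fun α : MulAut N => (α ⟨x, hx⟩ : X)) a)).symm))
  have h3 := Nat.card_le_card_of_injective _ h1
  rw [← N.card_mul_index, card_eq_card_quotient_mul_card_subgroup (Inn N),
    (MultC.card_out_congr e).trans Agent.S2072.result,
    ← Nat.card_congr (MonoidHom.ofInjective h2).toEquiv, mul_comm 2] at h3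
  exact Nat.le_of_mul_le_mul_left h3 Nat.card_pos

end PD

open PD

theorem Syl.main {φ : T2 →* X} (hs : Syl c x ψ φ) (h : Bar c x ψ) : ∃ N : Subgroup X, N.Normal ∧
    N.index = 2 ∧ Nonempty (N ≃* Spor.HS) ∧ centralizer (N : Set X) = ⊥ ∧ ψ s8 * x * c ∈ N := by
  have hi : Function.Injective (φ.comp T2.inc) := hs.inj.comp T2.inc_inj
  set T0 := (φ.comp T2.inc).range with hT0
  have c0 : Nat.card T0 = 2 ^ 9 := by
    rw [← Nat.card_congr (MonoidHom.ofInjective hi).toEquiv, SylT.TH.card_T]; rfl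
  have c1 : Nat.card φ.range = 1024 := by
    rw [← Nat.card_congr (MonoidHom.ofInjective hs.inj).toEquiv, T2.card_T]
  have hle : T0 ≤ φ.range := by
    rintro _ ⟨u, rfl⟩
    exact ⟨_, rfl⟩
  have hr : T0.relIndex φ.range = 2 := by
    have := card_mul_relIndex' hle
    rw [c0, c1] at this
    omega
  obtain ⟨K, hK, iK, cK⟩ : ∃ K : Subgroup X, K.Normal ∧ K.index = 2 ∧ c ∉ K := by
    rcases Transfer.thompson_transfer (H := φ.range) (by
      rw [← relIndex_top_right]; exact hs.syl.not_dvd) hr (ord_two h.cc h.c1) with e | ⟨g, u, e⟩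
    · exact e
    · exact absurd (isConj_iff.mpr ⟨g, e.symm⟩) (hs.nc u)
  have aK : alt 8 ≤ K.comap ψ := alt_le (a := 0) (b := 1) (by decide) fun j h0 h1 => by
    have e : ∀ j : Fin 8, E 8 (Pres.cyc j 0 1) = E 8 (Pres.cyc j 0 1) * E 8 (Pres.cyc j 0 1) *
        (E 8 (Pres.cyc j 0 1) * E 8 (Pres.cyc j 0 1)) ∨ j = 0 ∨ j = 1 := by decide +kernel
    rw [((e j).resolve_right (by simp [h0, h1])), mem_comap, map_mul]
    exact K.mul_self_mem_of_index_two iK _
  set N := normalClosure (ψ '' alt 8) with hN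
  have aN : ∀ p ∈ alt 8, ψ p ∈ N := fun p hp => subset_normalClosure ⟨p, hp, rfl⟩
  have NK : N ≤ K := normalClosure_le_normal (by rintro _ ⟨p, hp, rfl⟩; exact aK hp)
  have tN : ∀ u : SylT.TH, φ (T2.inc u) ∈ N := hs.le N aN fun u => le_normalizer_of_normal (mem_top _)
  have TN : T0 ≤ N := by
    rintro _ ⟨u, rfl⟩
    exact tN u
  have iN : x * c ∈ N := by
    rw [← hs.hc, (by decide +kernel : T2.pg 6 = T2.inc SylT.TH.c)]
    exact tN _
  have sN : IsSylowIn 2 T0 N := by
    have := hs.syl.inf_of_le_normalizer (N := N) le_normalizer_of_normal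
    rw [top_inf_eq] at this
    convert this using 1
    refine le_antisymm (le_inf hle TN) ?_
    rintro _ ⟨⟨t, rfl⟩, ht⟩
    rcases T2.cover t with e | e
    · exact ⟨_, (congrArg φ e).symm⟩
    · rw [e, map_mul, hs.hd] at ht
      exact absurd (NK ((mul_mem_cancel_left (tN _)).mp ht)) cK
  have L : ∀ M : Subgroup X, M ≠ ⊥ → M ≤ K → c ∈ normalizer (M : Set X) →
      N ≤ normalizer (M : Set X) → ∀ p ∈ alt 8, ψ p ∈ M := fun M h1 h2 h3 h4 =>
    key h h1 (fun e => cK (h2 e)) h3 (fun p hp => h4 (aN p hp)) (h4 iN)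
  have nj : ∀ (M : Subgroup X) (g : X), N ≤ normalizer (M : Set X) →
      N ≤ normalizer (cj g M : Set X) := fun M g h1 => by
    rw [← cj_normalizer, ← cj_eq_of_normal g N]
    exact cj_mono g h1
  have L2 : ∀ M : Subgroup X, M ≠ ⊥ → M ≤ N → N ≤ normalizer (M : Set X) →
      ∀ p ∈ alt 8, ψ p ∈ M := fun M h1 h2 h3 => by
    have h2' : cj c M ≤ N := (cj_mono c h2).trans (cj_eq_of_normal c N).le
    have h3' := nj M c h3
    have cc : cj c (cj c M) = M := by rw [← cj_mul, h.cc, cj_one]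
    by_cases e : M ⊓ cj c M = ⊥
    · exfalso
      have n1 : N ≤ normalizer ((M ⊔ cj c M : Subgroup X) : Set X) :=
        (le_inf h3 h3').trans (normalizer_inf_normalizer_le_normalizer_sup _ _)
      have h4 := L (M ⊔ cj c M) (fun e' => h1 (eq_bot_iff.mpr (le_sup_left.trans e'.le)))
        ((sup_le h2 h2').trans NK) (mem_normalizer_iff_cj.mpr (by rw [cj_sup, cc, sup_comm])) n1
      have h5 : T0 ≤ M ⊔ cj c M := by
        rintro _ ⟨u, rfl⟩
        exact hs.le _ h4 (fun u => n1 (tN u)) u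
      have h6 := (sN.of_le h5 (sup_le h2 h2')).card_eq_pow
      have h7 := Coprime.card_sup_mul_card_inf (K := M) (A := cj c M) (h2'.trans h3)
      rw [e, card_bot, mul_one, card_cj] at h7
      rw [c0, h7, Nat.factorization_mul Nat.card_pos.ne' Nat.card_pos.ne'] at h6
      have := Nat.pow_right_injective le_rfl h6
      simp only [Finsupp.add_apply] at this
      omega
    · exact fun p hp => (L (M ⊓ cj c M) e ((inf_le_left.trans h2).trans NK)
        (mem_normalizer_iff_cj.mpr (by rw [cj_inf, cc, inf_comm]))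
        ((le_inf h3 h3').trans inf_normalizer_le_normalizer_inf) p hp).1
  have a1 : ψ a8 ≠ 1 := fun e => absurd (h.ker _ (Or.inl e)) (by decide +kernel)
  have simple : IsSimpleGroup N := by
    have : Nontrivial N := ⟨⟨ψ a8, aN _ (by decide +kernel)⟩, 1, fun e => a1 (congrArg Subtype.val e)⟩
    refine ⟨fun H hH => or_iff_not_imp_left.mpr fun h1 => ?_⟩
    have h2 : H.map N.subtype ≠ ⊥ := fun e => h1 ((map_eq_bot_iff_of_injective H N.subtype_injective).mp e)
    have h3 : H.map N.subtype ≤ N := map_subtype_le H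
    have h4 : N ≤ normalizer ((H.map N.subtype : Subgroup X) : Set X) := fun n hn =>
      mem_normalizer_of_forall (by
        rintro _ ⟨y, hy, rfl⟩
        exact ⟨_, hH.conj_mem y hy ⟨n, hn⟩, rfl⟩)
    have h5 : N ≤ H.map N.subtype := by
      refine (closure_le _).mpr fun y hy => ?_
      obtain ⟨_, ⟨p, hp, rfl⟩, hy⟩ := Group.mem_conjugatesOfSet_iff.mp hy
      obtain ⟨g, rfl⟩ := isConj_iff.mp hy
      have := L2 (cj g⁻¹ (H.map N.subtype)) (fun e => h2 (cj_eq_bot_iff.mp e))
        ((cj_mono _ h3).trans (cj_eq_of_normal _ N).le) (nj _ _ h4) p hp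
      simpa using mem_cj.mp this
    refine eq_top_iff.mpr fun y _ => ?_
    obtain ⟨z, hz, e⟩ := h5 y.2
    rwa [← Subtype.ext e]
  obtain ⟨χ, χ1, χ2⟩ := SylT.TH.exists_HS
  obtain ⟨ε⟩ := Agent.S1777.result sN.toSylow χ2.toSylowTop ⟨((subgroupOfEquivOfLe TN).trans
    (MonoidHom.ofInjective hi).symm).trans (MonoidHom.ofInjective χ1)⟩
  have hCK : centralizer (N : Set X) ⊓ K = ⊥ := by
    by_contra e
    have h1 := (L _ e inf_le_right (le_normalizer_of_normal (mem_top _)) le_normalizer_of_normal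
      a8 (by decide +kernel)).1
    have h2 := mem_centralizer_iff.mp h1 _ (aN z8 (by decide +kernel))
    rw [← map_mul, ← map_mul] at h2
    exact absurd (PD.inj h h2) (by decide +kernel)
  have hC : centralizer (N : Set X) = ⊥ := by
    refine eq_bot_iff.mpr fun g hg => mem_bot.mpr ?_
    have h1 : c * g * c⁻¹ * g⁻¹ ∈ centralizer (N : Set X) ⊓ K := by
      refine mem_inf.mpr ⟨mul_mem ((inferInstance : (centralizer (N : Set X)).Normal).conj_mem g hg c)
        (inv_mem hg), ?_⟩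
      rw [mul_mem_iff_of_index_two iK, inv_mem_iff]
      exact ⟨fun e => by simpa [mul_assoc] using hK.conj_mem _ e c⁻¹, fun e => hK.conj_mem _ e c⟩
    rw [hCK, mem_bot, mul_inv_eq_one, mul_inv_eq_iff_eq_mul] at h1
    obtain ⟨p, hp⟩ := h.cen g h1.symm
    have p1 : p = 1 := eq_one_of_comm fun r hr => PD.inj h (by
      have h2 := mem_centralizer_iff.mp hg _ (aN r hr)
      rw [map_mul, map_mul]
      rcases hp with rfl | rfl
      · exact h2.symm
      · rw [← mul_assoc, h.cm r, mul_assoc, mul_assoc] at h2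
        exact (mul_left_cancel h2).symm)
    rw [p1, map_one, mul_one] at hp
    rcases hp with e | rfl
    · exact e
    · have h2 := mem_centralizer_iff.mp hg _ iN
      rw [← mul_assoc] at h2
      have h3 := h.xc
      rw [mul_right_cancel h2, mul_inv_cancel_right] at h3
      exact absurd (h.ker _ (Or.inl (left_eq_mul.mp h3))) (by decide +kernel)
  refine ⟨N, inferInstance, ?_, ⟨ε⟩, hC, ?_⟩
  · have h1 := index_le ε hC
    have h2 : 2 ∣ N.index := iK ▸ index_dvd_of_le NK
    have h3 : N.index ≠ 0 := index_ne_zero_of_finite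
    omega
  · rw [mul_assoc]
    exact mul_mem (aN _ (by decide +kernel)) iN

theorem Bar.main (h : Bar c x ψ) : ∃ N : Subgroup X, N.Normal ∧
    N.index = 2 ∧ Nonempty (N ≃* Spor.HS) ∧ centralizer (N : Set X) = ⊥ ∧ ψ s8 * x * c ∈ N := by
  obtain ⟨β, hb⟩ := h.exists_bb
  obtain ⟨φ, hs⟩ := hb.exists_syl h
  exact hs.main h

end CfsgLib.HN3
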