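import Mathlib
import Cfsg.Agent.Lib.Rec3.PSearch
import Cfsg.Agent.Lib.Rec3.Basic

/-!
The 3-local characterisation of the Harada–Norton group (plans/HN3.md): the interfaces between the
parts of the proof.
-/

set_option autoImplicit false

namespace CfsgLib.HN3

open Subgroup CfsgLib.W2 PG

noncomputable section

/-- `(0 1 2)` -/
def j1 : PG 9 := pl [1, 2, 0, 3, 4, 5, 6, 7, 8]
/-- `(3 4 5)` -/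
def j2 : PG 9 := pl [0, 1, 2, 4, 5, 3, 6, 7, 8]
/-- `(6 7 8)` -/
def j3 : PG 9 := pl [0, 1, 2, 3, 4, 5, 7, 8, 6]
/-- `(0 1)(2 3)` -/
def t9 : PG 9 := pl [1, 0, 3, 2, 4, 5, 6, 7, 8]
/-- `(0 2)(1 3)` -/
def c9 : PG 9 := pl [2, 3, 0, 1, 4, 5, 6, 7, 8]

/-- `(0 1 2)` -/
def a8 : PG 8 := pl [1, 2, 0, 3, 4, 5, 6, 7]
/-- `(0 1 2)(3 4 5)` -/
def y8 : PG 8 := pl [1, 2, 0, 4, 5, 3, 6, 7]
/-- `(1 2)(4 5)` -/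
def s8 : PG 8 := pl [0, 2, 1, 3, 5, 4, 6, 7]
/-- `(6 7)` -/
def e8 : PG 8 := pl [0, 1, 2, 3, 4, 5, 7, 6]
/-- `z8, v8, w8` generate a regular elementary abelian subgroup -/
def z8 : PG 8 := pl [3, 4, 5, 0, 1, 2, 7, 6]
def v8 : PG 8 := pl [6, 2, 1, 7, 5, 4, 0, 3]
def w8 : PG 8 := pl [2, 6, 0, 5, 7, 3, 1, 4]
/-- `p8, q8, y8, s8, x8` generate the stabiliser `L₃(2)` of the point `6` in its normaliser -/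
def p8 : PG 8 := pl [0, 4, 5, 3, 1, 2, 6, 7]
def q8 : PG 8 := pl [3, 1, 5, 0, 4, 2, 6, 7]
def x8 : PG 8 := pl [3, 1, 5, 7, 2, 4, 6, 0]

end

variable {G : Type*} [Group G]

/-- `N(⟨a⟩) = ⟨a⟩ : S₉` -/
structure Fr (a : G) (Φ : PG 9 →* G) : Prop where
  a3 : orderOf a = 3
  ker : ∀ p, Φ p ∈ zpowers a → p = 1
  ev : ∀ p ∈ alt 9, Φ p * a * (Φ p)⁻¹ = a
  od : ∀ p, p ∉ alt 9 → Φ p * a * (Φ p)⁻¹ = a⁻¹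
  nrm : ∀ g, g * a * g⁻¹ = a ∨ g * a * g⁻¹ = a⁻¹ → ∃ p, ∃ i < 3, g = a ^ i * Φ p

/-- two further elements normalising `J = ⟨j1, j2, j3, a⟩` -/
structure Nine (a m k : G) (Φ : PG 9 →* G) : Prop extends Fr a Φ where
  m1 : m * Φ j1 * m⁻¹ = Φ j1
  m2 : m * Φ j2 * m⁻¹ = Φ j2
  m3 : m * Φ j3 * m⁻¹ = a
  m4 : m * a * m⁻¹ = (Φ j3)⁻¹
  k1 : k * Φ j1 * k⁻¹ = Φ (j1 * j2)
  k2 : k * Φ j2 * k⁻¹ = Φ (j1 * j2⁻¹)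
  k3 : k * Φ j3 * k⁻¹ = (Φ j3)⁻¹ * a⁻¹
  k4 : k * a * k⁻¹ = Φ j3 * a⁻¹
  nB : ¬ IsConj a (Φ (j1 * j2 * j3))

/-- `C(t) ∩ N(⟨t, c⟩) = ⟨t, c⟩ : S₈` -/
structure Ei (t c : G) (Ψ : PG 8 →* G) : Prop where
  tt : t * t = 1
  t1 : t ≠ 1
  cc : c * c = 1
  c1 : c ≠ 1
  cnt : c ≠ t
  ct : c * t = t * c
  Ψt : ∀ p, Ψ p * t = t * Ψ p
  ev : ∀ p ∈ alt 8, Ψ p * c * (Ψ p)⁻¹ = c
  od : ∀ p, p ∉ alt 8 → Ψ p * c * (Ψ p)⁻¹ = c * t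
  ker : ∀ p, Ψ p = 1 ∨ Ψ p = t ∨ Ψ p = c ∨ Ψ p = c * t → p = 1
  nrm : ∀ g, g * t = t * g → g * c * g⁻¹ = c ∨ g * c * g⁻¹ = c * t →
    ∃ p, g = Ψ p ∨ g = t * Ψ p ∨ g = c * Ψ p ∨ g = c * t * Ψ p

/-- fusion, and an involution `x` moving `c` -/
structure Eight (t c x : G) (Ψ : PG 8 →* G) : Prop extends Ei t c Ψ where
  tc : IsConj t c
  ts : IsConj t (Ψ s8)
  nts : ¬ IsConj t (t * Ψ s8)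
  nz : ¬ IsConj t (Ψ z8)
  nx : ¬ IsConj t x
  xx : x * x = 1
  xt : x * t = t * x
  xc : x * c * x⁻¹ = c * Ψ z8
  xz : x * Ψ z8 = Ψ z8 * x
  xy : x * Ψ y8 = Ψ y8 * x
  xs : x * Ψ s8 * x⁻¹ = Ψ s8 * t * Ψ z8
  odd : ∀ g, g * t = t * g → g * Ψ a8 = Ψ a8 * g → g * c * g⁻¹ = c ∨ g * c * g⁻¹ = c * t

/-- the situation in `C(t) / ⟨t⟩` -/
structure Bar (c x : G) (ψ : PG 8 →* G) : Prop where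
  cc : c * c = 1
  c1 : c ≠ 1
  cm : ∀ p, ψ p * c = c * ψ p
  ker : ∀ p, ψ p = 1 ∨ ψ p = c → p = 1
  cen : ∀ g, g * c = c * g → ∃ p, g = ψ p ∨ g = c * ψ p
  xx : x * x = 1
  xc : x * c * x⁻¹ = c * ψ z8
  xz : x * ψ z8 = ψ z8 * x
  xv : x * ψ v8 = ψ v8 * x
  xy : x * ψ y8 = ψ y8 * x
  xs : x * ψ s8 * x⁻¹ = ψ s8 * ψ z8
  nz : ¬ IsConj c (ψ z8)
  ns : ¬ IsConj c (ψ s8)
  nx : ¬ IsConj c x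
  nb : ¬ IsConj c (ψ s8 * x * c)
  odd : ∀ g, g * ψ a8 = ψ a8 * g → g * c = c * g

end CfsgLib.HN3
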