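import Cfsg.Agent.Lib.HN3.B4
import Cfsg.Agent.Lib.HN3.D
import Cfsg.Agent.S1674

/-! The 3-local characterisation of the Harada–Norton group (plans/HN3.md), package TOP. -/

set_option autoImplicit false
set_option linter.unusedSectionVars false

namespace CfsgLib.HN3

open Subgroup Cfsg CfsgLib.Tech CfsgLib.W2 CfsgLib.Rec3 PG

variable {G : Type*} [Group G] [Finite G] {t c x : G} {Ψ : PG 8 →* G}

theorem Eight.isoHN [IsSimpleGroup G] (h : Eight t c x Ψ) : Spor.IsoHN G := by
  have hE := h.toEi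
  obtain ⟨X, iX, fX, f, ψ, hf, hk, hψ, hb⟩ := h.exists_bar
  obtain ⟨N, hN, hi, ⟨eN⟩, hC, hy⟩ := hb.main
  have ht : orderOf t = 2 := orderOf_eq_prime (by rw [pow_two, h.tt]) h.t1
  let M : Subgroup (Cx t) := N.comap f
  let f' : M →* N := f.subgroupComap N
  have hf' : Function.Surjective f' := f.subgroupComap_surjective_of_surjective N hf
  have hcen : ∀ g : Cx t, (∀ m ∈ M, m * g = g * m) → f g = 1 := fun g hg => by
    rw [← mem_bot, ← hC]
    intro n hn
    obtain ⟨m, rfl⟩ := hf n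
    rw [← map_mul, ← map_mul, hg m hn]
  have hz : ∀ m : M, m ∈ center M ↔ ((m : Cx t) : G) = 1 ∨ ((m : Cx t) : G) = t := fun m => by
    rw [← B4.mem_zp hE, ← hk]
    constructor
    · intro hm
      exact hcen m fun a ha => congrArg Subtype.val (mem_center_iff.1 hm ⟨a, ha⟩)
    · intro hm
      rw [mem_center_iff]
      intro a
      apply Subtype.ext
      apply Subtype.ext
      change ((a : Cx t) : G) * (m : Cx t) = (m : Cx t) * (a : Cx t)
      rcases (B4.mem_zp hE).1 ((hk _).1 hm) with e | e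
      · rw [e, mul_one, one_mul]
      · rw [e]; exact mem_Cx.1 (a : Cx t).2
  have hker : center M = f'.ker := by
    ext m
    rw [hz, ← B4.mem_zp hE, ← hk, MonoidHom.mem_ker, Subtype.ext_iff]
    rfl
  let t' : M := ⟨⟨t, mem_Cx.2 rfl⟩, by
    change f _ ∈ N
    rw [(hk _).2 (mem_zpowers t)]; exact one_mem _⟩
  have ht'1 : t' ≠ 1 := fun e => h.t1 (congrArg (fun m : M => ((m : Cx t) : G)) e)
  have ht'c : t' ∈ center M := (hz _).2 (Or.inr rfl)
  refine Cfsg.Agent.S1674.result t ht M ?_ ?_ ⟨?_, ⟨?_⟩, ?_⟩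
  · rw [index_comap_of_surjective _ hf, hi]
  · intro g hg
    change f g ∈ N
    rw [hcen g fun m hm => hg m hm]; exact one_mem _
  · rw [Nat.card_eq_two_iff]
    refine ⟨1, ⟨t', ht'c⟩, fun e => ht'1 (congrArg Subtype.val e).symm, ?_⟩
    rw [Set.eq_univ_iff_forall]
    rintro ⟨m, hm⟩
    rcases (hz m).1 hm with e | e
    · exact Or.inl (Subtype.ext (Subtype.ext (Subtype.ext e)))
    · exact Or.inr (Subtype.ext (Subtype.ext (Subtype.ext e)))
  · exact ((QuotientGroup.quotientMulEquivOfEq hker).trans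
      (QuotientGroup.quotientKerEquivOfSurjective f' hf')).trans eN
  · intro L hL
    let y : M := ⟨⟨Ψ s8, mem_Cx.2 (h.Ψt _)⟩ * ⟨x, mem_Cx.2 h.xt⟩ * ⟨c, mem_Cx.2 h.ct⟩, by
      change f _ ∈ N
      rw [map_mul, map_mul, ← hψ]; exact hy⟩
    have hyy : y * y = t' := Subtype.ext (Subtype.ext (B4.sq_b h))
    obtain ⟨⟨⟨z, hzc⟩, ⟨l, hl⟩⟩, e⟩ := hL.2 y
    change z * l = y at e
    have hzz : z * z = 1 := by
      apply Subtype.ext
      apply Subtype.ext
      change ((z : Cx t) : G) * (z : Cx t) = 1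
      rcases (hz z).1 hzc with e | e
      · rw [e, mul_one]
      · rw [e, h.tt]
    have hzl : Commute z l := (mem_center_iff.1 hzc l).symm
    rw [← e, B4.mmc hzl, hzz, one_mul] at hyy
    exact ht'1 (disjoint_def.1 hL.disjoint ht'c (hyy ▸ mul_mem hl hl))

end CfsgLib.HN3
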